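import Cfsg.Agent.H148.D42

/-!
# Thompson's conjecture for `³D₄(2)`: the subgroup generated by the long root groups (helper148)
-/

set_option autoImplicit false

namespace Cfsg.Agent.H148.Hex

open Cfsg.Agent.SplitTwo Cfsg.Agent.TitsThree.RankTwoZ Cfsg.Agent.Lib.SL2Mat Cfsg.Agent.Cit.HexBase
  Cfsg.Agent.Cit.HexBase.HexGrp Cfsg.Agent.H148.SLTwo

universe u

/-! ### Six involutions satisfying the relations of `SL(3,2)` -/

section six

/-- the relations -/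
structure Six {G : Type*} [Group G] (a0 a2 a4 a6 a8 a10 : G) : Prop where
  s0 : a0 * a0 = 1
  s2 : a2 * a2 = 1
  s4 : a4 * a4 = 1
  s6 : a6 * a6 = 1
  s8 : a8 * a8 = 1
  s10 : a10 * a10 = 1
  c02 : a0 * a2 = a2 * a0
  c24 : a2 * a4 = a4 * a2
  c46 : a4 * a6 = a6 * a4
  c68 : a6 * a8 = a8 * a6
  c810 : a8 * a10 = a10 * a8
  c100 : a10 * a0 = a0 * a10
  r26 : a2 * a6 = a6 * a2 * a4
  r48 : a4 * a8 = a8 * a4 * a6
  r610 : a6 * a10 = a10 * a6 * a8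
  r80 : a8 * a0 = a0 * a8 * a10
  r102 : a10 * a2 = a2 * a10 * a0
  r04 : a0 * a4 = a4 * a0 * a2

variable {G : Type*} [Group G] {a0 a2 a4 a6 a8 a10 : G}

/-- conjugation of `a` by `b`, if `a b = b a c` -/
theorem conj_of {a b c : G} (h : a * b = b * a * c) : a * b * a⁻¹ = b * (a * c * a⁻¹) := by
  rw [h]
  group

theorem conj_self (a : G) : a * a * a⁻¹ = a := by group

theorem conj_comm {a b : G} (h : a * b = b * a) : a * b * a⁻¹ = b := by rw [h]; group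

/-- `b a b⁻¹` -/
theorem conj_of' {a b c : G} (h : a * b = b * a * c) (hcc : c * c = 1) : b * a * b⁻¹ = a * (b * c * b⁻¹) := by
  have h1 : b * a = a * b * c := by
    calc b * a = b * a * c * (c⁻¹) := by group
      _ = a * b * c⁻¹ := by rw [← h]
      _ = _ := by rw [inv_eq_of_mul_eq_one_right hcc]
  rw [h1]
  group

theorem conj_word (x b8 b10 b0 b2 b4 b6 : G) (i j k l m n : ℕ) :
    x * (b8 ^ i * b10 ^ j * b0 ^ k * b2 ^ l * b4 ^ m * b6 ^ n) * x⁻¹ =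
      (x * b8 * x⁻¹) ^ i * (x * b10 * x⁻¹) ^ j * (x * b0 * x⁻¹) ^ k * (x * b2 * x⁻¹) ^ l * (x * b4 * x⁻¹) ^ m *
        (x * b6 * x⁻¹) ^ n := by
  simp only [conj_pow]
  group

/-- the word -/
def wd (a0 a2 a4 a6 a8 a10 : G) (i j k l m n : ℕ) : G := a8 ^ i * a10 ^ j * a0 ^ k * a2 ^ l * a4 ^ m * a6 ^ n

variable (h : Six a0 a2 a4 a6 a8 a10)

include h

theorem step0 (i j k l m : ℕ) : a0 * wd a0 a2 a4 a6 a8 a10 i j k l m 0 * a0⁻¹ =
    wd a0 a2 a4 a6 a8 a10 i (i + j) k (l + m) m 0 := by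
  have e8 : a0 * a8 * a0⁻¹ = a8 * a10 := by rw [conj_of' h.r80 h.s10, conj_comm h.c100.symm]
  have e10 := conj_comm h.c100.symm
  have e2 := conj_comm h.c02
  have e4 : a0 * a4 * a0⁻¹ = a2 * a4 := by rw [conj_of h.r04, e2, h.c24]
  unfold wd
  rw [conj_word, e8, e10, conj_self, e2, e4, Commute.mul_pow h.c810, Commute.mul_pow h.c24, pow_zero, pow_zero, pow_add,
    pow_add]
  group

theorem step8 (i j k m n : ℕ) : a8 * wd a0 a2 a4 a6 a8 a10 i j k 0 m n * a8⁻¹ =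
    wd a0 a2 a4 a6 a8 a10 i (j + k) k 0 m (m + n) := by
  have e10 := conj_comm h.c810
  have e0 : a8 * a0 * a8⁻¹ = a10 * a0 := by rw [conj_of h.r80, e10, h.c100]
  have e6 := conj_comm h.c68.symm
  have e4 : a8 * a4 * a8⁻¹ = a4 * a6 := by rw [conj_of' h.r48 h.s6, e6]
  unfold wd
  rw [conj_word, conj_self, e10, e0, e4, e6, Commute.mul_pow h.c100, Commute.mul_pow h.c46, pow_zero, pow_zero, pow_add,
    pow_add]
  group

theorem step6 (i j l m n : ℕ) : a6 * wd a0 a2 a4 a6 a8 a10 i j 0 l m n * a6⁻¹ =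
    wd a0 a2 a4 a6 a8 a10 (i + j) j 0 l (l + m) n := by
  have e8 := conj_comm h.c68
  have e10 : a6 * a10 * a6⁻¹ = a8 * a10 := by rw [conj_of h.r610, e8, h.c810]
  have e4 := conj_comm h.c46.symm
  have e2 : a6 * a2 * a6⁻¹ = a2 * a4 := by rw [conj_of' h.r26 h.s4, e4]
  unfold wd
  rw [conj_word, conj_self, e8, e10, e2, e4, Commute.mul_pow h.c810, Commute.mul_pow h.c24, pow_zero, pow_zero, pow_add,
    pow_add]
  group

theorem step2 (j k l m n : ℕ) : a2 * wd a0 a2 a4 a6 a8 a10 0 j k l m n * a2⁻¹ =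
    wd a0 a2 a4 a6 a8 a10 0 j (j + k) l (m + n) n := by
  have e0 := conj_comm h.c02.symm
  have e10 : a2 * a10 * a2⁻¹ = a10 * a0 := by rw [conj_of' h.r102 h.s0, e0]
  have e4 := conj_comm h.c24
  have e6 : a2 * a6 * a2⁻¹ = a4 * a6 := by rw [conj_of h.r26, e4, h.c46]
  unfold wd
  rw [conj_word, conj_self, e0, e10, e6, e4, Commute.mul_pow h.c100, Commute.mul_pow h.c46, pow_zero, pow_zero, pow_add,
    pow_add]
  group

theorem pow_swap26 (l : ℕ) : a6 * a2 ^ l = a2 ^ l * a4 ^ l * a6 := by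
  have e4 := conj_comm h.c46.symm
  have e2 : a6 * a2 * a6⁻¹ = a2 * a4 := by rw [conj_of' h.r26 h.s4, e4]
  have : a6 * a2 ^ l * a6⁻¹ = a2 ^ l * a4 ^ l := by rw [← conj_pow, e2, Commute.mul_pow h.c24]
  rw [← this]
  group

theorem pow_swap08 (k : ℕ) : a0 ^ k * a8 = a8 * a10 ^ k * a0 ^ k := by
  have e10 := conj_comm h.c810
  have hi : a8⁻¹ = a8 := inv_eq_of_mul_eq_one_right h.s8
  have e0 : a8⁻¹ * a0 * a8⁻¹⁻¹ = a10 * a0 := by
    rw [hi, conj_of h.r80, e10, h.c100]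
  have : a8⁻¹ * a0 ^ k * a8⁻¹⁻¹ = a10 ^ k * a0 ^ k := by rw [← conj_pow, e0, Commute.mul_pow h.c100]
  rw [inv_inv] at this
  calc a0 ^ k * a8 = a8 * (a8⁻¹ * a0 ^ k * a8) := by group
    _ = _ := by rw [this]; group

/-- conjugation by `a4`, first case -/
theorem step4a (l m n : ℕ) : a4 * wd a0 a2 a4 a6 a8 a10 1 0 0 l m n * a4⁻¹ =
    wd a0 a2 a4 a6 a8 a10 1 0 0 l (l + m) (n + 1) := by
  have e6 := conj_comm h.c46
  have e8 : a4 * a8 * a4⁻¹ = a8 * a6 := by rw [conj_of h.r48, e6]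
  have e2 := conj_comm h.c24.symm
  unfold wd
  rw [conj_word, e8, e2, conj_self, e6, pow_one, pow_one, pow_zero, pow_zero, pow_zero, pow_zero, mul_one, mul_one,
    mul_one, mul_one]
  have k1 := pow_swap26 h l
  have k2 : a6 * a4 ^ m = a4 ^ m * a6 := (Commute.pow_right h.c46.symm m)
  calc a8 * a6 * a2 ^ l * a4 ^ m * a6 ^ n = a8 * (a6 * a2 ^ l) * a4 ^ m * a6 ^ n := by group
    _ = a8 * a2 ^ l * a4 ^ l * (a6 * a4 ^ m) * a6 ^ n := by rw [k1]; group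
    _ = _ := by rw [k2, pow_add, pow_succ']; group

/-- conjugation by `a4`, second case -/
theorem step4b (k l m n : ℕ) : a4 * wd a0 a2 a4 a6 a8 a10 0 0 k l m n * a4⁻¹ =
    wd a0 a2 a4 a6 a8 a10 0 0 k (k + l) m n := by
  have e6 := conj_comm h.c46
  have e2 := conj_comm h.c24.symm
  have e0 : a4 * a0 * a4⁻¹ = a0 * a2 := by rw [conj_of' h.r04 h.s2, e2]
  unfold wd
  rw [conj_word, e0, e2, conj_self, e6, Commute.mul_pow h.c02, pow_zero, pow_zero, pow_zero, pow_zero, pow_add]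
  group

/-- conjugation by `a10`, first case -/
theorem step10a (i j k l : ℕ) : a10 * wd a0 a2 a4 a6 a8 a10 i j k l 0 0 * a10⁻¹ =
    wd a0 a2 a4 a6 a8 a10 i j (k + l) l 0 0 := by
  have e8 := conj_comm h.c810.symm
  have e0 := conj_comm h.c100
  have e2 : a10 * a2 * a10⁻¹ = a0 * a2 := by rw [conj_of h.r102, e0, h.c02]
  unfold wd
  rw [conj_word, e8, e0, conj_self, e2, Commute.mul_pow h.c02, pow_zero, pow_zero, pow_zero, pow_zero, pow_add]
  group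

/-- conjugation by `a10`, second case -/
theorem step10b (i j k : ℕ) : a10 * wd a0 a2 a4 a6 a8 a10 i j k 0 0 1 * a10⁻¹ =
    wd a0 a2 a4 a6 a8 a10 (i + 1) (j + k) k 0 0 1 := by
  have e8 := conj_comm h.c810.symm
  have e0 := conj_comm h.c100
  have e6 : a10 * a6 * a10⁻¹ = a8 * a6 := by rw [conj_of' h.r610 h.s8, e8, h.c68]
  unfold wd
  rw [conj_word, e8, e0, conj_self, e6, pow_zero, pow_zero, pow_zero, pow_zero, mul_one, mul_one, mul_one, mul_one,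
    pow_one, pow_one]
  have k1 := pow_swap08 h k
  have k2 : a10 ^ j * a8 = a8 * a10 ^ j := (Commute.pow_right h.c810 j).symm
  calc a8 ^ i * a10 ^ j * a0 ^ k * (a8 * a6) = a8 ^ i * a10 ^ j * (a0 ^ k * a8) * a6 := by group
    _ = a8 ^ i * (a10 ^ j * a8) * a10 ^ k * a0 ^ k * a6 := by rw [k1]; group
    _ = _ := by rw [k2, pow_add, pow_succ]; group

end six

/-- the parity argument -/
theorem all_of_even {G : Type*} [Group G] {a0 a2 a4 a6 a8 a10 : G} (h : Six a0 a2 a4 a6 a8 a10) (P : G → Prop)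
    (hP : ∀ x ∈ ({a0, a2, a4, a6, a8, a10} : Set G), ∀ g, P (x * g * x⁻¹) → P g)
    (heven : ∀ i j k l m n : ℕ, (i + k + l + n) % 2 = 0 → P (wd a0 a2 a4 a6 a8 a10 i j k l m n))
    (i j k l m n : ℕ) (hi : i ≤ 1) (hj : j ≤ 1) (hk : k ≤ 1) (hl : l ≤ 1) (hm : m ≤ 1) (hn : n ≤ 1) :
    P (wd a0 a2 a4 a6 a8 a10 i j k l m n) := by
  by_cases hpar : (i + k + l + n) % 2 = 0
  · exact heven _ _ _ _ _ _ hpar
  by_cases h1 : (i + k) % 2 = 1
  · -- `i + k` odd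
    by_cases hj0 : j = 0
    · subst hj0
      by_cases hi0 : i = 0
      · subst hi0
        refine hP a4 (by simp) _ ?_
        rw [step4b h]
        exact heven _ _ _ _ _ _ (by omega)
      · have hi1 : i = 1 := by omega
        have hk0 : k = 0 := by omega
        subst hi1 hk0
        refine hP a4 (by simp) _ ?_
        rw [step4a h]
        exact heven _ _ _ _ _ _ (by omega)
    · have hj1 : j = 1 := by omega
      subst hj1
      by_cases hi0 : i = 0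
      · subst hi0
        refine hP a2 (by simp) _ ?_
        rw [step2 h]
        exact heven _ _ _ _ _ _ (by omega)
      · have hk0 : k = 0 := by omega
        subst hk0
        refine hP a6 (by simp) _ ?_
        rw [step6 h]
        exact heven _ _ _ _ _ _ (by omega)
  · -- `l + n` odd
    by_cases hm0 : m = 0
    · subst hm0
      by_cases hn0 : n = 0
      · subst hn0
        refine hP a10 (by simp) _ ?_
        rw [step10a h]
        exact heven _ _ _ _ _ _ (by omega)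
      · have hn1 : n = 1 := by omega
        have hl0 : l = 0 := by omega
        subst hn1 hl0
        refine hP a10 (by simp) _ ?_
        rw [step10b h]
        exact heven _ _ _ _ _ _ (by omega)
    · have hm1 : m = 1 := by omega
      subst hm1
      by_cases hn0 : n = 0
      · subst hn0
        refine hP a0 (by simp) _ ?_
        rw [step0 h]
        exact heven _ _ _ _ _ _ (by omega)
      · have hl0 : l = 0 := by omega
        subst hl0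
        refine hP a8 (by simp) _ ?_
        rw [step8 h]
        exact heven _ _ _ _ _ _ (by omega)

/-! ### The long root groups -/

variable {E : Type*} [Field E] {σ : E ≃+* E} {L : Type u} [Group L] {c : HexGrp σ L}

/-- the nontrivial element of `X (2 + 2 r)` -/
def yy (c : HexGrp σ L) (r : ℕ) : L := (c.n1 * c.n6) ^ r * c.x2 1 * ((c.n1 * c.n6) ^ r)⁻¹

theorem yy_mem (r : ℕ) : yy c r ∈ c.X (2 + 2 * r) := (c.maps_rot r _ _).2 (c.mem2 (map_one σ))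

theorem yy_add (r s : ℕ) : yy c (r + s) = (c.n1 * c.n6) ^ r * yy c s * ((c.n1 * c.n6) ^ r)⁻¹ := by
  unfold yy
  rw [pow_add]
  group

theorem yy_ne (r : ℕ) : yy c r ≠ 1 := by
  intro h
  unfold yy at h
  rw [mul_inv_eq_one] at h
  have h1 : c.x2 1 = 1 := mul_eq_left.1 h
  rw [← c.x2_zero] at h1
  exact one_ne_zero (c.x2_inj (map_one σ) (map_zero σ) h1)

theorem yy_sq [CharP E 2] (r : ℕ) : yy c r * yy c r = 1 := by
  have h : c.x2 1 * c.x2 1 = 1 := by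
    rw [← c.x2_add (map_one σ) (map_one σ)]
    have : (1 : E) + 1 = 0 := by linear_combination two_eq_zero E
    rw [this, c.x2_zero]
  unfold yy
  calc _ = (c.n1 * c.n6) ^ r * (c.x2 1 * c.x2 1) * ((c.n1 * c.n6) ^ r)⁻¹ := by group
    _ = 1 := by rw [h]; group

/-- uniqueness -/
theorem eq_yy (hσ : ∀ x, σ x = x ^ 2) {r : ℕ} {k : ZMod (2 * 6)} (hk : k = 2 + 2 * r) {a : L} (ha : a ∈ c.X k)
    (h1 : a ≠ 1) : a = yy c r := by
  subst hk
  have h2 : ((c.n1 * c.n6) ^ r)⁻¹ * a * (c.n1 * c.n6) ^ r ∈ c.X 2 := maps_mem' (c.maps_rot r) ha rfl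
  obtain ⟨t, ht, e⟩ := (c.par.mem2 _).1 h2
  rcases fix_cases hσ ht with h0 | h0
  · exfalso
    apply h1
    rw [h0, c.x2_zero] at e
    calc a = (c.n1 * c.n6) ^ r * (((c.n1 * c.n6) ^ r)⁻¹ * a * (c.n1 * c.n6) ^ r) * ((c.n1 * c.n6) ^ r)⁻¹ := by group
      _ = 1 := by rw [← e]; group
  · rw [h0] at e
    unfold yy
    rw [e]
    group

theorem yy_conj (hσ : ∀ x, σ x = x ^ 2) {n : L} {f : ZMod (2 * 6) → ZMod (2 * 6)} (hn : Maps c.X n f) {r s : ℕ}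
    (hf : f (2 + 2 * r) = 2 + 2 * s) : n * yy c r * n⁻¹ = yy c s := by
  refine eq_yy hσ rfl (maps_mem hn (yy_mem r) hf) ?_
  intro h
  rw [mul_inv_eq_one] at h
  exact yy_ne r (mul_eq_left.1 h)

theorem yy_one (hσ : ∀ x, σ x = x ^ 2) : yy c 1 = c.x4 1 := by
  refine (eq_yy hσ (k := 4) (by decide) (c.mem4 (map_one σ)) ?_).symm
  intro h
  rw [← c.x4_zero] at h
  exact one_ne_zero (c.x4_inj (map_one σ) (map_zero σ) h)

theorem yy_two (hσ : ∀ x, σ x = x ^ 2) : yy c 2 = c.x6 1 := by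
  refine (eq_yy hσ (k := 6) (by decide) (c.mem6 (map_one σ)) ?_).symm
  intro h
  rw [← c.x6_zero] at h
  exact one_ne_zero (c.x6_inj (map_one σ) (map_zero σ) h)

theorem yy_zero : yy c 0 = c.x2 1 := by
  unfold yy
  group

theorem yy_comm (hσ : ∀ x, σ x = x ^ 2) (r : ℕ) : yy c r * yy c (r + 1) = yy c (r + 1) * yy c r := by
  have h := comm24 c (map_one σ) (map_one σ)
  rw [← yy_one hσ, ← yy_zero (c := c)] at h
  have e0 : yy c r = (c.n1 * c.n6) ^ r * yy c 0 * ((c.n1 * c.n6) ^ r)⁻¹ := yy_add r 0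
  rw [e0, yy_add r 1]
  calc _ = (c.n1 * c.n6) ^ r * (yy c 0 * yy c 1) * ((c.n1 * c.n6) ^ r)⁻¹ := by group
    _ = _ := by rw [h]; group

theorem yy_rel (hσ : ∀ x, σ x = x ^ 2) (r : ℕ) : yy c r * yy c (r + 2) = yy c (r + 2) * yy c r * yy c (r + 1) := by
  have h := c.par.rel.c26 1 1 (map_one σ) (map_one σ)
  rw [mul_one] at h
  have h' := mul_eq_kk (c.x2 1) (c.x6 1)
  rw [h, ← yy_one hσ, ← yy_zero (c := c), ← yy_two hσ] at h'
  have e0 : yy c r = (c.n1 * c.n6) ^ r * yy c 0 * ((c.n1 * c.n6) ^ r)⁻¹ := yy_add r 0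
  rw [e0, yy_add r 1, yy_add r 2]
  calc _ = (c.n1 * c.n6) ^ r * (yy c 0 * yy c 2) * ((c.n1 * c.n6) ^ r)⁻¹ := by group
    _ = _ := by rw [h']; group

theorem yy_six (hσ : ∀ x, σ x = x ^ 2) : yy c 6 = yy c 0 := eq_yy hσ (by decide) (yy_mem 6) (yy_ne 6)
theorem yy_seven (hσ : ∀ x, σ x = x ^ 2) : yy c 7 = yy c 1 := eq_yy hσ (by decide) (yy_mem 7) (yy_ne 7)

theorem six [CharP E 2] (hσ : ∀ x, σ x = x ^ 2) : Six (yy c 5) (yy c 0) (yy c 1) (yy c 2) (yy c 3) (yy c 4) where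
  s0 := yy_sq 5
  s2 := yy_sq 0
  s4 := yy_sq 1
  s6 := yy_sq 2
  s8 := yy_sq 3
  s10 := yy_sq 4
  c02 := by have := yy_comm (c := c) hσ 5; rwa [yy_six hσ] at this
  c24 := yy_comm hσ 0
  c46 := yy_comm hσ 1
  c68 := yy_comm hσ 2
  c810 := yy_comm hσ 3
  c100 := yy_comm hσ 4
  r26 := yy_rel hσ 0
  r48 := yy_rel hσ 1
  r610 := yy_rel hσ 2
  r80 := yy_rel hσ 3
  r102 := by have := yy_rel (c := c) hσ 4; rwa [yy_six hσ] at this
  r04 := by have := yy_rel (c := c) hσ 5; rwa [yy_six hσ, yy_seven hσ] at this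

theorem yy_T0 (hσ : ∀ x, σ x = x ^ 2) {t : L} (ht : t ∈ c.T0) (r : ℕ) : t * yy c r = yy c r * t := by
  obtain ⟨c1, c6, h⟩ := ht
  have := yy_conj hσ h.maps (r := r) (s := r) rfl
  exact mul_inv_eq_iff_eq_mul.1 this

theorem exists_pow (hσ : ∀ x, σ x = x ^ 2) {r : ℕ} {k : ZMod (2 * 6)} (hk : k = 2 + 2 * r) {a : L} (ha : a ∈ c.X k) :
    ∃ i : ℕ, i ≤ 1 ∧ a = yy c r ^ i := by
  by_cases h1 : a = 1
  · exact ⟨0, by norm_num, by rw [h1, pow_zero]⟩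
  · exact ⟨1, le_refl 1, by rw [pow_one]; exact eq_yy hσ hk ha h1⟩

theorem x2_pow (i : ℕ) : c.x2 1 ^ i = c.x2 (i : E) := by
  induction i with
  | zero => rw [pow_zero, Nat.cast_zero, c.x2_zero]
  | succ i ih => rw [pow_succ, ih, Nat.cast_succ, c.x2_add (map_natCast σ i) (map_one σ)]

theorem x4_pow (i : ℕ) : c.x4 1 ^ i = c.x4 (i : E) := by
  induction i with
  | zero => rw [pow_zero, Nat.cast_zero, c.x4_zero]
  | succ i ih => rw [pow_succ, ih, Nat.cast_succ, c.x4_add (map_natCast σ i) (map_one σ)]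

theorem x6_pow (i : ℕ) : c.x6 1 ^ i = c.x6 (i : E) := by
  induction i with
  | zero => rw [pow_zero, Nat.cast_zero, c.x6_zero]
  | succ i ih => rw [pow_succ, ih, Nat.cast_succ, c.x6_add (map_natCast σ i) (map_one σ)]

theorem NF_pows (i j k : ℕ) : c.NF (c.x2 1 ^ i * c.x4 1 ^ j * c.x6 1 ^ k) (i : E) 0 0 (k : E) := by
  rw [x2_pow, x4_pow, x6_pow]
  exact (((c.nf2 (map_natCast σ i)).mul (c.nf4 (map_natCast σ j))).mul (c.nf6 (map_natCast σ k))).congr rfl (by ring)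
    (by ring) (by ring) (by ring)

theorem NF_pows' (i j k : ℕ) : c.NF (c.x6 1 ^ i * c.x4 1 ^ j * c.x2 1 ^ k) (k : E) 0 0 (i : E) := by
  rw [x2_pow, x4_pow, x6_pow]
  exact (((c.nf6 (map_natCast σ i)).mul (c.nf4 (map_natCast σ j))).mul (c.nf2 (map_natCast σ k))).congr rfl (by ring)
    (by ring) (by ring) (by ring)

variable [Fintype E] [Finite L] [CharP E 2] [CharP ↥(fx σ) 2] {τ : ↥(fx σ)} {s0 : L} {c1 : E}

/-- even words -/
theorem even_word (D : Dat c τ s0 c1) (hσ : ∀ x, σ x = x ^ 2) {l0 : E} (hl0 : l0 ≠ 0) (hl1 : l0 ≠ 1)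
    (i j k l m n : ℕ) (hpar : (i + k + l + n) % 2 = 0) :
    Pr (c.pa (comp ↥(fx σ) τ) * s0)
      (c.pb (dg l0 hl0) * wd (yy c 5) (yy c 0) (yy c 1) (yy c 2) (yy c 3) (yy c 4) i j k l m n) := by
  by_contra hg
  obtain ⟨q', hq'⟩ : ∃ q', q' = yy c 3 ^ i * yy c 4 ^ j * yy c 5 ^ k := ⟨_, rfl⟩
  obtain ⟨q, hq⟩ : ∃ q, q = yy c 0 ^ l * yy c 1 ^ m * yy c 2 ^ n := ⟨_, rfl⟩
  have m3 : yy c 3 ∈ c.X 8 := yy_mem 3
  have m4 : yy c 4 ∈ c.X 10 := yy_mem 4
  have m5 : yy c 5 ∈ c.X 0 := yy_mem 5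
  have m0 : yy c 0 ∈ c.X 2 := yy_mem 0
  have m1 : yy c 1 ∈ c.X 4 := yy_mem 1
  have m2 : yy c 2 ∈ c.X 6 := yy_mem 2
  have hq'm : q' ∈ Sg c.X Qa' := by
    rw [hq']
    exact mul_mem (mul_mem (pow_mem (c.sg (by decide) m3) _) (pow_mem (c.sg (by decide) m4) _))
      (pow_mem (c.sg (by decide) m5) _)
  have hqm : q ∈ Sg c.X Qa := by
    rw [hq]
    exact mul_mem (mul_mem (pow_mem (c.sg (by decide) m0) _) (pow_mem (c.sg (by decide) m1) _))
      (pow_mem (c.sg (by decide) m2) _)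
  have hT : c.pb (dg l0 hl0) ∈ c.T0 := pb_dg_T0 c l0 hl0
  have hcomm : c.pb (dg l0 hl0) * q' = q' * c.pb (dg l0 hl0) := by
    rw [hq']
    have k3 : Commute (c.pb (dg l0 hl0)) (yy c 3) := yy_T0 hσ hT 3
    have k4 : Commute (c.pb (dg l0 hl0)) (yy c 4) := yy_T0 hσ hT 4
    have k5 : Commute (c.pb (dg l0 hl0)) (yy c 5) := yy_T0 hσ hT 5
    exact ((k3.pow_right i).mul_right (k4.pow_right j)).mul_right (k5.pow_right k)
  have hF : FA c (c.pb (dg l0 hl0) * wd (yy c 5) (yy c 0) (yy c 1) (yy c 2) (yy c 3) (yy c 4) i j k l m n) q'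
      (dg l0 hl0) 1 one_ne_zero q := by
    refine ⟨hq'm, hqm, ?_⟩
    rw [dg_one', map_one, mul_one, ← hcomm, hq', hq]
    unfold wd
    group
  have hinv1 : Maps c.X c.n1⁻¹ (fun k => 8 - k) := c.maps_n1.inv fun k => by ring
  have hinv4 : Maps c.X c.n4⁻¹ (fun k => 2 - k) := c.maps_n4.inv fun k => by ring
  have h14 : Maps c.X (c.n1⁻¹ * c.n4⁻¹) (fun k => 6 + k) := (hinv1.mul hinv4).congr fun k => by
    simp only [Function.comp]
    ring
  have ha : c.NF (c.n1⁻¹ * (c.n4⁻¹ * q' * c.n4) * c.n1) (i : E) 0 0 (k : E) := by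
    have e3 : c.n1⁻¹ * c.n4⁻¹ * yy c 3 * (c.n1⁻¹ * c.n4⁻¹)⁻¹ = yy c 0 := yy_conj hσ h14 (by decide)
    have e4 : c.n1⁻¹ * c.n4⁻¹ * yy c 4 * (c.n1⁻¹ * c.n4⁻¹)⁻¹ = yy c 1 := yy_conj hσ h14 (by decide)
    have e5 : c.n1⁻¹ * c.n4⁻¹ * yy c 5 * (c.n1⁻¹ * c.n4⁻¹)⁻¹ = yy c 2 := yy_conj hσ h14 (by decide)
    have e : c.n1⁻¹ * (c.n4⁻¹ * q' * c.n4) * c.n1 = yy c 0 ^ i * yy c 1 ^ j * yy c 2 ^ k := by
      rw [← e3, ← e4, ← e5, conj_pow, conj_pow, conj_pow, hq']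
      group
    rw [e, yy_zero, yy_one hσ, yy_two hσ]
    exact NF_pows i j k
  have hb : c.NF (c.n1⁻¹ * q * c.n1) (n : E) 0 0 (l : E) := by
    have e0 : c.n1⁻¹ * yy c 0 * c.n1⁻¹⁻¹ = yy c 2 := yy_conj hσ hinv1 (by decide)
    have e1 : c.n1⁻¹ * yy c 1 * c.n1⁻¹⁻¹ = yy c 1 := yy_conj hσ hinv1 (by decide)
    have e2 : c.n1⁻¹ * yy c 2 * c.n1⁻¹⁻¹ = yy c 0 := yy_conj hσ hinv1 (by decide)
    have e : c.n1⁻¹ * q * c.n1 = (c.n1⁻¹ * yy c 0 * c.n1⁻¹⁻¹) ^ l * (c.n1⁻¹ * yy c 1 * c.n1⁻¹⁻¹) ^ m *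
        (c.n1⁻¹ * yy c 2 * c.n1⁻¹⁻¹) ^ n := by
      rw [conj_pow, conj_pow, conj_pow, hq]
      group
    rw [e, e0, e1, e2, yy_zero, yy_one hσ, yy_two hσ]
    exact NF_pows' l m n
  have hC := cond_of_bad D hσ hg hF ha hb
  have hll : l0 * l0⁻¹ = 1 := mul_inv_cancel₀ hl0
  have h20 := two_eq_zero E
  have h1 := hC 1 1 1 l0⁻¹ (by
    intro h0
    exact hl1 (by linear_combination (-l0) * h0 + hll)) (Or.inl (by
      rw [dg_00, dg_01, dg_10, dg_11]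
      linear_combination hll + (1 - l0⁻¹) * h20))
  have h3 : cf σ (i : E) 0 0 (k : E) 1 1 = (i : E) + k := by
    unfold cf trc
    rw [nrm_one]
    simp
  have h4 : cf σ (n : E) 0 0 (l : E) 1 l0⁻¹ = (n : E) + l := by
    unfold cf trc
    rw [nrm_one, D.nrm1 _ (inv_ne_zero hl0)]
    simp
  rw [h3, h4] at h1
  have h5 : ((i + k + l + n : ℕ) : E) = 0 := by
    obtain ⟨w, hw⟩ := Nat.dvd_of_mod_eq_zero hpar
    rw [hw]
    push_cast
    rw [h20, zero_mul]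
  push_cast at h5
  exact one_ne_zero (α := E) (by linear_combination h5 - h1)

/-- **Thompson's conjecture for `³D₄(2)`.** -/
theorem main8 (D : Dat c τ s0 c1) (hσ : ∀ x, σ x = x ^ 2) (h8 : Fintype.card E = 8) (g : L) :
    Pr (c.pa (comp ↥(fx σ) τ) * s0) g := by
  by_contra hg
  obtain ⟨y, v, hv, t, ht, u, hu, e⟩ := exists_conj_cell (c := c) g
  have hg' : ¬ Pr (c.pa (comp ↥(fx σ) τ) * s0) (y * g * y⁻¹) := fun h => hg (Pr.of_conj _ h)
  obtain ⟨q', hq', w7, h7, rfl⟩ := c.exists_mul' (k := 7) (s := Qa') (by decide +kernel)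
    (Sg_mono (by decide +kernel) hv : v ∈ Sg c.X (insert 7 Qa'))
  obtain ⟨w1, h1, q, hq, rfl⟩ := c.exists_mul (k := 1) (s := Qa) (by decide +kernel)
    (Sg_mono (by decide +kernel) hu : u ∈ Sg c.X (insert 1 Qa))
  obtain ⟨a, rfl⟩ := (c.pb_lo _).1 h7
  obtain ⟨b, rfl⟩ := (c.par.mem1 _).1 h1
  obtain ⟨s, hs, r, hr, rfl⟩ := ht
  have hF := FA_of (c := c) hq' hq a s b hs r hr
  have e' : y * g * y⁻¹ = q' * c.pb (lo a) * (c.pb (dg s hs) * c.pa (dg r hr)) * c.pb (up b) * q := by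
    rw [e, c.pb_up]
    group
  rw [← e'] at hF
  have hr1 := r_one hσ hr
  subst hr1
  obtain ⟨y', x8, h8', x10, h10, x0, h0', x2, h2, x4, h4, x6, h6', l0, hl0, hl1, e2⟩ := exists_shape D hσ h8 hg' hF
  have hg2 : ¬ Pr (c.pa (comp ↥(fx σ) τ) * s0) (y' * (y * g * y⁻¹) * y'⁻¹) := fun h => hg' (Pr.of_conj _ h)
  apply hg2
  rw [e2]
  obtain ⟨i, hi, rfl⟩ := exists_pow hσ (r := 3) (by decide) h8'
  obtain ⟨j, hj, rfl⟩ := exists_pow hσ (r := 4) (by decide) h10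
  obtain ⟨k, hk, rfl⟩ := exists_pow hσ (r := 5) (by decide) h0'
  obtain ⟨l, hl, rfl⟩ := exists_pow hσ (r := 0) (by decide) h2
  obtain ⟨m, hm, rfl⟩ := exists_pow hσ (r := 1) (by decide) h4
  obtain ⟨n, hn, rfl⟩ := exists_pow hσ (r := 2) (by decide) h6'
  have hT : c.pb (dg l0 hl0) ∈ c.T0 := pb_dg_T0 c l0 hl0
  have hcomm : (yy c 3 ^ i * yy c 4 ^ j * yy c 5 ^ k) * c.pb (dg l0 hl0) =
      c.pb (dg l0 hl0) * (yy c 3 ^ i * yy c 4 ^ j * yy c 5 ^ k) := by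
    have k3 : Commute (c.pb (dg l0 hl0)) (yy c 3) := yy_T0 hσ hT 3
    have k4 : Commute (c.pb (dg l0 hl0)) (yy c 4) := yy_T0 hσ hT 4
    have k5 : Commute (c.pb (dg l0 hl0)) (yy c 5) := yy_T0 hσ hT 5
    exact (((k3.pow_right i).mul_right (k4.pow_right j)).mul_right (k5.pow_right k)).symm
  have efin : yy c 3 ^ i * yy c 4 ^ j * yy c 5 ^ k * c.pb (dg l0 hl0) * (yy c 0 ^ l * yy c 1 ^ m * yy c 2 ^ n) =
      c.pb (dg l0 hl0) * wd (yy c 5) (yy c 0) (yy c 1) (yy c 2) (yy c 3) (yy c 4) i j k l m n := by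
    rw [hcomm]
    unfold wd
    group
  rw [efin]
  refine all_of_even (six hσ) (fun w => Pr (c.pa (comp ↥(fx σ) τ) * s0) (c.pb (dg l0 hl0) * w)) ?_
    (fun i j k l m n hpar => even_word D hσ hl0 hl1 i j k l m n hpar) i j k l m n hi hj hk hl hm hn
  intro x hx w hw
  have hxc : c.pb (dg l0 hl0) * x = x * c.pb (dg l0 hl0) := by
    simp only [Set.mem_insert_iff, Set.mem_singleton_iff] at hx
    rcases hx with rfl | rfl | rfl | rfl | rfl | rfl <;> exact yy_T0 hσ hT _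
  refine Pr.of_conj x ?_
  have : x * (c.pb (dg l0 hl0) * w) * x⁻¹ = c.pb (dg l0 hl0) * (x * w * x⁻¹) := by
    calc x * (c.pb (dg l0 hl0) * w) * x⁻¹ = (x * c.pb (dg l0 hl0)) * w * x⁻¹ := by group
      _ = _ := by rw [← hxc]; group
  rw [this]
  exact hw

end Cfsg.Agent.H148.Hex
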