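import Cfsg.Agent.H148.G24

/-!
# Thompson's conjecture for `G₂(4)`, II (helper148)
-/

set_option autoImplicit false

namespace Cfsg.Agent.H148.Hex

open Cfsg.Agent.SplitTwo Cfsg.Agent.TitsThree.RankTwoZ Cfsg.Agent.Lib.SL2Mat Cfsg.Agent.Cit.HexBase
  Cfsg.Agent.Cit.HexBase.HexGrp Cfsg.Agent.H148.SLTwo

universe u

variable {E : Type*} [Field E] {σ : E ≃+* E} {L : Type u} [Group L] {c : HexGrp σ L}

/-- the component in `X 6` is a value of the cubic form -/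
theorem NF_six [CharP E 2] (hN : ∀ s : E, s ≠ 0 → nrm σ s = 1) {q : L} {b2 b3 b5 b6 : E}
    (hq : c.NF (c.n1⁻¹ * q * c.n1) b2 b3 b5 b6) {d2 d3 d5 d6 : E}
    (h : c.NF q d2 d3 d5 d6) : d6 = cf σ b2 b3 b5 b6 0 1 := by
  have := NF_pb hN hq 1 (h.congr (by rw [map_one]; group) rfl rfl rfl rfl)
  rwa [ent_one_10, ent_one_11] at this

theorem lo_ne_one {d : ↥(fx σ)} (hd : d ≠ 0) : c.pa (lo d) ≠ 1 := by
  intro h
  apply hd
  have h1 := c.disjA 0 d (by rw [up_zero, map_one, h])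
  have h2 : c.n6⁻¹ * c.pa (lo d) * c.n6 = 1 := by rw [h]; group
  have h3 := n6_pa_up (c := c) (-d)
  rw [neg_neg] at h3
  rw [← h3] at h2
  have h4 : c.pa (up (-d)) = 1 := by
    rw [← h2]
    group
  have h5 := c.disjA (-d) 0 (by rw [lo_zero, map_one, h4])
  exact neg_eq_zero.1 h5

theorem mem_X10_of {q' : L} (h : c.n4⁻¹ * q' * c.n4 ∈ c.X 4) : q' ∈ c.X 10 := by
  have : q' = c.n4 * (c.n4⁻¹ * q' * c.n4) * c.n4⁻¹ := by group
  rw [this]
  exact maps_mem c.maps_n4 h (by decide)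

theorem pb_comm10 (y : SL2 E) {x : L} (hx : x ∈ c.X 10) : c.pb y * x * (c.pb y)⁻¹ = x := by
  obtain ⟨t, rfl⟩ := c.mem_X10.1 hx
  rw [c.comm_pb_p4, mul_inv_cancel_right]

theorem conj_one' (y : SL2 E) (h : ((1 : ↥(fx σ)) : E)⁻¹ ≠ 0) : conjGL (dgl ((1 : ↥(fx σ)) : E)⁻¹ h) y = y := by
  rw [conjGL_dgl_ent]
  refine ext_ent ?_ ?_ ?_ ?_ <;> simp

theorem FA.conj_pb1 {g q' q : L} {M : SL2 E} (h : FA c g q' M 1 one_ne_zero q) (m : SL2 E) :
    FA c (c.pb m * g * (c.pb m)⁻¹) (c.pb m * q' * (c.pb m)⁻¹) (m * M * m⁻¹) 1 one_ne_zero (c.pb m * q * (c.pb m)⁻¹) := by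
  have := h.conj_pb m
  rwa [conj_one'] at this

/-- an element of `SL(2,E)` all of whose conjugates with nonzero first entry are lower triangular -/
theorem eq_one_of_conj [CharP E 2] {c1 : E} (h0 : c1 ≠ 0) (h1 : c1 ≠ 1) {M : SL2 E}
    (h : ∀ m : SL2 E, ent (m * M * m⁻¹) 0 0 ≠ 0 → ent (m * M * m⁻¹) 0 1 = 0) : M = 1 := by
  have h20 := two_eq_zero E
  by_cases hM : ent M 0 1 = 0 ∧ ent M 1 0 = 0 ∧ ent M 0 0 = ent M 1 1
  · obtain ⟨e1, e2, e3⟩ := hM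
    have hd := det_eq M
    rw [e1, ← e3] at hd
    have : (ent M 0 0 - 1) ^ 2 = 0 := by linear_combination hd + (1 - ent M 0 0) * h20
    have h00 : ent M 0 0 = 1 := sub_eq_zero.1 (pow_eq_zero_iff (by norm_num) |>.1 this)
    refine ext_ent ?_ ?_ ?_ ?_
    · rw [h00, ent_one_00]
    · rw [e1, ent_one_01]
    · rw [e2, ent_one_10]
    · rw [← e3, h00, ent_one_11]
  · exfalso
    obtain ⟨y, hy⟩ := exists_entry M hM 1
    have h01 := h y (by rw [hy]; exact one_ne_zero)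
    obtain ⟨N, hN⟩ : ∃ N, N = y * M * y⁻¹ := ⟨_, rfl⟩
    rw [← hN] at hy h01
    have hd := det_eq N
    rw [hy, h01] at hd
    have h11 : ent N 1 1 = 1 := by linear_combination hd
    have h10 : ent N 1 0 ≠ 0 := by
      intro h10
      apply hM
      have hN1 : N = 1 := by
        refine ext_ent ?_ ?_ ?_ ?_
        · rw [hy, ent_one_00]
        · rw [h01, ent_one_01]
        · rw [h10, ent_one_10]
        · rw [h11, ent_one_11]
      have hM1 : M = 1 := by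
        have : M = y⁻¹ * N * y := by rw [hN]; group
        rw [this, hN1]
        group
      rw [hM1]
      exact ⟨rfl, rfl, rfl⟩
    have h2 := h (up (c1 / ent N 1 0) * y)
    have e : up (c1 / ent N 1 0) * y * M * (up (c1 / ent N 1 0) * y)⁻¹ = up (c1 / ent N 1 0) * N * up (-(c1 / ent N 1 0)) := by
      rw [hN, ← up_inv]
      group
    rw [e] at h2
    simp only [ent_mul, up_00, up_01, up_10, up_11, hy, h01, h11] at h2
    have h3 := h2 (by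
      intro h3
      apply h1
      have h4 : 1 + c1 = 0 := by
        have : c1 / ent N 1 0 * ent N 1 0 = c1 := div_mul_cancel₀ _ h10
        linear_combination h3 - this
      linear_combination h4 - h20)
    have h5 : c1 ^ 2 = 0 := by
      have h6 : c1 / ent N 1 0 * ent N 1 0 = c1 := div_mul_cancel₀ _ h10
      linear_combination (-(ent N 1 0)) * h3 - (c1 + c1 / ent N 1 0 * ent N 1 0) * h6
    exact h0 (pow_eq_zero_iff (by norm_num) |>.1 h5)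

variable [Fintype E] [Finite L] [CharP E 2] [CharP ↥(fx σ) 2] {τ : ↥(fx σ)} {s0 : L} {c1 : E}

/-- stage 1, group theoretic form -/
theorem stage1' (D : Dat c τ s0 c1) (hσ : ∀ x, σ x = x) (h4 : Fintype.card E = 4) {g : L}
    (hg : ¬ Pr (c.pa (comp ↥(fx σ) τ) * s0) g) {q' q : L} {M : SL2 E} {r : ↥(fx σ)} {hr : r ≠ 0}
    (hF : FA c g q' M r hr q) :
    r = 1 ∧ ((q' ∈ c.X 10 ∧ ∀ b2 b3 b5 b6, c.NF q b2 b3 b5 b6 → b6 ≠ 0) ∨ (q ∈ c.X 4 ∧ q' ∉ c.X 10)) := by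
  have hinv : Maps c.X c.n1⁻¹ (fun k => 8 - k) := c.maps_n1.inv fun k => by ring
  have m1 : c.n1⁻¹ * (c.n4⁻¹ * q' * c.n4) * c.n1 ∈ c.Q4 := by
    have := conj_Sg hinv (s := Qa) (t := Qa) (by decide +kernel) (n4_inv_mem hF.1)
    rwa [inv_inv] at this
  have m2 : c.n1⁻¹ * q * c.n1 ∈ c.Q4 := by
    have := conj_Sg hinv (s := Qa) (t := Qa) (by decide +kernel) hF.2.1
    rwa [inv_inv] at this
  obtain ⟨a2, a3, a5, a6, ha⟩ := c.exists_NF m1
  obtain ⟨b2, b3, b5, b6, hb⟩ := c.exists_NF m2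
  obtain ⟨hr1, h⟩ := stage1 D hσ h4 hg hF ha hb
  refine ⟨Subtype.ext hr1, ?_⟩
  rcases h with ⟨h1, h2⟩ | ⟨h1, h2⟩
  · left
    refine ⟨mem_X10_of (mem_X4_of_cf hσ D.act.ne1 D.ne1 ha h1), fun d2 d3 d5 d6 hd => ?_⟩
    rw [NF_six D.nrm1 hb hd]
    exact h2 0 1 (Or.inr one_ne_zero)
  · right
    refine ⟨mem_X4_of_cf hσ D.act.ne1 D.ne1 hb h2, fun h10 => ?_⟩
    have h5 : c.n4⁻¹ * q' * c.n4 ∈ c.X 4 := maps_mem' c.maps_n4 h10 (by decide)
    have h6 : c.n1⁻¹ * (c.n4⁻¹ * q' * c.n4) * c.n1 ∈ c.X 4 := maps_mem' c.maps_n1 h5 (by decide)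
    obtain ⟨t, ht, e⟩ := (c.par.mem4 _).1 h6
    rw [← e] at ha
    obtain ⟨k2, k3, k5, k6⟩ := ha.unique (c.nf4 ht)
    refine h1 0 1 (Or.inr one_ne_zero) ?_
    rw [cf4 hσ, k2, k3, k5, k6]
    ring

/-- the new frame -/
theorem step_n6 (D : Dat c τ s0 c1) (hσ : ∀ x, σ x = x) (h4 : Fintype.card E = 4) {g : L}
    (hg : ¬ Pr (c.pa (comp ↥(fx σ) τ) * s0) g) {q' q : L} {M : SL2 E}
    (hF : FA c g q' M 1 one_ne_zero q) (hq' : q' ∈ c.X 10) (hq4 : q ∉ c.X 4) (h0 : ent M 0 0 ≠ 0) :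
    ent M 0 1 = 0 ∧ ∃ g2 q2' q2 s hs u5 d6, ¬ Pr (c.pa (comp ↥(fx σ) τ) * s0) g2 ∧
      FA c g2 q2' (dg s hs * up u5) 1 one_ne_zero q2 ∧ q2 ∈ c.X 4 ∧ s = ent M 0 0 ∧
      ∃ k0 ∈ Sg c.X {2, 3, 4}, q = c.pa (up d6) * (c.x5 u5 * k0) := by
  obtain ⟨-, h1⟩ := stage1' D hσ h4 hg hF
  have hd6 := (h1.resolve_right fun h => hq4 h.1).2
  obtain ⟨b2, b3, b5, b6, hb⟩ := c.exists_NF hF.2.1
  obtain ⟨u, hu, eu⟩ := split_Qa hb
  have hb6 := hd6 _ _ _ _ hb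
  obtain ⟨d, hd⟩ : ∃ d : ↥(fx σ), d = ⟨b6, hb.2.1⟩ := ⟨_, rfl⟩
  rw [← hd] at eu
  have hd0 : d ≠ 0 := by
    rw [hd]
    exact sub_ne _ hb6
  have eM := ldu M h0
  obtain ⟨a, ha⟩ : ∃ a, a = ent M 1 0 / ent M 0 0 := ⟨_, rfl⟩
  obtain ⟨b, hbe⟩ : ∃ b, b = ent M 0 1 / ent M 0 0 := ⟨_, rfl⟩
  obtain ⟨s, hs⟩ : ∃ s, s = ent M 0 0 := ⟨_, rfl⟩
  obtain ⟨u5, k, hk, v8, hv8, v11, hv11, ⟨k0, hk0, ek0⟩, -, e⟩ :=
    frame_n6 D.nrm1 hq' a s b (by rw [hs]; exact h0) (d := d) hu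
  have hg2 : ¬ Pr (c.pa (comp ↥(fx σ) τ) * s0) (c.n6 * g * c.n6⁻¹) := fun h => hg (Pr.of_conj _ h)
  have eg : g = q' * c.pb (lo a * dg s (by rw [hs]; exact h0) * up b) * (c.pa (up d) * u) := by
    have h3 := hF.2.2
    rw [dg_one', map_one, mul_one] at h3
    rw [h3, ← eu]
    congr 2
    rw [ha, hbe]
    subst hs
    exact congrArg c.pb eM
  rw [← eg] at e
  have hF2 : FA c (c.n6 * g * c.n6⁻¹) (v8 * v11 * c.pa (lo d)) (dg s (by rw [hs]; exact h0) * up (d * b + u5)) 1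
      one_ne_zero (c.x5 b * k) := by
    refine ⟨mul_mem (mul_mem (c.sg (by decide) hv8) (c.sg (by decide) hv11)) (pa_lo_mem c (by decide) _),
      mul_mem (c.sg (by decide) (c.mem5 b)) (Sg_mono (by decide +kernel) hk), ?_⟩
    rw [dg_one', map_one, mul_one]
    exact e
  have h5 : c.x5 b * k ∈ c.X 4 := by
    obtain ⟨-, h2⟩ := stage1' D hσ h4 hg2 hF2
    rcases h2 with ⟨h2, -⟩ | h2
    · exfalso
      have h3 : c.pa (lo d) ∈ Sg c.X {8, 11, 10} := by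
        have : c.pa (lo d) = (v8 * v11)⁻¹ * (v8 * v11 * c.pa (lo d)) := by group
        rw [this]
        exact mul_mem (inv_mem (mul_mem (c.sg (by decide) hv8) (c.sg (by decide) hv11))) (c.sg (by decide) h2)
      exact lo_ne_one hd0 (c.eq_one_of_mem (k := 0) (s := {8, 11, 10}) (by decide +kernel) ((c.pa_lo _).2 ⟨_, rfl⟩) h3)
    · exact h2.1
  have hb0 : b = 0 := by
    have h3 : c.x5 b ∈ Sg c.X {2, 3, 4} := by
      have : c.x5 b = c.x5 b * k * k⁻¹ := by group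
      rw [this]
      exact mul_mem (c.sg (by decide) h5) (inv_mem hk)
    have := c.eq_one_of_mem (k := 5) (s := {2, 3, 4}) (by decide +kernel) (c.mem5 b) h3
    rw [← c.x5_zero] at this
    exact c.x5_inj this
  rw [hb0, mul_zero, zero_add] at hF2
  refine ⟨?_, _, _, _, s, _, u5, d, hg2, hF2, by rw [← hb0]; exact h5, hs, k0, hk0, by rw [eu, ek0]⟩
  rw [hb0] at hbe
  field_simp at hbe
  rw [← hbe, zero_mul]

/-- in case I the middle factor is trivial -/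
theorem middle_one (D : Dat c τ s0 c1) (hσ : ∀ x, σ x = x) (h4 : Fintype.card E = 4) {g : L}
    (hg : ¬ Pr (c.pa (comp ↥(fx σ) τ) * s0) g) {q' q : L} {M : SL2 E}
    (hF : FA c g q' M 1 one_ne_zero q) (hq' : q' ∈ c.X 10) (hq4 : q ∉ c.X 4) : M = 1 := by
  refine eq_one_of_conj D.act.ne1 D.ne1 fun m hm => ?_
  have hF' := hF.conj_pb1 m
  rw [pb_comm10 m hq'] at hF'
  refine (step_n6 D hσ h4 (fun h => hg (Pr.of_conj _ h)) hF' hq' ?_ hm).1
  intro h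
  apply hq4
  have h2 : q = c.pb m⁻¹ * (c.pb m * q * (c.pb m)⁻¹) * (c.pb m⁻¹)⁻¹ := by rw [map_inv]; group
  have h3 := c.pb_comm4 m⁻¹ h
  rw [h2, h3, mul_inv_cancel_right]
  exact h

/-- in case II the middle factor is trivial -/
theorem middle_one' (D : Dat c τ s0 c1) (hσ : ∀ x, σ x = x) (h4 : Fintype.card E = 4) {g : L}
    (hg : ¬ Pr (c.pa (comp ↥(fx σ) τ) * s0) g) {q' q : L} {M : SL2 E}
    (hF : FA c g q' M 1 one_ne_zero q) (hq' : q' ∉ c.X 10) (hq4 : q ∈ c.X 4) : M = 1 := by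
  have hF' := hF.mirror
  have hinv : Maps c.X c.n4⁻¹ (fun k => 2 - k) := c.maps_n4.inv fun k => by ring
  have hg' : ¬ Pr (c.pa (comp ↥(fx σ) τ) * s0) (c.n4⁻¹ * g⁻¹ * c.n4) := by
    intro h
    have h1 := h.conj c.n4
    have e : c.n4 * (c.n4⁻¹ * g⁻¹ * c.n4) * c.n4⁻¹ = g⁻¹ := by group
    rw [e] at h1
    have h2 := h1.inv D.cj_inv
    rw [inv_inv] at h2
    exact hg h2
  have h1 := middle_one D hσ h4 hg' hF' (maps_mem' c.maps_n4 (inv_mem hq4) (by decide)) (by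
    intro h
    apply hq'
    have : q' = c.n4 * (c.n4⁻¹ * q'⁻¹ * c.n4)⁻¹ * c.n4⁻¹ := by group
    rw [this]
    exact maps_mem c.maps_n4 (inv_mem h) (by decide))
  exact inv_eq_one.1 h1

/-- case I is impossible -/
theorem caseI_false (D : Dat c τ s0 c1) (hσ : ∀ x, σ x = x) (h4 : Fintype.card E = 4) {g : L}
    (hg : ¬ Pr (c.pa (comp ↥(fx σ) τ) * s0) g) {q' q : L} {M : SL2 E}
    (hF : FA c g q' M 1 one_ne_zero q) (hq' : q' ∈ c.X 10) (hq4 : q ∉ c.X 4) : False := by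
  have hM := middle_one D hσ h4 hg hF hq' hq4
  subst hM
  apply hq4
  refine mem_X4_of_five hF.2.1 fun m b2 b3 b5 b6 hN => ?_
  have hF' := hF.conj_pb1 m
  rw [pb_comm10 m hq', mul_one, mul_inv_cancel] at hF'
  have hq4' : c.pb m * q * (c.pb m)⁻¹ ∉ c.X 4 := by
    intro h
    apply hq4
    have h2 : q = c.pb m⁻¹ * (c.pb m * q * (c.pb m)⁻¹) * (c.pb m⁻¹)⁻¹ := by rw [map_inv]; group
    have h3 := c.pb_comm4 m⁻¹ h
    rw [h2, h3, mul_inv_cancel_right]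
    exact h
  obtain ⟨-, g2, q2', q2, s, hs, u5, d6, hg2, hF2, hq24, hs1, k0, hk0, eq⟩ :=
    step_n6 D hσ h4 (fun h => hg (Pr.of_conj _ h)) hF' hq' hq4' (by rw [ent_one_00]; exact one_ne_zero)
  have hq2' : q2' ∉ c.X 10 := by
    intro h
    obtain ⟨-, h1⟩ := stage1' D hσ h4 hg2 hF2
    rcases h1 with ⟨-, h1⟩ | ⟨-, h1⟩
    · obtain ⟨t, ht, rfl⟩ := (c.par.mem4 _).1 hq24
      exact h1 _ _ _ _ (c.nf4 ht) rfl
    · exact h1 h
  have hM2 := middle_one' D hσ h4 hg2 hF2 hq2' hq24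
  have hu5 : u5 = 0 := by
    have := congrArg (fun x => ent x 0 1) hM2
    simp only [ent_mul, dg_00, dg_01, up_01, up_11, zero_mul, add_zero, ent_one_01] at this
    exact (mul_eq_zero.1 this).resolve_left hs
  rw [hu5, c.x5_zero, one_mul] at eq
  obtain ⟨t2, bb, t4, f2, f4, ev⟩ := exists_V c hk0
  have hn : c.NF (c.pb m * q * (c.pb m)⁻¹) t2 bb 0 d6 := by
    rw [eq, ev]
    have e6 : c.pa (up d6) = c.x6 d6 := c.pa_up _
    rw [e6]
    exact ((c.nf6 d6.2).mul (((c.nf2 f2).mul (c.nf3 bb)).mul (c.nf4 f4))).congr rfl (by ring) (by ring) (by ring)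
      (by ring)
  exact (hN.unique hn).2.2.1

/-- **Thompson's conjecture for the field with four elements.** -/
theorem main4 (D : Dat c τ s0 c1) (hσ : ∀ x, σ x = x) (h4 : Fintype.card E = 4) (g : L) :
    Pr (c.pa (comp ↥(fx σ) τ) * s0) g := by
  by_contra hg
  obtain ⟨y, v, hv, t, ht, u, hu, e⟩ := exists_conj_cell (c := c) g
  have hg' : ¬ Pr (c.pa (comp ↥(fx σ) τ) * s0) (y * g * y⁻¹) := fun h => hg (Pr.of_conj _ h)
  obtain ⟨q', hq', w7, h7, rfl⟩ := c.exists_mul' (k := 7) (s := Qa') (by decide +kernel)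
    (Sg_mono (by decide +kernel) hv : v ∈ Sg c.X (insert 7 Qa'))
  obtain ⟨w1, h1, q, hq, rfl⟩ := c.exists_mul (k := 1) (s := Qa) (by decide +kernel)
    (Sg_mono (by decide +kernel) hu : u ∈ Sg c.X (insert 1 Qa))
  obtain ⟨a, rfl⟩ := (c.pb_lo _).1 h7
  obtain ⟨b, rfl⟩ := (c.par.mem1 _).1 h1
  obtain ⟨s, hs, r, hr, rfl⟩ := ht
  have hF := FA_of (c := c) hq' hq a s b hs r hr
  have e' : y * g * y⁻¹ = q' * c.pb (lo a) * (c.pb (dg s hs) * c.pa (dg r hr)) * c.pb (up b) * q := by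
    rw [e, c.pb_up]
    group
  rw [← e'] at hF
  obtain ⟨hr1, h⟩ := stage1' D hσ h4 hg' hF
  subst hr1
  rcases h with ⟨h1, h2⟩ | ⟨h1, h2⟩
  · refine caseI_false D hσ h4 hg' hF h1 fun h3 => ?_
    obtain ⟨t, ht, e4⟩ := (c.par.mem4 _).1 h3
    rw [← e4] at h2
    exact h2 _ _ _ _ (c.nf4 ht) rfl
  · have hF' := hF.mirror
    have hg2 : ¬ Pr (c.pa (comp ↥(fx σ) τ) * s0) (c.n4⁻¹ * (y * g * y⁻¹)⁻¹ * c.n4) := by
      intro h
      have h1 := h.conj c.n4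
      have e : c.n4 * (c.n4⁻¹ * (y * g * y⁻¹)⁻¹ * c.n4) * c.n4⁻¹ = (y * g * y⁻¹)⁻¹ := by group
      rw [e] at h1
      have h2 := h1.inv D.cj_inv
      rw [inv_inv] at h2
      exact hg' h2
    refine caseI_false D hσ h4 hg2 hF' (maps_mem' c.maps_n4 (inv_mem h1) (by decide)) fun h3 => ?_
    apply h2
    have : q' = c.n4 * (c.n4⁻¹ * q'⁻¹ * c.n4)⁻¹ * c.n4⁻¹ := by group
    rw [this]
    exact maps_mem c.maps_n4 (inv_mem h3) (by decide)

end Cfsg.Agent.H148.Hex
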