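import Cfsg.Agent.H148.Coord

/-!
# Groups of type `G₂` and `³D₄`: coordinates on `Qb` modulo `⟨X 2, X 3, X 4⟩`, fixed points (helper148)
-/

set_option autoImplicit false

namespace Cfsg.Agent.H148.Hex

open Cfsg.Agent.SplitTwo Cfsg.Agent.TitsThree.RankTwoZ Cfsg.Agent.Lib.SL2Mat Cfsg.Agent.Cit.HexBase
  Cfsg.Agent.Cit.HexBase.HexGrp Cfsg.Agent.H148.SLTwo
open scoped commutatorElement

universe u

variable {E : Type*} [Field E] {σ : E ≃+* E} {L : Type u} [Group L] (c : HexGrp σ L)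

/-- the unipotent radical of the long root parabolic subgroup -/
abbrev Qb : Finset (ZMod (2 * 6)) := {1, 2, 3, 4, 5}
/-- its opposite -/
abbrev Qb' : Finset (ZMod (2 * 6)) := {7, 8, 9, 10, 11}
/-- the unipotent radical of the short root parabolic subgroup -/
abbrev Qa : Finset (ZMod (2 * 6)) := {2, 3, 4, 5, 6}
/-- its opposite -/
abbrev Qa' : Finset (ZMod (2 * 6)) := {8, 9, 10, 11, 0}

/-- coordinates modulo `Sg {2, 3, 4}` -/
def W (g : L) (a5 a1 : E) : Prop := ∃ k ∈ Sg c.X {2, 3, 4}, g = c.x5 a5 * c.x1 a1 * k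

variable {c}

theorem W.mem {g : L} {a5 a1 : E} (h : W c g a5 a1) : g ∈ Sg c.X Qb := by
  obtain ⟨k, hk, rfl⟩ := h
  exact mul_mem (mul_mem (c.sg (by decide) (c.mem5 _)) (c.sg (by decide) (c.mem1 _))) (Sg_mono (by decide +kernel) hk)

theorem W.congr {g g' : L} {a5 a1 b5 b1 : E} (h : W c g a5 a1) (e : g = g') (e5 : a5 = b5) (e1 : a1 = b1) :
    W c g' b5 b1 := by
  subst e e5 e1
  exact h

theorem conjN5 (a : E) : ∀ g ∈ Sg c.X {2, 3, 4}, c.x5 a * g * (c.x5 a)⁻¹ ∈ Sg c.X {2, 3, 4} := fun g hg =>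
  c.conj_mem_Sg (k := 5) (by decide +kernel) (c.mem5 a) hg

theorem conjN1 (a : E) : ∀ g ∈ Sg c.X {2, 3, 4}, c.x1 a * g * (c.x1 a)⁻¹ ∈ Sg c.X {2, 3, 4} := fun g hg =>
  c.conj_mem_Sg (k := 1) (by decide +kernel) (c.mem1 a) hg

/-- `k x5 b = x5 b k'` -/
theorem N_x5 (b : E) {k : L} (hk : k ∈ Sg c.X {2, 3, 4}) : ∃ k' ∈ Sg c.X {2, 3, 4}, k * c.x5 b = c.x5 b * k' := by
  refine ⟨(c.x5 b)⁻¹ * k * c.x5 b, ?_, by group⟩
  have := conjN5 (c := c) (-b) k hk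
  rwa [c.x5_neg, inv_inv] at this

theorem N_x1 (b : E) {k : L} (hk : k ∈ Sg c.X {2, 3, 4}) : ∃ k' ∈ Sg c.X {2, 3, 4}, k * c.x1 b = c.x1 b * k' := by
  refine ⟨(c.x1 b)⁻¹ * k * c.x1 b, ?_, by group⟩
  have := conjN1 (c := c) (-b) k hk
  rwa [c.x1_neg, inv_inv] at this

theorem x1_x5 (a b : E) : ∃ k ∈ Sg c.X {2, 3, 4}, c.x1 a * c.x5 b = c.x5 b * c.x1 a * k := by
  refine ⟨kk (c.x1 a) (c.x5 b), ?_, mul_eq_kk _ _⟩
  rw [c.par.rel.c15]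
  exact mul_mem (mul_mem (c.sg (by decide) (c.mem2 (neg_fix (trc_fix c.cube _ _)))) (c.sg (by decide) (c.mem3 _)))
    (c.sg (by decide) (c.mem4 (trc_fix c.cube _ _)))

theorem W.mul {g h : L} {a5 a1 b5 b1 : E} (hg : W c g a5 a1) (hh : W c h b5 b1) : W c (g * h) (a5 + b5) (a1 + b1) := by
  obtain ⟨k, hk, rfl⟩ := hg
  obtain ⟨l, hl, rfl⟩ := hh
  obtain ⟨k', hk', e1⟩ := N_x5 (c := c) b5 hk
  obtain ⟨k'', hk'', e2⟩ := N_x1 (c := c) b1 hk'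
  obtain ⟨j, hj, e3⟩ := x1_x5 (c := c) a1 b5
  obtain ⟨j', hj', e4⟩ := N_x1 (c := c) b1 hj
  refine ⟨j' * k'' * l, mul_mem (mul_mem hj' hk'') hl, ?_⟩
  rw [c.x5_add, c.x1_add]
  calc c.x5 a5 * c.x1 a1 * k * (c.x5 b5 * c.x1 b1 * l)
      = c.x5 a5 * c.x1 a1 * (k * c.x5 b5) * c.x1 b1 * l := by group
    _ = c.x5 a5 * (c.x1 a1 * c.x5 b5) * (k' * c.x1 b1) * l := by rw [e1]; group
    _ = c.x5 a5 * (c.x5 b5 * c.x1 a1 * j) * (c.x1 b1 * k'') * l := by rw [e2, e3]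
    _ = c.x5 a5 * c.x5 b5 * c.x1 a1 * (j * c.x1 b1) * k'' * l := by group
    _ = _ := by rw [e4]; group

variable (c)

theorem w0 {g : L} (hg : g ∈ Sg c.X {2, 3, 4}) : W c g 0 0 := ⟨g, hg, by rw [c.x5_zero, c.x1_zero]; group⟩
theorem w5 (a : E) : W c (c.x5 a) a 0 := ⟨1, one_mem _, by rw [c.x1_zero]; group⟩
theorem w1 (a : E) : W c (c.x1 a) 0 a := ⟨1, one_mem _, by rw [c.x5_zero]; group⟩

theorem exists_W {g : L} (hg : g ∈ Sg c.X Qb) : ∃ a5 a1, W c g a5 a1 := by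
  have hv1 : g ∈ Sg c.X (insert 5 {1, 2, 3, 4}) := Sg_mono (by decide +kernel) hg
  obtain ⟨a5, h5, v, hv, rfl⟩ := c.exists_mul (k := 5) (s := {1, 2, 3, 4}) (by decide +kernel) hv1
  have hv2 : v ∈ Sg c.X (insert 1 {2, 3, 4}) := hv
  obtain ⟨a1, h1, k, hk, rfl⟩ := c.exists_mul (k := 1) (s := {2, 3, 4}) (by decide +kernel) hv2
  obtain ⟨b5, rfl⟩ := (c.par.mem5 _).1 h5
  obtain ⟨b1, rfl⟩ := (c.par.mem1 _).1 h1
  exact ⟨b5, b1, k, hk, by group⟩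

variable {c}

theorem W.unique {g : L} {a5 a1 b5 b1 : E} (h : W c g a5 a1) (h' : W c g b5 b1) : a5 = b5 ∧ a1 = b1 := by
  obtain ⟨k, hk, e⟩ := h
  obtain ⟨k', hk', e'⟩ := h'
  have h1 := c.peel (k := 5) (s := {1, 2, 3, 4}) (by decide +kernel) (c.mem5 a5)
    (mul_mem (c.sg (by decide) (c.mem1 a1)) (Sg_mono (by decide +kernel) hk) : c.x1 a1 * k ∈ Sg c.X {1, 2, 3, 4}) (c.mem5 b5)
    (mul_mem (c.sg (by decide) (c.mem1 b1)) (Sg_mono (by decide +kernel) hk') : c.x1 b1 * k' ∈ Sg c.X {1, 2, 3, 4})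
    (by rw [← mul_assoc, ← mul_assoc, ← e, e'])
  have h2 := c.peel (k := 1) (s := {2, 3, 4}) (by decide +kernel) (c.mem1 a1) hk (c.mem1 b1) hk' h1.2
  exact ⟨c.x5_inj h1.1, c.x1_inj h2.1⟩

theorem W.mem0 {g : L} {a5 a1 : E} (h : W c g a5 a1) (e5 : a5 = 0) (e1 : a1 = 0) : g ∈ Sg c.X {2, 3, 4} := by
  obtain ⟨k, hk, rfl⟩ := h
  rw [e5, e1, c.x5_zero, c.x1_zero, one_mul, one_mul]
  exact hk

variable (c)

theorem lo_x5 (t : ↥(fx σ)) (a : E) : W c (c.pa (lo t) * c.x5 a * (c.pa (lo t))⁻¹) a (t * a) := by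
  have ht : σ (-(t : E)) = -(t : E) := neg_fix t.2
  have h := c.conj61 a (-(t : E)) ht
  have h2 : c.n6 * c.x6 (-(t : E)) * c.n6⁻¹ = c.pa (lo t) := by
    have e : c.x6 (-(t : E)) = c.pa (up (-t)) := (c.pa_up (-t)).symm
    rw [e, HexGrp.n6, ← map_inv, ← map_mul, ← map_mul, wm_up']
    congr 2
    ring
  obtain ⟨k, hk⟩ : ∃ k, k = c.x2 (-(t : E) * nrm σ a) * c.x3 (-(-(t : E) * shp σ a)) *
    c.x4 ((-(t : E)) ^ 2 * nrm σ a) := ⟨_, rfl⟩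
  have hkm : k ∈ Sg c.X {2, 3, 4} := by
    rw [hk]
    exact mul_mem (mul_mem (c.sg (by decide) (c.mem2 (mul_fix ht (c.nf a)))) (c.sg (by decide) (c.mem3 _)))
      (c.sg (by decide) (c.mem4 (mul_fix (by rw [map_pow, ht]) (c.nf a))))
  have hk2 : c.n6 * k * c.n6⁻¹ ∈ Sg c.X {2, 3, 4} := conj_Sg c.maps_n6 (by decide +kernel) hkm
  have e : c.pa (lo t) * c.x5 a * (c.pa (lo t))⁻¹ = c.x5 a * (c.n6 * k * c.n6⁻¹) * c.x1 (t * a) := by
    have e5 : c.x1 (t * a) = c.n6 * c.x5 (-(t : E) * a) * c.n6⁻¹ := by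
      rw [n6_x5]
      congr 1
      ring
    rw [← h2, ← n6_x1 (c := c) a, e5]
    calc _ = c.n6 * (c.x6 (-(t : E)) * c.x1 a * (c.x6 (-(t : E)))⁻¹) * c.n6⁻¹ := by group
      _ = _ := by rw [h, ← hk]; group
  rw [e]
  exact (((w5 c a).mul (w0 c hk2)).mul (w1 c _)).congr rfl (by ring) (by ring)

theorem up_x1 (t : ↥(fx σ)) (a : E) : W c (c.pa (up t) * c.x1 a * (c.pa (up t))⁻¹) (t * a) a := by
  have ht : σ (t : E) = (t : E) := t.2
  have h := c.conj61 a (t : E) ht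
  obtain ⟨k, hk⟩ : ∃ k, k = c.x2 ((t : E) * nrm σ a) * c.x3 (-((t : E) * shp σ a)) *
    c.x4 ((t : E) ^ 2 * nrm σ a) := ⟨_, rfl⟩
  have hkm : k ∈ Sg c.X {2, 3, 4} := by
    rw [hk]
    exact mul_mem (mul_mem (c.sg (by decide) (c.mem2 (mul_fix ht (c.nf a)))) (c.sg (by decide) (c.mem3 _)))
      (c.sg (by decide) (c.mem4 (mul_fix (by rw [map_pow, ht]) (c.nf a))))
  rw [c.pa_up, h, ← hk]
  exact ((w1 c a).mul ((w0 c hkm).mul (w5 c _))).congr rfl (by ring) (by ring)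

theorem comm56 (t : ↥(fx σ)) (a : E) : c.pa (up t) * c.x5 a * (c.pa (up t))⁻¹ = c.x5 a := by
  rw [c.pa_up, ← eq_of_kk (c.par.rel.c56 a t t.2)]
  group

theorem comm01 (t : ↥(fx σ)) (a : E) : c.pa (lo t) * c.x1 a * (c.pa (lo t))⁻¹ = c.x1 a := by
  have h := c.comm (k := 0) (j := 1) (by decide) (by decide) ((c.pa_lo _).2 ⟨t, rfl⟩) (c.mem1 a)
  have h0 : bt (0 : ZMod (2 * 6)) 1 = ∅ := by decide +kernel
  rw [h0] at h
  have h1 : ⁅c.pa (lo t), c.x1 a⁆ = 1 := by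
    have : Sg c.X ∅ = ⊥ := by unfold Sg; simp
    rw [this] at h
    exact Subgroup.mem_bot.1 h
  rw [commutatorElement_def] at h1
  exact mul_inv_eq_one.1 h1

variable {c}

/-- `pa` on `Qb` modulo `Sg {2, 3, 4}` -/
theorem W.pa {g : L} {a5 a1 : E} (h : W c g a5 a1) (m : SL2 ↥(fx σ)) :
    W c (c.pa m * g * (c.pa m)⁻¹) (ent m 0 0 * a5 + ent m 0 1 * a1) (ent m 1 0 * a5 + ent m 1 1 * a1) := by
  have hN : ∀ (m : SL2 ↥(fx σ)) (k : L), k ∈ Sg c.X {2, 3, 4} → c.pa m * k * (c.pa m)⁻¹ ∈ Sg c.X {2, 3, 4} :=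
    fun m k hk => by
      obtain ⟨t2, b, t4, hV⟩ := exists_V c hk
      exact (V.pa c hV m).mem
  have hu : ∀ (s : ↥(fx σ)) {g : L} {a5 a1 : E}, W c g a5 a1 →
      W c (c.pa (up s) * g * (c.pa (up s))⁻¹) (a5 + s * a1) a1 := by
    rintro s g a5 a1 ⟨k, hk, rfl⟩
    have e : c.pa (up s) * (c.x5 a5 * c.x1 a1 * k) * (c.pa (up s))⁻¹ =
        (c.pa (up s) * c.x5 a5 * (c.pa (up s))⁻¹) * (c.pa (up s) * c.x1 a1 * (c.pa (up s))⁻¹) *
          (c.pa (up s) * k * (c.pa (up s))⁻¹) := by group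
    rw [e, comm56]
    exact (((w5 c a5).mul (up_x1 c s a1)).mul (w0 c (hN _ k hk))).congr rfl (by ring) (by ring)
  have hl : ∀ (s : ↥(fx σ)) {g : L} {a5 a1 : E}, W c g a5 a1 →
      W c (c.pa (lo s) * g * (c.pa (lo s))⁻¹) a5 (a1 + s * a5) := by
    rintro s g a5 a1 ⟨k, hk, rfl⟩
    have e : c.pa (lo s) * (c.x5 a5 * c.x1 a1 * k) * (c.pa (lo s))⁻¹ =
        (c.pa (lo s) * c.x5 a5 * (c.pa (lo s))⁻¹) * (c.pa (lo s) * c.x1 a1 * (c.pa (lo s))⁻¹) *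
          (c.pa (lo s) * k * (c.pa (lo s))⁻¹) := by group
    rw [e, comm01]
    exact (((lo_x5 c s a5).mul (w1 c a1)).mul (w0 c (hN _ k hk))).congr rfl (by ring) (by ring)
  obtain ⟨p, q, r, s, rfl⟩ := exists_up_lo m
  refine (hu p (hl q (hu r (hl s h)))).congr ?_ ?_ ?_
  · rw [map_mul, map_mul, map_mul]
    group
  · simp only [ent_mul, up_00, up_01, up_10, up_11, lo_00, lo_01, lo_10, lo_11]
    push_cast
    ring
  · simp only [ent_mul, up_00, up_01, up_10, up_11, lo_00, lo_01, lo_10, lo_11]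
    push_cast
    ring

/-- the torus on `Qb` modulo `Sg {2, 3, 4}` -/
theorem W.act {g s : L} {a5 a1 c1 c6 : E} (h : W c g a5 a1) (hs : c.Act s c1 c6) :
    W c (s * g * s⁻¹) (c6 * c1 * a5) (c1 * a1) := by
  obtain ⟨k, hk, rfl⟩ := h
  refine ⟨s * k * s⁻¹, c.T0_conj ⟨_, _, hs⟩ hk, ?_⟩
  rw [← hs.a5, ← hs.a1]
  group

theorem V.act {g s : L} {t2 b t4 c1 c6 : E} (h : V c g t2 b t4) (hs : c.Act s c1 c6) :
    V c (s * g * s⁻¹) (c6 * nrm σ c1 * t2) (c6 * shp σ c1 * b) (c6 ^ 2 * nrm σ c1 * t4) := by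
  obtain ⟨h2, h4, rfl⟩ := h
  refine ⟨mul_fix (mul_fix hs.fix (c.nf c1)) h2, mul_fix (mul_fix (by rw [map_pow, hs.fix]) (c.nf c1)) h4, ?_⟩
  rw [← hs.a2 _ h2, ← hs.a3, ← hs.a4 _ h4]
  group

/-! ### Fixed point free action -/

/-- `x` normalises `Q` and acts fixed point freely on it -/
def Fpf (x : L) (Q : Subgroup L) : Prop := (∀ g ∈ Q, x * g * x⁻¹ ∈ Q) ∧ ∀ g ∈ Q, x * g * x⁻¹ = g → g = 1

theorem lin_zero {K : Type*} [Field K] {a b d e u v : K} (h1 : u = a * u + b * v) (h2 : v = d * u + e * v)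
    (h : (1 - a) * (1 - e) - b * d ≠ 0) : u = 0 ∧ v = 0 := by
  constructor
  · have : ((1 - a) * (1 - e) - b * d) * u = 0 := by linear_combination (1 - e) * h1 + b * h2
    exact (mul_eq_zero.1 this).resolve_left h
  · have : ((1 - a) * (1 - e) - b * d) * v = 0 := by linear_combination (1 - a) * h2 + d * h1
    exact (mul_eq_zero.1 this).resolve_left h

variable (c)

/-- criterion for a fixed point free action on `Qb` -/
theorem fpf_Qb (m : SL2 ↥(fx σ)) {s : L} {c1 c6 : E} (hs : c.Act s c1 c6)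
    (hA : 1 - c1 * (c6 * ent m 0 0 + ent m 1 1) + c1 ^ 2 * c6 ≠ 0) (hB : c6 * shp σ c1 ≠ 1)
    (hC : 1 - nrm σ c1 * c6 * (c6 * ent m 0 0 + ent m 1 1) + nrm σ c1 ^ 2 * c6 ^ 3 ≠ 0) :
    Fpf (c.pa m * s) (Sg c.X Qb) := by
  have hd : ((ent m 0 0 : ↥(fx σ)) : E) * ((ent m 1 1 : ↥(fx σ)) : E) -
      ((ent m 0 1 : ↥(fx σ)) : E) * ((ent m 1 0 : ↥(fx σ)) : E) = 1 := by
    have := congrArg (fun x : ↥(fx σ) => (x : E)) (det_eq m)
    simpa using this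
  constructor
  · intro g hg
    have h1 := c.T0_conj ⟨_, _, hs⟩ hg
    have h2 := pa_conj c (by decide +kernel) (by decide +kernel) m _ h1
    have e : c.pa m * s * g * (c.pa m * s)⁻¹ = c.pa m * (s * g * s⁻¹) * (c.pa m)⁻¹ := by group
    rwa [e]
  · intro g hg e
    have e' : c.pa m * (s * g * s⁻¹) * (c.pa m)⁻¹ = g :=
      (show c.pa m * (s * g * s⁻¹) * (c.pa m)⁻¹ = c.pa m * s * g * (c.pa m * s)⁻¹ by group).trans e
    obtain ⟨a5, a1, hW⟩ := exists_W c hg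
    have h1 := ((hW.act hs).pa m).congr e' rfl rfl
    obtain ⟨k5, k1⟩ := hW.unique h1
    obtain ⟨z5, z1⟩ := lin_zero (u := a5) (v := a1) (a := ((ent m 0 0 : ↥(fx σ)) : E) * (c6 * c1)) (b := ((ent m 0 1 : ↥(fx σ)) : E) * c1)
      (d := ((ent m 1 0 : ↥(fx σ)) : E) * (c6 * c1)) (e := ((ent m 1 1 : ↥(fx σ)) : E) * c1) (by linear_combination k5)
      (by linear_combination k1) (by
        intro h
        apply hA
        linear_combination h - c1 ^ 2 * c6 * hd)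
    obtain ⟨t2, b, t4, hV⟩ := exists_V c (hW.mem0 z5 z1)
    have h2 := (V.pa c (hV.act hs) m).congr e' rfl rfl rfl
    obtain ⟨k2, k3, k4⟩ := hV.unique h2
    have zb : b = 0 := by
      have : (c6 * shp σ c1 - 1) * b = 0 := by linear_combination -k3
      exact (mul_eq_zero.1 this).resolve_left (sub_ne_zero.2 hB)
    obtain ⟨z2, z4⟩ := lin_zero (u := t2) (v := t4) (a := ((ent m 1 1 : ↥(fx σ)) : E) * (c6 * nrm σ c1)) (b := -((ent m 1 0 : ↥(fx σ)) : E) * (c6 ^ 2 * nrm σ c1))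
      (d := -((ent m 0 1 : ↥(fx σ)) : E) * (c6 * nrm σ c1)) (e := ((ent m 0 0 : ↥(fx σ)) : E) * (c6 ^ 2 * nrm σ c1))
      (by linear_combination k2) (by linear_combination k4) (by
        intro h
        apply hC
        linear_combination h - nrm σ c1 ^ 2 * c6 ^ 3 * hd)
    have e3 := hV.2.2
    rw [e3, z2, zb, z4, c.x2_zero, c.x3_zero, c.x4_zero]
    group

end Cfsg.Agent.H148.Hex
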