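import Cfsg.Agent.H148.D42Comb

/-!
# Thompson's conjecture for `³D₄(2)`: reduction to the subgroup generated by the long root groups (helper148)
-/

set_option autoImplicit false

namespace Cfsg.Agent.H148.Hex

open Cfsg.Agent.SplitTwo Cfsg.Agent.TitsThree.RankTwoZ Cfsg.Agent.Lib.SL2Mat Cfsg.Agent.Cit.HexBase
  Cfsg.Agent.Cit.HexBase.HexGrp Cfsg.Agent.H148.SLTwo

universe u

variable {E : Type*} [Field E] {σ : E ≃+* E} {L : Type u} [Group L] {c : HexGrp σ L}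

theorem fix_cases (hσ : ∀ x, σ x = x ^ 2) {x : E} (hx : σ x = x) : x = 0 ∨ x = 1 := by
  rw [hσ] at hx
  have : x * (x - 1) = 0 := by linear_combination hx
  rcases mul_eq_zero.1 this with h | h
  · exact Or.inl h
  · exact Or.inr (sub_eq_zero.1 h)

theorem cf_fix (hc : ∀ a : E, σ (σ (σ a)) = a) {b2 b3 b5 b6 : E} (h2 : σ b2 = b2) (h6 : σ b6 = b6) (x y : E) :
    σ (cf σ b2 b3 b5 b6 x y) = cf σ b2 b3 b5 b6 x y := by
  unfold cf nrm trc shp
  simp only [map_add, map_mul, hc, h2, h6]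
  ring

theorem r_one (hσ : ∀ x, σ x = x ^ 2) {r : ↥(fx σ)} (hr : r ≠ 0) : r = 1 := by
  rcases fix_cases hσ r.2 with h | h
  · exact absurd (Subtype.ext h) hr
  · exact Subtype.ext h

variable [Fintype E]

theorem coef_zero [CharP E 2] (hσ : ∀ x, σ x = x ^ 2) (h8 : Fintype.card E = 8) {b2 b3 b5 b6 k : E}
    (h : ∀ x : E, x ≠ 0 → cf σ b2 b3 b5 b6 1 x = k) : b3 = 0 ∧ b5 = 0 := by
  classical
  obtain ⟨P, hP⟩ : ∃ P : Polynomial E, P = Polynomial.C b3 * Polynomial.X ^ 6 +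
    Polynomial.C (b3 ^ 2) * Polynomial.X ^ 5 + Polynomial.C (b5 ^ 4) * Polynomial.X ^ 4 +
    Polynomial.C (b3 ^ 4) * Polynomial.X ^ 3 + Polynomial.C (b5 ^ 2) * Polynomial.X ^ 2 +
    Polynomial.C b5 * Polynomial.X ^ 1 + Polynomial.C (b2 + b6 - k) * Polynomial.X ^ 0 := ⟨_, rfl⟩
  have h7 : ∀ x : E, x ≠ 0 → x ^ 7 = 1 := by
    intro x hx
    have := FiniteField.pow_card_sub_one_eq_one x hx
    rwa [h8] at this
  have hev : ∀ x ∈ Finset.univ.erase (0 : E), P.eval x = 0 := by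
    intro x hx
    have hx0 : x ≠ 0 := (Finset.mem_erase.1 hx).1
    have e1 := h x hx0
    have e7 := h7 x hx0
    rw [hP]
    simp only [Polynomial.eval_add, Polynomial.eval_mul, Polynomial.eval_C, Polynomial.eval_pow, Polynomial.eval_X]
    unfold cf nrm trc shp at e1
    simp only [hσ] at e1
    linear_combination e1 - (b2 + b3 ^ 2 * x ^ 5 + b3 ^ 4 * x ^ 3 * (x ^ 14 + x ^ 7 + 1)) * e7
  have hdeg : P.natDegree < (Finset.univ.erase (0 : E)).card := by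
    rw [Finset.card_erase_of_mem (Finset.mem_univ _), Finset.card_univ, h8, hP]
    refine lt_of_le_of_lt (b := 6) ?_ (by norm_num)
    compute_degree!
  have h0 := Polynomial.eq_zero_of_natDegree_lt_card_of_eval_eq_zero' P _ hev hdeg
  constructor
  · have := congrArg (fun Q => Polynomial.coeff Q 6) h0
    rw [hP] at this
    simp only [Polynomial.coeff_add, Polynomial.coeff_C_mul, Polynomial.coeff_X_pow, Polynomial.coeff_zero] at this
    norm_num at this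
    exact this
  · have := congrArg (fun Q => Polynomial.coeff Q 1) h0
    rw [hP] at this
    simp only [Polynomial.coeff_add, Polynomial.coeff_C_mul, Polynomial.coeff_X_pow, Polynomial.coeff_zero] at this
    norm_num at this
    exact this

variable [Finite L] [CharP E 2] [CharP ↥(fx σ) 2] {τ : ↥(fx σ)} {s0 : L} {c1 : E}

/-- bad elements satisfy the combinatorial condition -/
theorem cond_of_bad (D : Dat c τ s0 c1) (hσ : ∀ x, σ x = x ^ 2) {g : L}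
    (hg : ¬ Pr (c.pa (comp ↥(fx σ) τ) * s0) g) {q' q : L} {M : SL2 E}
    (hF : FA c g q' M 1 one_ne_zero q) {a2 a3 a5 a6 b2 b3 b5 b6 : E}
    (ha : c.NF (c.n1⁻¹ * (c.n4⁻¹ * q' * c.n4) * c.n1) a2 a3 a5 a6) (hb : c.NF (c.n1⁻¹ * q * c.n1) b2 b3 b5 b6) :
    Cond c1 M (cf σ a2 a3 a5 a6) (cf σ b2 b3 b5 b6) := by
  intro p q0 p' q0' hΔ hs
  have hF1 : FA c (1 * g * 1⁻¹) q' M 1 one_ne_zero q := by
    rw [inv_one, mul_one, one_mul]
    exact hF
  have h20 := two_eq_zero E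
  have h := bad_hom D hg hF1 ha hb p q0 p' q0' hΔ (by
    have : ((1 : ↥(fx σ)) : E) = 1 := rfl
    rw [this, one_mul]
    exact hs)
  have e1 : ((1 : ↥(fx σ)) : E) = 1 := rfl
  rw [e1, inv_one, one_mul] at h
  obtain ⟨h1, h2⟩ := h
  have hA := fix_cases hσ (cf_fix c.cube ha.1 ha.2.1 (b3 := a3) (b5 := a5) p q0)
  have hB := fix_cases hσ (cf_fix c.cube hb.1 hb.2.1 (b3 := b3) (b5 := b5) p' q0')
  rcases hA with hA | hA <;> rcases hB with hB | hB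
  · exact absurd ⟨rfl, hA, hB⟩ h2
  · rw [hA, hB, zero_add]
  · rw [hA, hB, add_zero]
  · rw [hA, hB] at h1
    exfalso
    exact one_ne_zero (α := E) (by linear_combination h1 - h20)

omit [Fintype E] [Finite L] [CharP E 2] [CharP ↥(fx σ) 2] in
theorem exists_ab {q' q : L} (hq' : q' ∈ Sg c.X Qa') (hq : q ∈ Sg c.X Qa) :
    (∃ a2 a3 a5 a6, c.NF (c.n1⁻¹ * (c.n4⁻¹ * q' * c.n4) * c.n1) a2 a3 a5 a6) ∧
      ∃ b2 b3 b5 b6, c.NF (c.n1⁻¹ * q * c.n1) b2 b3 b5 b6 := by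
  have hinv : Maps c.X c.n1⁻¹ (fun k => 8 - k) := c.maps_n1.inv fun k => by ring
  constructor
  · refine c.exists_NF ?_
    have := conj_Sg hinv (s := Qa) (t := Qa) (by decide +kernel) (n4_inv_mem hq')
    rwa [inv_inv] at this
  · refine c.exists_NF ?_
    have := conj_Sg hinv (s := Qa) (t := Qa) (by decide +kernel) hq
    rwa [inv_inv] at this

omit [Fintype E] [Finite L] [CharP E 2] [CharP ↥(fx σ) 2] in
theorem NF_even {g : L} {b2 b6 : E} (h : c.NF g b2 0 0 b6) : ∃ x2 ∈ c.X 2, ∃ x4 ∈ c.X 4, ∃ x6 ∈ c.X 6, g = x2 * x4 * x6 := by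
  obtain ⟨f2, f6, b4, f4, rfl⟩ := h
  rw [c.x3_zero, c.x5_zero, mul_one, mul_one]
  exact ⟨_, c.mem2 f2, _, c.mem4 f4, _, c.mem6 f6, rfl⟩

omit [Fintype E] [Finite L] [CharP E 2] [CharP ↥(fx σ) 2] in
theorem NF_even_n1 {g : L} {b2 b6 : E} (h : c.NF (c.n1⁻¹ * g * c.n1) b2 0 0 b6) : c.NF g (-b6) 0 0 b2 := by
  obtain ⟨f2, f6, b4, f4, e⟩ := h
  rw [c.x3_zero, c.x5_zero, mul_one, mul_one] at e
  have e1 := c.n1_x2 b2 f2
  have e2 := n1_x4 (c := c) f4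
  have e3 := c.n1_x6 b6 f6
  have e4 : g = c.x6 b2 * c.x4 b4 * c.x2 (-b6) := by
    rw [← e1, ← e2, ← e3]
    calc g = c.n1 * (c.n1⁻¹ * g * c.n1) * c.n1⁻¹ := by group
      _ = _ := by rw [e]; group
  rw [e4]
  exact (((c.nf6 f2).mul (c.nf4 f4)).mul (c.nf2 (neg_fix f6))).congr rfl (by ring) (by ring) (by ring) (by ring)

/-- a bad element is conjugate to an element of the shape `q' * pb (dg l) * q`, with `q'`, `q` products of elements of
long root groups -/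
theorem exists_shape (D : Dat c τ s0 c1) (hσ : ∀ x, σ x = x ^ 2) (h8 : Fintype.card E = 8) {g : L}
    (hg : ¬ Pr (c.pa (comp ↥(fx σ) τ) * s0) g) {q' q : L} {M : SL2 E}
    (hF : FA c g q' M 1 one_ne_zero q) :
    ∃ y : L, ∃ x8 ∈ c.X 8, ∃ x10 ∈ c.X 10, ∃ x0 ∈ c.X 0, ∃ x2 ∈ c.X 2, ∃ x4 ∈ c.X 4, ∃ x6 ∈ c.X 6,
      ∃ l : E, ∃ hl : l ≠ 0, l ≠ 1 ∧
      y * g * y⁻¹ = (x8 * x10 * x0) * c.pb (dg l hl) * (x2 * x4 * x6) := by
  have h20 := two_eq_zero E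
  -- the condition for all conjugate frames
  have hcond : ∀ m : SL2 E, ∀ N, m * M * m⁻¹ = N → ∃ a2 a3 a5 a6 b2 b3 b5 b6,
      Cond c1 N (cf σ a2 a3 a5 a6) (cf σ b2 b3 b5 b6) ∧
      c.NF (c.n1⁻¹ * (c.n4⁻¹ * (c.pb m * q' * (c.pb m)⁻¹) * c.n4) * c.n1) a2 a3 a5 a6 ∧
      c.NF (c.n1⁻¹ * (c.pb m * q * (c.pb m)⁻¹) * c.n1) b2 b3 b5 b6 ∧
      c.pb m * g * (c.pb m)⁻¹ = (c.pb m * q' * (c.pb m)⁻¹) * c.pb N * (c.pb m * q * (c.pb m)⁻¹) := by
    intro m N hN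
    have hF' : FA c (c.pb m * g * (c.pb m)⁻¹) (c.pb m * q' * (c.pb m)⁻¹) (m * M * m⁻¹) 1 one_ne_zero
        (c.pb m * q * (c.pb m)⁻¹) := by
      have h1 := hF.conj_pb m
      have : ∀ (y : SL2 E) (h : ((1 : ↥(fx σ)) : E)⁻¹ ≠ 0), conjGL (dgl ((1 : ↥(fx σ)) : E)⁻¹ h) y = y := by
        intro y h
        rw [conjGL_dgl_ent]
        refine ext_ent ?_ ?_ ?_ ?_ <;> simp
      rwa [this] at h1
    rw [hN] at hF'
    obtain ⟨⟨a2, a3, a5, a6, ha⟩, b2, b3, b5, b6, hb⟩ := exists_ab hF'.1 hF'.2.1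
    refine ⟨a2, a3, a5, a6, b2, b3, b5, b6, cond_of_bad D hσ (fun h => hg (Pr.of_conj _ h)) hF' ha hb, ha, hb, ?_⟩
    have := hF'.2.2
    rwa [dg_one', map_one, mul_one] at this
  have hsm : ∀ (b2 b3 b5 b6 t x y : E), t ≠ 0 → cf σ b2 b3 b5 b6 (t * x) (t * y) = cf σ b2 b3 b5 b6 x y := by
    intro b2 b3 b5 b6 t x y ht
    rw [cf_smul _ _ _ _ _ _ _ c.cube, D.nrm1 t ht, one_mul]
  by_cases hM : ent M 0 1 = 0 ∧ ent M 1 0 = 0 ∧ ent M 0 0 = ent M 1 1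
  · -- `M = 1`
    exfalso
    obtain ⟨e1, e2, e3⟩ := hM
    have hd := det_eq M
    rw [e1, ← e3] at hd
    have : (ent M 0 0 - 1) ^ 2 = 0 := by linear_combination hd + (1 - ent M 0 0) * h20
    have h00 : ent M 0 0 = 1 := sub_eq_zero.1 (pow_eq_zero_iff (by norm_num) |>.1 this)
    have hM1 : M = 1 := by
      refine ext_ent ?_ ?_ ?_ ?_
      · rw [h00, ent_one_00]
      · rw [e1, ent_one_01]
      · rw [e2, ent_one_10]
      · rw [← e3, h00, ent_one_11]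
    obtain ⟨a2, a3, a5, a6, b2, b3, b5, b6, hC, -, -, -⟩ := hcond 1 1 (by rw [hM1]; group)
    exact cond_one h8 (sum_cf σ h8 _ _ _ _) (sum_cf σ h8 _ _ _ _) (cf_zero σ _ _ _ _) (cf_zero σ _ _ _ _) hC
  · obtain ⟨y, hy⟩ := exists_comp M hM
    by_cases hirr : ∀ x : E, x ^ 2 + tr M * x + 1 ≠ 0
    · exfalso
      obtain ⟨a2, a3, a5, a6, b2, b3, b5, b6, hC, -, -, -⟩ := hcond y _ hy
      exact cond_irr h8 hirr (sum_cf σ h8 _ _ _ _) (sum_cf σ h8 _ _ _ _) (cf_zero σ _ _ _ _) (cf_zero σ _ _ _ _) hC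
    push Not at hirr
    obtain ⟨l, hl⟩ := hirr
    have hl0 : l ≠ 0 := by
      intro h0
      rw [h0] at hl
      simp at hl
    have htr : tr M = l + l⁻¹ := by
      field_simp
      linear_combination hl - (l ^ 2 + 1) * h20
    by_cases hl1 : l = 1
    · exfalso
      have ht0 : tr M = 0 := by
        rw [htr, hl1, inv_one]
        linear_combination h20
      rw [ht0] at hy
      obtain ⟨a2, a3, a5, a6, b2, b3, b5, b6, hC, -, -, -⟩ := hcond y _ hy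
      exact cond_inv h8 D.ne1 (sum_cf σ h8 _ _ _ _) (sum_cf σ h8 _ _ _ _) (cf_zero σ _ _ _ _) (cf_zero σ _ _ _ _)
        (hsm _ _ _ _) (hsm _ _ _ _) hC
    · have hll : l ≠ l⁻¹ := by
        intro h
        apply hl1
        have h3 : l * l = 1 := by
          nth_rewrite 2 [h]
          exact mul_inv_cancel₀ hl0
        have : (l - 1) ^ 2 = 0 := by linear_combination h3 + (1 - l) * h20
        exact sub_eq_zero.1 (pow_eq_zero_iff (by norm_num) |>.1 this)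
      obtain ⟨z, hz⟩ := exists_diag M l hl0 hll htr
      obtain ⟨a2, a3, a5, a6, b2, b3, b5, b6, hC, ha, hb, hg'⟩ := hcond z _ hz
      by_cases hlc : l = c1 ∨ l * c1 = 1
      · exfalso
        exact cond_diag_bad h8 hl0 hlc (sum_cf σ h8 _ _ _ _) (sum_cf σ h8 _ _ _ _) (cf_zero σ _ _ _ _)
          (cf_zero σ _ _ _ _) hC
      push Not at hlc
      have hcc := cond_diag h8 hl0 hl1 D.ne1 hlc.1 hlc.2 hC
      obtain ⟨rfl, rfl⟩ := coef_zero hσ h8 (fun x hx => (hcc x hx).1)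
      obtain ⟨rfl, rfl⟩ := coef_zero hσ h8 (fun x hx => (hcc x hx).2)
      obtain ⟨x2, h2, x4, h4, x6, h6, eq⟩ := NF_even (NF_even_n1 hb)
      have ha2 := (NF_even_n1 ha).inv
      rw [neg_zero] at ha2
      obtain ⟨w2, k2, w4, k4, w6, k6, eq'⟩ := NF_even ha2
      refine ⟨c.pb z, c.n4 * w6⁻¹ * c.n4⁻¹, maps_mem c.maps_n4 (inv_mem k6) (by decide), c.n4 * w4⁻¹ * c.n4⁻¹,
        maps_mem c.maps_n4 (inv_mem k4) (by decide), c.n4 * w2⁻¹ * c.n4⁻¹,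
        maps_mem c.maps_n4 (inv_mem k2) (by decide), x2, h2, x4, h4, x6, h6, l, hl0, hl1, ?_⟩
      rw [hg', eq]
      congr 2
      have e5 : c.pb z * q' * (c.pb z)⁻¹ = c.n4 * (w2 * w4 * w6)⁻¹ * c.n4⁻¹ := by
        rw [← eq']
        group
      rw [e5]
      group

end Cfsg.Agent.H148.Hex
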