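import Cfsg.Agent.H148.SmallBad

/-!
# Thompson's conjecture for `³D₄(2)`: combinatorics (helper148)
-/

set_option autoImplicit false

namespace Cfsg.Agent.H148.Hex

open Cfsg.Agent.SplitTwo Cfsg.Agent.Lib.SL2Mat Cfsg.Agent.Cit.HexBase Cfsg.Agent.H148.SLTwo

variable {E : Type*} [Field E] {σ : E ≃+* E}

/-- the condition on the middle factor `M` and the two cubic forms -/
def Cond (c1 : E) (M : SL2 E) (A B : E → E → E) : Prop :=
  ∀ p q p' q' : E, p * q' - q * p' ≠ 0 →
    ((p * ent M 0 0 + q * ent M 1 0) * q' - (p * ent M 0 1 + q * ent M 1 1) * p' = p * q' - q * p' ∨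
      (p * ent M 0 0 + q * ent M 1 0) * q' - (p * ent M 0 1 + q * ent M 1 1) * p' = c1 * (p * q' - q * p') ∨
      ((p * ent M 0 0 + q * ent M 1 0) * q' - (p * ent M 0 1 + q * ent M 1 1) * p') * c1 = p * q' - q * p') →
    A p q + B p' q' = 1

variable [Fintype E]

theorem sum_id (h8 : Fintype.card E = 8) : ∑ x : E, x = 0 := by
  have := FiniteField.sum_pow_lt_card_sub_one (K := E) 1 (by rw [h8]; norm_num)
  simpa using this

theorem sum_sq (h8 : Fintype.card E = 8) (k : ℕ) (hk : k < 7) : ∑ x : E, x ^ k = 0 :=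
  FiniteField.sum_pow_lt_card_sub_one (K := E) k (by rw [h8]; omega)

variable (σ)

/-- the sum of a cubic form -/
theorem sum_cf [CharP E 2] (h8 : Fintype.card E = 8) (b2 b3 b5 b6 : E) :
    ∑ v : E × E, cf σ b2 b3 b5 b6 v.1 v.2 = 0 := by
  have h20 := two_eq_zero E
  have hc : ∀ f : E → E, ∑ _x : E, ∑ y : E, f y = 0 := by
    intro f
    rw [Finset.sum_const, Finset.card_univ, h8, nsmul_eq_mul]
    have : ((8 : ℕ) : E) = 0 := by
      push_cast
      linear_combination 4 * h20
    rw [this, zero_mul]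
  have hs : ∀ τ : E ≃+* E, ∑ x : E, τ x = 0 := by
    intro τ
    rw [← map_sum τ, sum_id h8, map_zero]
  have hp : ∀ (τ : E ≃+* E) (f : E → E), ∑ x : E, ∑ y : E, τ x * f y = 0 := by
    intro τ f
    rw [← Finset.sum_mul_sum, hs, zero_mul]
  have hp' : ∀ (τ : E ≃+* E) (f : E → E), ∑ x : E, ∑ y : E, f x * τ y = 0 := by
    intro τ f
    rw [← Finset.sum_mul_sum, hs, mul_zero]
  rw [Fintype.sum_prod_type]
  have e1 : ∑ x : E, ∑ y : E, nrm σ y * b2 = 0 := hc _
  have e6 : ∑ x : E, ∑ y : E, nrm σ x * b6 = 0 := by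
    rw [Finset.sum_comm]
    exact hc _
  have e3 : ∑ x : E, ∑ y : E, trc σ (x * shp σ y) b3 = 0 := by
    have : ∀ x y : E, trc σ (x * shp σ y) b3 = (RingEquiv.refl E) x * (shp σ y * b3) + σ x * σ (shp σ y * b3) +
        (σ.trans σ) x * σ (σ (shp σ y * b3)) := by
      intro x y
      unfold trc
      simp only [map_mul, RingEquiv.refl_apply, RingEquiv.trans_apply]
      ring
    simp only [this, Finset.sum_add_distrib]
    rw [hp _ fun y => shp σ y * b3, hp _ fun y => σ (shp σ y * b3), hp _ fun y => σ (σ (shp σ y * b3))]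
    ring
  have e5 : ∑ x : E, ∑ y : E, trc σ (shp σ x * y) b5 = 0 := by
    have : ∀ x y : E, trc σ (shp σ x * y) b5 = (shp σ x * b5) * (RingEquiv.refl E) y + σ (shp σ x * b5) * σ y +
        σ (σ (shp σ x * b5)) * (σ.trans σ) y := by
      intro x y
      unfold trc
      simp only [map_mul, RingEquiv.refl_apply, RingEquiv.trans_apply]
      ring
    simp only [this, Finset.sum_add_distrib]
    rw [hp' _ fun x => shp σ x * b5, hp' _ fun x => σ (shp σ x * b5), hp' _ fun x => σ (σ (shp σ x * b5))]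
    ring
  unfold cf
  simp only [Finset.sum_add_distrib]
  rw [e1, e6, e3, e5]
  ring

omit [Fintype E] in
theorem cf_zero (b2 b3 b5 b6 : E) : cf σ b2 b3 b5 b6 0 0 = 0 := by
  unfold cf nrm trc shp
  simp

variable {σ}

/-- the sum of a function constant outside zero -/
theorem sum_const [DecidableEq E] [CharP E 2] (h8 : Fintype.card E = 8) (A : E → E → E) (h0 : A 0 0 = 0) (k : E)
    (h : ∀ x y : E, (x ≠ 0 ∨ y ≠ 0) → A x y = k) : ∑ v : E × E, A v.1 v.2 = k := by
  have h20 := two_eq_zero E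
  have : ∀ v : E × E, A v.1 v.2 = k - (if v = (0, 0) then k else 0) := by
    rintro ⟨x, y⟩
    by_cases hv : (x, y) = ((0 : E), (0 : E))
    · rw [if_pos hv]
      rw [Prod.mk.injEq] at hv
      obtain ⟨rfl, rfl⟩ := hv
      rw [h0, sub_self]
    · rw [if_neg hv, sub_zero]
      apply h
      by_contra hcon
      push Not at hcon
      exact hv (Prod.ext hcon.1 hcon.2)
  rw [Finset.sum_congr rfl fun v _ => this v, Finset.sum_sub_distrib, Finset.sum_ite_eq' Finset.univ ((0 : E), (0 : E)),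
    if_pos (Finset.mem_univ _), Finset.sum_const, Finset.card_univ, Fintype.card_prod, h8, nsmul_eq_mul]
  push_cast
  linear_combination (31 * k) * h20

/-- two functions with constant complementary values -/
theorem const_false [DecidableEq E] [CharP E 2] (h8 : Fintype.card E = 8) {A B : E → E → E} (hA : ∑ v : E × E, A v.1 v.2 = 0)
    (hB : ∑ v : E × E, B v.1 v.2 = 0) (hA0 : A 0 0 = 0) (hB0 : B 0 0 = 0)
    (h1 : ∀ p' q' : E, q' ≠ 0 → A 1 0 + B p' q' = 1) (h2 : ∀ p' q' : E, p' ≠ 0 → A 0 1 + B p' q' = 1)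
    (h3 : ∀ p q : E, q ≠ 0 → A p q + B 1 0 = 1) (h4 : ∀ p q : E, p ≠ 0 → A p q + B 0 1 = 1) : False := by
  have h20 := two_eq_zero E
  have e1 : ∀ x y : E, (x ≠ 0 ∨ y ≠ 0) → B x y = 1 - A 1 0 := by
    intro x y hxy
    have k1 := h1 1 1 one_ne_zero
    have k2 := h2 1 1 one_ne_zero
    rcases hxy with h | h
    · have := h2 x y h
      linear_combination this + k1 - k2
    · have := h1 x y h
      linear_combination this
  have e2 : ∀ x y : E, (x ≠ 0 ∨ y ≠ 0) → A x y = 1 - B 1 0 := by
    intro x y hxy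
    have k1 := h3 1 1 one_ne_zero
    have k2 := h4 1 1 one_ne_zero
    rcases hxy with h | h
    · have := h4 x y h
      linear_combination this + k1 - k2
    · have := h3 x y h
      linear_combination this
  have s1 := sum_const h8 B hB0 _ e1
  have s2 := sum_const h8 A hA0 _ e2
  rw [hB] at s1
  rw [hA] at s2
  have k3 := e1 1 0 (Or.inl one_ne_zero)
  have : (1 : E) = 0 := by linear_combination k3 - s1 - s2
  exact one_ne_zero this

/-- `M = 1` is impossible -/
theorem cond_one [CharP E 2] (h8 : Fintype.card E = 8) {c1 : E} {A B : E → E → E}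
    (hA : ∑ v : E × E, A v.1 v.2 = 0) (hB : ∑ v : E × E, B v.1 v.2 = 0) (hA0 : A 0 0 = 0) (hB0 : B 0 0 = 0)
    (h : Cond c1 1 A B) : False := by
  classical
  have key : ∀ p q p' q' : E, p * q' - q * p' ≠ 0 → A p q + B p' q' = 1 := by
    intro p q p' q' hΔ
    refine h p q p' q' hΔ (Or.inl ?_)
    rw [ent_one_00, ent_one_01, ent_one_10, ent_one_11]
    ring
  refine const_false h8 hA hB hA0 hB0 (fun p' q' hq => ?_) (fun p' q' hp => ?_) (fun p q hq => ?_) (fun p q hp => ?_)
  · exact key 1 0 p' q' (by simpa using hq)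
  · exact key 0 1 p' q' (by simpa using hp)
  · exact key p q 1 0 (by simpa using hq)
  · exact key p q 0 1 (by simpa using hp)

/-- `M` an involution is impossible -/
theorem cond_inv [CharP E 2] (h8 : Fintype.card E = 8) {c1 : E} (hc1 : c1 ≠ 1) {A B : E → E → E}
    (hA : ∑ v : E × E, A v.1 v.2 = 0) (hB : ∑ v : E × E, B v.1 v.2 = 0) (hA0 : A 0 0 = 0) (hB0 : B 0 0 = 0)
    (hAt : ∀ t x y : E, t ≠ 0 → A (t * x) (t * y) = A x y) (hBt : ∀ t x y : E, t ≠ 0 → B (t * x) (t * y) = B x y)
    (h : Cond c1 (comp E 0) A B) : False := by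
  classical
  have h20 := two_eq_zero E
  -- the sum of a function constant off the diagonal
  have hsum : ∀ (f : E → E → E) (a b : E), f 0 0 = 0 → (∀ t : E, t ≠ 0 → f t t = a) → (∀ x y : E, x ≠ y → f x y = b) →
      ∑ v : E × E, f v.1 v.2 = a := by
    intro f a b h0 h1 h2
    have e : ∀ v : E × E, f v.1 v.2 = b + (if v.1 = v.2 then a - b else 0) - (if v = (0, 0) then a else 0) := by
      rintro ⟨x, y⟩
      by_cases hxy : x = y
      · subst hxy
        by_cases hx : x = 0
        · subst hx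
          simp [h0]
        · have hne : ¬ ((x, x) = ((0 : E), (0 : E))) := fun hh => hx (congrArg Prod.fst hh)
          simp [h1 x hx, hx]
      · have hne : ¬ ((x, y) = ((0 : E), (0 : E))) := fun hh => hxy (by
          rw [show x = 0 from congrArg Prod.fst hh, show y = 0 from congrArg Prod.snd hh])
        rw [if_neg hne, if_neg hxy, h2 x y hxy]
        ring
    rw [Finset.sum_congr rfl fun v _ => e v, Finset.sum_sub_distrib, Finset.sum_add_distrib,
      Finset.sum_ite_eq' Finset.univ ((0 : E), (0 : E)), if_pos (Finset.mem_univ _), Finset.sum_const, Finset.card_univ,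
      Fintype.card_prod, h8, nsmul_eq_mul, Fintype.sum_prod_type]
    have e2 : ∀ x : E, ∑ y : E, (if (x, y).1 = (x, y).2 then a - b else 0) = a - b := by
      intro x
      rw [Finset.sum_ite_eq Finset.univ x, if_pos (Finset.mem_univ _)]
    rw [Finset.sum_congr rfl fun x _ => e2 x, Finset.sum_const, Finset.card_univ, h8, nsmul_eq_mul]
    push_cast
    linear_combination (28 * b + 3 * a) * h20
  have key : ∀ p q p' q' : E, p * q' - q * p' ≠ 0 → (p + q) * (p' + q') = 0 → A p q + B p' q' = 1 := by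
    intro p q p' q' hΔ h0
    refine h p q p' q' hΔ (Or.inl ?_)
    unfold comp
    rw [mk_00, mk_01, mk_10, mk_11]
    linear_combination h0 - (p * q' + p * p') * h20
  have eA : ∀ x y : E, x ≠ y → A x y = 1 - B 1 1 := by
    intro x y hxy
    have := key x y 1 1 (by
      intro h0
      exact hxy (by linear_combination h0)) (by linear_combination (x + y) * h20)
    linear_combination this
  have eB : ∀ x y : E, x ≠ y → B x y = 1 - A 1 1 := by
    intro x y hxy
    have := key 1 1 x y (by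
      intro h0
      exact hxy (by linear_combination -h0)) (by linear_combination (x + y) * h20)
    linear_combination this
  have s1 := hsum A (A 1 1) (1 - B 1 1) hA0 (fun t ht => by
    have := hAt t 1 1 ht
    rwa [mul_one] at this) eA
  have s2 := hsum B (B 1 1) (1 - A 1 1) hB0 (fun t ht => by
    have := hBt t 1 1 ht
    rwa [mul_one] at this) eB
  rw [hA] at s1
  rw [hB] at s2
  -- another pair
  have k := h 1 0 c1 1 (by simp) (Or.inr (Or.inl (by
    unfold comp
    rw [mk_00, mk_01, mk_10, mk_11]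
    linear_combination -c1 * h20)))
  have k1 := eA 1 0 one_ne_zero
  have k2 := eB c1 1 hc1
  have : (1 : E) = 0 := by linear_combination -k + k1 + k2 + s1 + s2 + h20
  exact one_ne_zero this

/-- `M` irreducible is impossible -/
theorem cond_irr [CharP E 2] (h8 : Fintype.card E = 8) {c1 T : E} (hT : ∀ x : E, x ^ 2 + T * x + 1 ≠ 0) {A B : E → E → E}
    (hA : ∑ v : E × E, A v.1 v.2 = 0) (hB : ∑ v : E × E, B v.1 v.2 = 0) (hA0 : A 0 0 = 0) (hB0 : B 0 0 = 0)
    (h : Cond c1 (comp E T) A B) : False := by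
  classical
  have h20 := two_eq_zero E
  have hT0 : T ≠ 0 := tau_ne hT
  -- the bijection
  let φ : E × E → E × E := fun v => (v.1 + v.2, v.1 + (T + 1) * v.2)
  have hφ : Function.Bijective φ := by
    rw [← Finite.injective_iff_bijective]
    rintro ⟨x, y⟩ ⟨x', y'⟩ hh
    have h1 : x + y = x' + y' := congrArg Prod.fst hh
    have h2 : x + (T + 1) * y = x' + (T + 1) * y' := congrArg Prod.snd hh
    have h3 : T * (y - y') = 0 := by linear_combination h2 - h1
    have h4 := sub_eq_zero.1 ((mul_eq_zero.1 h3).resolve_left hT0)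
    have h5 : x = x' := by linear_combination h1 - h4
    rw [h4, h5]
  have hform : ∀ p q : E, (p ≠ 0 ∨ q ≠ 0) → p ^ 2 + T * p * q + q ^ 2 ≠ 0 := by
    intro p q hpq h0
    by_cases hq : q = 0
    · rw [hq] at h0
      rcases hpq with hp | hq'
      · exact hp (pow_eq_zero_iff (n := 2) (by norm_num) |>.1 (by linear_combination h0))
      · exact hq' hq
    · apply hT (p / q)
      field_simp
      linear_combination h0
  have key : ∀ p q : E, (p ≠ 0 ∨ q ≠ 0) → A p q + B (φ (p, q)).1 (φ (p, q)).2 = 1 := by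
    intro p q hpq
    refine h p q _ _ ?_ (Or.inl ?_)
    · change p * (p + (T + 1) * q) - q * (p + q) ≠ 0
      intro h0
      apply hform p q hpq
      linear_combination h0 + q ^ 2 * h20
    · change (p * ent (comp E T) 0 0 + q * ent (comp E T) 1 0) * (p + (T + 1) * q) -
        (p * ent (comp E T) 0 1 + q * ent (comp E T) 1 1) * (p + q) = p * (p + (T + 1) * q) - q * (p + q)
      unfold comp
      rw [mk_00, mk_01, mk_10, mk_11]
      linear_combination (q ^ 2 - p ^ 2 - p * q * T) * h20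
  have e : ∀ v : E × E, A v.1 v.2 + B (φ v).1 (φ v).2 = 1 - (if v = (0, 0) then 1 else 0) := by
    rintro ⟨x, y⟩
    by_cases hv : (x, y) = ((0 : E), (0 : E))
    · rw [if_pos hv]
      rw [Prod.mk.injEq] at hv
      obtain ⟨rfl, rfl⟩ := hv
      change A 0 0 + B (0 + 0) (0 + (T + 1) * 0) = 1 - 1
      rw [mul_zero, add_zero, hA0, hB0]
      ring
    · rw [if_neg hv, sub_zero]
      apply key
      by_contra hcon
      push Not at hcon
      exact hv (Prod.ext hcon.1 hcon.2)
  have s : ∑ v : E × E, (A v.1 v.2 + B (φ v).1 (φ v).2) = 1 := by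
    rw [Finset.sum_congr rfl fun v _ => e v, Finset.sum_sub_distrib, Finset.sum_ite_eq' Finset.univ ((0 : E), (0 : E)),
      if_pos (Finset.mem_univ _), Finset.sum_const, Finset.card_univ, Fintype.card_prod, h8, nsmul_eq_mul]
    push_cast
    linear_combination 31 * h20
  rw [Finset.sum_add_distrib, hA, zero_add] at s
  have s2 : ∑ v : E × E, B (φ v).1 (φ v).2 = ∑ v : E × E, B v.1 v.2 :=
    hφ.sum_comp fun v : E × E => B v.1 v.2
  rw [s2, hB] at s
  exact zero_ne_one s

/-- `M` diagonal with eigenvalue `c1` is impossible -/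
theorem cond_diag_bad [CharP E 2] (h8 : Fintype.card E = 8) {c1 l : E} (hl : l ≠ 0) (hl1 : l = c1 ∨ l * c1 = 1)
    {A B : E → E → E}
    (hA : ∑ v : E × E, A v.1 v.2 = 0) (hB : ∑ v : E × E, B v.1 v.2 = 0) (hA0 : A 0 0 = 0) (hB0 : B 0 0 = 0)
    (h : Cond c1 (dg l hl) A B) : False := by
  classical
  have hll : l * l⁻¹ = 1 := mul_inv_cancel₀ hl
  have key : ∀ p q p' q' : E, p * q' - q * p' ≠ 0 → (l * p * q' - l⁻¹ * q * p' = l * (p * q' - q * p') ∨
      l * p * q' - l⁻¹ * q * p' = l⁻¹ * (p * q' - q * p')) → A p q + B p' q' = 1 := by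
    intro p q p' q' hΔ h0
    refine h p q p' q' hΔ (Or.inr ?_)
    rw [dg_00, dg_01, dg_10, dg_11]
    rcases hl1 with h1 | h1
    · subst h1
      rcases h0 with h0 | h0
      · left; linear_combination h0
      · right; linear_combination l * h0 + (p * q' - q * p') * hll
    · have h2 : l⁻¹ = c1 := (eq_inv_of_mul_eq_one_right h1).symm
      rw [h2] at h0 ⊢
      rcases h0 with h0 | h0
      · right; linear_combination c1 * h0 + (p * q' - q * p') * h1
      · left; linear_combination h0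
  refine const_false h8 hA hB hA0 hB0 (fun p' q' hq => ?_) (fun p' q' hp => ?_) (fun p q hq => ?_) (fun p q hp => ?_)
  · exact key 1 0 p' q' (by simpa using hq) (Or.inl (by ring))
  · exact key 0 1 p' q' (by simpa using hp) (Or.inr (by ring))
  · exact key p q 1 0 (by simpa using hq) (Or.inr (by ring))
  · exact key p q 0 1 (by simpa using hp) (Or.inl (by ring))

/-- `M` diagonal: the forms are constant on the torus orbit -/
theorem cond_diag [CharP E 2] (h8 : Fintype.card E = 8) {c1 l : E} (hl : l ≠ 0) (hl1 : l ≠ 1) (hc1 : c1 ≠ 1)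
    (hlc : l ≠ c1) (hlc' : l * c1 ≠ 1) {A B : E → E → E} (h : Cond c1 (dg l hl) A B) :
    ∀ x : E, x ≠ 0 → B 1 x = B 1 1 ∧ A 1 x = 1 - B 1 1 := by
  classical
  have h20 := two_eq_zero E
  have hll : l * l⁻¹ = 1 := mul_inv_cancel₀ hl
  have hli : l⁻¹ ≠ 0 := inv_ne_zero hl
  have hl2 : l⁻¹ - l ≠ 0 := by
    intro h0
    apply hl1
    have : (l - 1) ^ 2 = 0 := by linear_combination -l * h0 + hll + (1 - l) * h20
    exact sub_eq_zero.1 (pow_eq_zero_iff (by norm_num) |>.1 this)
  have hlc2 : l - c1 ≠ 0 := sub_ne_zero.2 hlc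
  obtain ⟨μ, hμ⟩ : ∃ μ, μ = (l⁻¹ - c1) / (l - c1) := ⟨_, rfl⟩
  have hμ' : (l - c1) * μ = l⁻¹ - c1 := by rw [hμ, mul_div_cancel₀ _ hlc2]
  have hμ0 : μ ≠ 0 := by
    rw [hμ]
    refine div_ne_zero (fun h0 => hlc' ?_) hlc2
    linear_combination (-l) * h0 + hll
  have hμ1 : μ ≠ 1 := by
    intro h0
    rw [h0] at hμ'
    apply hl2
    linear_combination -hμ'
  have k1 : ∀ x : E, x ≠ 0 → A 1 x + B 1 (l⁻¹ * x) = 1 := by
    intro x hx
    refine h 1 x 1 (l⁻¹ * x) ?_ (Or.inl ?_)
    · intro h0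
      have : (l⁻¹ - 1) * x = 0 := by linear_combination h0
      have h2 := (mul_eq_zero.1 this).resolve_right hx
      exact hl1 (by linear_combination (-l) * h2 + hll)
    · rw [dg_00, dg_01, dg_10, dg_11]
      linear_combination x * hll + (x - x * l⁻¹) * h20
  have k2 : ∀ x : E, x ≠ 0 → A 1 x + B 1 (μ * x) = 1 := by
    intro x hx
    refine h 1 x 1 (μ * x) ?_ (Or.inr (Or.inl ?_))
    · intro h0
      have : (μ - 1) * x = 0 := by linear_combination h0
      exact hμ1 (sub_eq_zero.1 ((mul_eq_zero.1 this).resolve_right hx))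
    · rw [dg_00, dg_01, dg_10, dg_11]
      linear_combination x * hμ'
  obtain ⟨ρ, hρ⟩ : ∃ ρ, ρ = μ * l := ⟨_, rfl⟩
  have hρ0 : ρ ≠ 0 := by rw [hρ]; exact mul_ne_zero hμ0 hl
  have hρ1 : ρ ≠ 1 := by
    intro h0
    rw [hρ] at h0
    have h2 : (1 + c1) * (1 - l) = 0 := by linear_combination l * hμ' - (l - c1) * h0 + hll - l * c1 * h20 + c1 * h20 + (1 - l) * h20
    rcases mul_eq_zero.1 h2 with h3 | h3
    · exact hc1 (by linear_combination h3 - h20)
    · exact hl1 (by linear_combination -h3)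
  have k3 : ∀ x : E, x ≠ 0 → B 1 (ρ * x) = B 1 x := by
    intro x hx
    have e1 := k1 (l * x) (mul_ne_zero hl hx)
    have e2 := k2 (l * x) (mul_ne_zero hl hx)
    rw [← mul_assoc, inv_mul_cancel₀ hl, one_mul] at e1
    rw [← mul_assoc, ← hρ] at e2
    linear_combination e2 - e1
  have k4 : ∀ n : ℕ, B 1 (ρ ^ n) = B 1 1 := by
    intro n
    induction n with
    | zero => rw [pow_zero]
    | succ n ih => rw [pow_succ', k3 _ (pow_ne_zero n hρ0), ih]
  -- `ρ` generates
  have hgen : ∀ x : E, x ≠ 0 → ∃ n : ℕ, ρ ^ n = x := by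
    intro x hx
    have hcard : Nat.card Eˣ = 7 := by rw [Nat.card_units, Nat.card_eq_fintype_card, h8]
    have : Fact (Nat.Prime 7) := ⟨by norm_num⟩
    have hne : Units.mk0 ρ hρ0 ≠ 1 := fun h0 => hρ1 (by
      have := congrArg Units.val h0
      simpa using this)
    obtain ⟨n, hn⟩ := (Submonoid.mem_powers_iff _ _).1 (mem_powers_of_prime_card hcard hne (g' := Units.mk0 x hx))
    refine ⟨n, ?_⟩
    have := congrArg Units.val hn
    simpa using this
  have k5 : ∀ x : E, x ≠ 0 → B 1 x = B 1 1 := by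
    intro x hx
    obtain ⟨n, rfl⟩ := hgen x hx
    exact k4 n
  intro x hx
  refine ⟨k5 x hx, ?_⟩
  have := k1 x hx
  rw [k5 _ (mul_ne_zero hli hx)] at this
  linear_combination this

end Cfsg.Agent.H148.Hex
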