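import Cfsg.Agent.H148.SLTwo

/-!
# Lemmas on `SL(2,K)`, `K` finite of characteristic two (helper148)
-/

set_option autoImplicit false

namespace Cfsg.Agent.H148.SLTwo

open Cfsg.Agent.Lib.SL2Mat

variable {K : Type*} [Field K]

/-- the trace -/
def tr (m : S K) : K := ent m 0 0 + ent m 1 1

theorem conj_one (y : S K) : conjGL (dgl (1 : K) one_ne_zero) y = y := by
  rw [conjGL_dgl_ent]
  refine ext_ent ?_ ?_ ?_ ?_ <;> simp

theorem tr_conj (y M : S K) : tr (y * M * y⁻¹) = tr M := by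
  have hd := det_eq y
  unfold tr
  rw [ent_inv]
  simp only [ent_mul, mk_00, mk_01, mk_10, mk_11]
  linear_combination (ent M 0 0 + ent M 1 1) * hd

theorem tr_inv (M : S K) : tr M⁻¹ = tr M := by
  unfold tr
  rw [ent_inv, mk_00, mk_11]
  ring

/-- a nonscalar matrix is conjugate to a matrix with prescribed first entry -/
theorem exists_entry (M : S K) (hM : ¬ (ent M 0 1 = 0 ∧ ent M 1 0 = 0 ∧ ent M 0 0 = ent M 1 1)) (κ : K) :
    ∃ y : S K, ent (y * M * y⁻¹) 0 0 = κ := by
  obtain ⟨y, hy⟩ := exists_twisted M 1 one_ne_zero (by rwa [mul_one]) κ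
  rw [conj_one] at hy
  exact ⟨y, hy⟩

/-- regular split semisimple elements -/
theorem exists_diag (M : S K) (e : K) (he : e ≠ 0) (h1 : e ≠ e⁻¹) (h : tr M = e + e⁻¹) :
    ∃ y : S K, y * M * y⁻¹ = dg e he := by
  obtain ⟨y, hy⟩ := exists_entry M (by
    rintro ⟨h01, h10, h00⟩
    have hd := det_eq M
    rw [h01, ← h00] at hd
    unfold tr at h
    rw [← h00] at h
    apply h1
    have h3 : (e - e⁻¹) ^ 2 = 0 := by
      have h4 : e * e⁻¹ = 1 := mul_inv_cancel₀ he
      linear_combination (-(e + e⁻¹) - (ent M 0 0 + ent M 0 0)) * h + 4 * hd - 4 * h4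
    have := pow_eq_zero_iff (by norm_num) |>.1 h3
    linear_combination this) e
  have ht := tr_conj y M
  obtain ⟨N, hN⟩ : ∃ N, N = y * M * y⁻¹ := ⟨_, rfl⟩
  rw [← hN] at hy ht
  have h11 : ent N 1 1 = e⁻¹ := by
    rw [h] at ht
    unfold tr at ht
    rw [hy] at ht
    linear_combination ht
  have hd := det_eq N
  rw [hy, h11, mul_inv_cancel₀ he] at hd
  have h0 : ent N 0 1 * ent N 1 0 = 0 := by linear_combination -hd
  have hne : e⁻¹ - e ≠ 0 := fun h => h1 (by linear_combination -h)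
  have key : ∀ z : S K, z * dg e he * z⁻¹ = N → ∃ y : S K, y * M * y⁻¹ = dg e he := by
    intro z hz
    refine ⟨z⁻¹ * y, ?_⟩
    have : y * M * y⁻¹ = z * dg e he * z⁻¹ := by rw [← hN, hz]
    calc z⁻¹ * y * M * (z⁻¹ * y)⁻¹ = z⁻¹ * (y * M * y⁻¹) * z := by group
      _ = _ := by rw [this]; group
  rcases mul_eq_zero.1 h0 with h0 | h0
  · refine key (lo (-(ent N 1 0 / (e⁻¹ - e)))) ?_
    rw [lo_inv]
    refine ext_ent ?_ ?_ ?_ ?_ <;>
      simp only [ent_mul, lo_00, lo_01, lo_10, lo_11, dg_00, dg_01, dg_10, dg_11, hy, h0, h11]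
    · ring
    · ring
    · have : ent N 1 0 / (e⁻¹ - e) * (e⁻¹ - e) = ent N 1 0 := div_mul_cancel₀ _ hne
      linear_combination this
    · ring
  · refine key (up (ent N 0 1 / (e⁻¹ - e))) ?_
    rw [up_inv]
    refine ext_ent ?_ ?_ ?_ ?_ <;>
      simp only [ent_mul, up_00, up_01, up_10, up_11, dg_00, dg_01, dg_10, dg_11, hy, h0, h11]
    · ring
    · have : ent N 0 1 / (e⁻¹ - e) * (e⁻¹ - e) = ent N 0 1 := div_mul_cancel₀ _ hne
      linear_combination this
    · ring
    · ring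

/-- In characteristic two every element is, up to conjugation, a product of two elements of trace `e + e⁻¹`. -/
theorem exists_pair_even [Finite K] [CharP K 2] (e : K) (he : e ≠ 0) (l : S K) :
    ∃ y n : S K, tr n = e + e⁻¹ ∧ tr (y * l * y⁻¹ * n) = e + e⁻¹ := by
  have h20 : (2 : K) = 0 := by exact_mod_cast CharP.cast_eq_zero K 2
  by_cases hl : ent l 0 1 = 0 ∧ ent l 1 0 = 0 ∧ ent l 0 0 = ent l 1 1
  · obtain ⟨h01, h10, h11⟩ := hl
    have hd := det_eq l
    rw [h01, ← h11] at hd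
    have h1 : ent l 0 0 = 1 := by
      have : (ent l 0 0 - 1) ^ 2 = 0 := by linear_combination hd + (1 - ent l 0 0) * h20
      have := pow_eq_zero_iff (by norm_num) |>.1 this
      linear_combination this
    refine ⟨1, dg e he, ?_, ?_⟩
    · unfold tr
      simp
    · rw [inv_one, mul_one, one_mul]
      unfold tr
      rw [ent_mul, ent_mul, dg_00, dg_01, dg_10, dg_11, h01, h10, ← h11, h1]
      ring
  · obtain ⟨y, hy⟩ := exists_entry l hl 0
    obtain ⟨N, hN⟩ : ∃ N, N = y * l * y⁻¹ := ⟨_, rfl⟩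
    rw [← hN] at hy
    have hd := det_eq N
    rw [hy] at hd
    have h01 : ent N 0 1 ≠ 0 := by
      intro h0
      rw [h0] at hd
      simp at hd
    obtain ⟨s, hs⟩ : ∃ s, s = e + e⁻¹ := ⟨_, rfl⟩
    obtain ⟨T, hT⟩ : ∃ T, T = ent N 1 1 := ⟨_, rfl⟩
    -- the conic
    obtain ⟨u, d, hud⟩ : ∃ u d : K, d ^ 2 + T * u * d + u ^ 2 - s * (u + d) + 1 = 0 := by
      by_cases h0 : T = 0
      · refine ⟨0, e, ?_⟩
        rw [h0, hs]
        have h4 : e * e⁻¹ = 1 := mul_inv_cancel₀ he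
        linear_combination -h4
      · obtain ⟨r, hr⟩ := FiniteField.isSquare_of_char_two (F := K) (ringChar.eq_iff.2 inferInstance) (1 + s ^ 2 / T)
        have hr' : r ^ 2 = 1 + s ^ 2 / T := by rw [hr]; ring
        refine ⟨s / T + r, s / T, ?_⟩
        field_simp
        have e1 : T * r ^ 2 = T + s ^ 2 := by rw [hr']; field_simp
        linear_combination T * e1 + (s ^ 2 + T ^ 2 + s * T * r) * h20
    rw [← hs]
    refine ⟨y, mk (s - d) (ent N 0 1 * (u + T * d - s)) (u / ent N 0 1) d ?_, ?_, ?_⟩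
    · field_simp
      linear_combination -hud
    · unfold tr
      rw [mk_00, mk_11]
      ring
    · rw [← hN]
      unfold tr
      rw [ent_mul, ent_mul, mk_00, mk_01, mk_10, mk_11, hy, ← hT]
      field_simp
      linear_combination -(u + T * d - s) * hd
end Cfsg.Agent.H148.SLTwo
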