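import Cfsg.Agent.H148.Prod
import Cfsg.Agent.H148.EvenSL

/-!
# Thompson's conjecture for groups of type `G₂` and `³D₄` in characteristic two, large fields (helper148)
-/

set_option autoImplicit false

namespace Cfsg.Agent.H148.Hex

open Cfsg.Agent.SplitTwo Cfsg.Agent.TitsThree.RankTwoZ Cfsg.Agent.Lib.SL2Mat Cfsg.Agent.Cit.HexBase
  Cfsg.Agent.Cit.HexBase.HexGrp Cfsg.Agent.H148.SLTwo

universe u

variable {E : Type*} [Field E] {σ : E ≃+* E} {L : Type u} [Group L] (c : HexGrp σ L)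

variable {c} in
theorem Act.pow' {g : L} {c1 c6 : E} (h : c.Act g c1 c6) (n : ℕ) : c.Act (g ^ n) (c1 ^ n) (c6 ^ n) := by
  induction n with
  | zero => rw [pow_zero, pow_zero, pow_zero]; exact c.act_one
  | succ n ih => rw [pow_succ, pow_succ, pow_succ]; exact ih.mul h

variable {c} in
/-- torus elements have order dividing `|E| - 1` -/
theorem T0_pow [Fintype E] {t : L} (ht : t ∈ c.T0) : t ^ (Fintype.card E - 1) = 1 := by
  obtain ⟨c1, c6, h⟩ := ht
  have h1 := Act.pow' h (Fintype.card E - 1)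
  rw [FiniteField.pow_card_sub_one_eq_one c1 h.ne1, FiniteField.pow_card_sub_one_eq_one c6 h.ne6] at h1
  exact h1.eq_one

theorem T0_odd [Finite E] [CharP E 2] {t : L} (ht : t ∈ c.T0) : ¬ 2 ∣ orderOf t := by
  have := Fintype.ofFinite E
  intro hd
  have h1 := hd.trans (orderOf_dvd_of_pow_eq_one (T0_pow ht))
  have hcard : 2 ∣ Fintype.card E := by
    have := (inferInstance : Fact (Nat.Prime 2))
    obtain ⟨n, -, hn⟩ := FiniteField.card E 2
    rw [hn]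
    exact dvd_pow_self 2 n.ne_zero
  have hpos : 1 ≤ Fintype.card E := Fintype.card_pos
  omega

/-- an element of weight `c6 = 1` commutes with `pa` -/
theorem comm_pa_of_one {s : L} {c1 : E} (hs : c.Act s c1 1) (m : SL2 ↥(fx σ)) : s * c.pa m = c.pa m * s := by
  have h1 := hs.pa m
  have h2 : conjGL (dgl (⟨1, hs.fix⟩ : ↥(fx σ)) (sub_ne _ hs.ne6)) m = m := conj_one m
  rw [h2] at h1
  exact mul_inv_eq_iff_eq_mul.1 h1

/-- criterion, weight `c6 = 1` -/
theorem fpf_one (e : ↥(fx σ)) (he : e ≠ 0) {s : L} {c1 : E} (hs : c.Act s c1 1) {m : SL2 ↥(fx σ)}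
    (hm : tr m = e + e⁻¹) (h1 : c1 ≠ e) (h1' : c1 * e ≠ 1) (h2 : shp σ c1 ≠ 1) (h3 : nrm σ c1 ≠ e)
    (h3' : nrm σ c1 * e ≠ 1) : Fpf (c.pa m * s) (Sg c.X Qb) := by
  have heE := coe_ne' he
  have e1 : ((ent m 0 0 : ↥(fx σ)) : E) + ((ent m 1 1 : ↥(fx σ)) : E) = (e : E) + (e : E)⁻¹ := by
    have := congrArg (fun x : ↥(fx σ) => (x : E)) hm
    exact this
  have key : ∀ x : E, x ≠ e → x * e ≠ 1 → 1 - x * ((e : E) + (e : E)⁻¹) + x ^ 2 ≠ 0 := by
    intro x hx hx' h0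
    have h4 : (e : E) * (e : E)⁻¹ = 1 := mul_inv_cancel₀ heE
    have : (x - e) * (x - (e : E)⁻¹) = 0 := by linear_combination h0 + h4
    rcases mul_eq_zero.1 this with h | h
    · exact hx (by linear_combination h)
    · apply hx'
      have : x = (e : E)⁻¹ := by linear_combination h
      rw [this, inv_mul_cancel₀ heE]
  refine fpf_Qb c m hs ?_ ?_ ?_
  · rw [one_mul, e1, mul_one]
    exact key c1 h1 h1'
  · rwa [one_mul]
  · rw [mul_one, one_mul, e1, one_pow, mul_one]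
    exact key _ h3 h3'

variable {c} in
theorem act_n3_one {s : L} {c1 : E} (hs : c.Act s c1 1) : c.Act (n3 c * s * (n3 c)⁻¹) c1⁻¹ 1 :=
  (Act.n3 hs).congr rfl (by rw [one_mul]) rfl

/-- criterion on `Qb'`, weight `c6 = 1` -/
theorem fpf_one' (e : ↥(fx σ)) (he : e ≠ 0) {s : L} {c1 : E} (hs : c.Act s c1 1) {m : SL2 ↥(fx σ)}
    (hm : tr m = e + e⁻¹) (h1 : c1 ≠ e) (h1' : c1 * e ≠ 1) (h2 : shp σ c1 ≠ 1) (h3 : nrm σ c1 ≠ e)
    (h3' : nrm σ c1 * e ≠ 1) : Fpf (c.pa m * s) (Sg c.X Qb') := by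
  have heE := coe_ne' he
  have hne := hs.ne1
  have hN := nrm_ne (σ := σ) hne
  have h := fpf_one c e he (act_n3_one hs) hm (fun h => h1' (by rw [← h, mul_inv_cancel₀ hne]))
    (fun h => h1 (by field_simp at h; exact h.symm))
    (fun h => h2 (by
      have h5 : shp σ c1 * shp σ c1⁻¹ = 1 := by rw [← shp_mul, mul_inv_cancel₀ hne]; unfold shp; simp
      rw [h, mul_one] at h5
      exact h5))
    (fun h => h3' (by rw [← h, nrm_inv, mul_inv_cancel₀ hN]))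
    (fun h => h3 (by rw [nrm_inv] at h; field_simp at h; exact h.symm))
  have e : n3 c * (c.pa m * s) * (n3 c)⁻¹ = c.pa m * (n3 c * s * (n3 c)⁻¹) := by
    calc n3 c * (c.pa m * s) * (n3 c)⁻¹ = (n3 c * c.pa m * (n3 c)⁻¹) * (n3 c * s * (n3 c)⁻¹) := by group
      _ = _ := by rw [comm_pa_n3]
  rw [← e] at h
  refine Fpf.of_conj (n := n3 c) (fun g hg => conj_Sg (maps_n3 c) (by decide +kernel) hg) (fun g hg => ?_) h
  have := conj_Sg (maps_n3_inv c) (s := Qb) (t := Qb') (by decide +kernel) hg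
  rwa [inv_inv] at this

theorem cj_split {e : ↥(fx σ)} (he : e ≠ 0) (h1 : e ≠ e⁻¹) {s : L} {c1 : E} (hs : c.Act s c1 1) {m : SL2 ↥(fx σ)}
    (hm : tr m = e + e⁻¹) : Cj (c.pa (dg e he) * s) (c.pa m * s) := by
  obtain ⟨y, hy⟩ := exists_diag m e he h1 hm
  refine Cj.symm ⟨c.pa y, ?_⟩
  have h2 := comm_pa_of_one c hs y⁻¹
  rw [← hy, map_mul, map_mul]
  calc c.pa y * c.pa m * c.pa y⁻¹ * s = c.pa y * c.pa m * (c.pa y⁻¹ * s) := by group
    _ = _ := by rw [← h2, map_inv]; group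

theorem cj_inv_n3 {s : L} {c1 : E} (hs : c.Act s c1 1) (m : SL2 ↥(fx σ)) : Cj (c.pa m * s) (c.pa m * s⁻¹) := by
  refine ⟨n3 c, ?_⟩
  have h1 : n3 c * s * (n3 c)⁻¹ = s⁻¹ := (act_n3_one hs).unique (hs.inv.congr rfl rfl inv_one)
  calc c.pa m * s⁻¹ = (n3 c * c.pa m * (n3 c)⁻¹) * (n3 c * s * (n3 c)⁻¹) := by rw [h1, comm_pa_n3]
    _ = _ := by group

/-- **Thompson's conjecture in characteristic two**, split case. -/
theorem even_main [Finite L] [Finite E] [CharP E 2] {e : ↥(fx σ)} (he : e ≠ 0) (he1 : e ≠ 1) {s : L} {c1 : E}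
    (hs : c.Act s c1 1) (h1 : c1 ≠ e) (h1' : c1 * e ≠ 1) (h2 : shp σ c1 ≠ 1) (h3 : nrm σ c1 ≠ e)
    (h3' : nrm σ c1 * e ≠ 1) : ∃ x : L, ¬ 2 ∣ orderOf x ∧ ∀ g : L, g ≠ 1 → Pr x g := by
  have : CharP ↥(fx σ) 2 := (Subfield.subtype (fx σ)).charP (Subfield.subtype (fx σ)).injective 2
  have h20 : (2 : ↥(fx σ)) = 0 := by exact_mod_cast CharP.cast_eq_zero ↥(fx σ) 2
  have hee : e ≠ e⁻¹ := by
    intro h
    apply he1
    have h4 : e * e = 1 := by
      calc e * e = e * e⁻¹ := by rw [← h]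
        _ = 1 := mul_inv_cancel₀ he
    have : (e - 1) ^ 2 = 0 := by linear_combination h4 + (1 - e) * h20
    have := pow_eq_zero_iff (by norm_num) |>.1 this
    linear_combination this
  refine ⟨c.pa (dg e he) * s, T0_odd c (mul_mem (pa_dg_T0 c e he) ⟨_, _, hs⟩), fun g hg => ?_⟩
  obtain ⟨y, v, hv, l, u, hu, e0⟩ := exists_weak_gauss (c := c) he he1 hg
  obtain ⟨m, n, hn1, hn2⟩ := exists_pair_even e he l
  obtain ⟨v', hv', u', hu', e'⟩ := gauss_conj_pa c hv hu e0 m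
  have hn3 : tr n⁻¹ = e + e⁻¹ := by rw [tr_inv, hn1]
  have hinv := hs.inv.congr rfl rfl inv_one
  have hne := hs.ne1
  have heE := coe_ne' he
  have hN := nrm_ne (σ := σ) hne
  refine Pr.cell (x1 := c.pa (m * l * m⁻¹ * n) * s) (x2 := c.pa n⁻¹ * s⁻¹)
    (Q := Sg c.X Qb) (Q' := Sg c.X Qb') (y := c.pa m * y) (v := v') (u := u')
    (cj_split c he hee hs hn2) ((cj_split c he hee hs hn3).trans (cj_inv_n3 c hs _))
    (fpf_one' c e he hs hn2 h1 h1' h2 h3 h3') ?_ hv' hu' ?_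
  · refine fpf_one c e he hinv hn3 (fun h => h1' (by rw [← h, mul_inv_cancel₀ hne]))
      (fun h => h1 (by field_simp at h; exact h.symm))
      (fun h => h2 (by
        have h5 : shp σ c1 * shp σ c1⁻¹ = 1 := by rw [← shp_mul, mul_inv_cancel₀ hne]; unfold shp; simp
        rw [h, mul_one] at h5
        exact h5))
      (fun h => h3' (by rw [← h, nrm_inv, mul_inv_cancel₀ hN]))
      (fun h => h3 (by rw [nrm_inv] at h; field_simp at h; exact h.symm))
  · rw [e']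
    congr 2
    have h5 := comm_pa_of_one c hs n⁻¹
    calc c.pa (m * l * m⁻¹) = c.pa (m * l * m⁻¹ * n) * c.pa n⁻¹ := by rw [← map_mul, mul_inv_cancel_right]
      _ = c.pa (m * l * m⁻¹ * n) * (c.pa n⁻¹ * s) * s⁻¹ := by group
      _ = _ := by rw [← h5]; group

/-- the torus of the short root `3` -/
theorem act_p3_dg (z : E) (hz : z ≠ 0) : c.Act (p3 c (dg z hz)) (nrm σ z / z ^ 2) 1 := by
  have hN := nrm_ne (σ := σ) hz
  have h1 := (c.act_b z hz).n6.n1
  refine h1.congr ?_ ?_ ?_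
  · rw [p3_apply]
    group
  · field_simp
  · have h2 : nrm σ ((nrm σ z)⁻¹ * z ^ 2) = (nrm σ z)⁻¹ := by
      rw [nrm_mul, nrm_inv, nrm_of_fix (c.nf z), show z ^ 2 = z * z from pow_two z, nrm_mul]
      field_simp
    rw [h2]
    field_simp

end Cfsg.Agent.H148.Hex
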