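import Cfsg.Agent.H148.SmallBad

/-!
# Thompson's conjecture for `G₂(4)` (helper148)
-/

set_option autoImplicit false

namespace Cfsg.Agent.H148.Hex

open Cfsg.Agent.SplitTwo Cfsg.Agent.TitsThree.RankTwoZ Cfsg.Agent.Lib.SL2Mat Cfsg.Agent.Cit.HexBase
  Cfsg.Agent.Cit.HexBase.HexGrp Cfsg.Agent.H148.SLTwo

universe u

variable {E : Type*} [Field E] {σ : E ≃+* E} {L : Type u} [Group L] {c : HexGrp σ L}

/-- four lines do not cover the plane -/
theorem exists_avoid [Fintype E] (h4 : Fintype.card E = 4) (a b : Fin 4 → E) (h : ∀ i, a i ≠ 0 ∨ b i ≠ 0) :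
    ∃ x y : E, (x ≠ 0 ∨ y ≠ 0) ∧ ∀ i, a i * x + b i * y ≠ 0 := by
  classical
  by_contra hcon
  push Not at hcon
  have key : ∀ o : Option E, ∃ i : Fin 4, a i * (o.elim 1 id) + b i * (o.elim 0 fun _ => 1) = 0 := by
    intro o
    refine hcon _ _ ?_
    cases o with
    | none => exact Or.inl one_ne_zero
    | some t => exact Or.inr one_ne_zero
  choose f hf using key
  have hinj : Function.Injective f := by
    intro o o' hoo
    have h1 := hf o
    have h2 := hf o'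
    rw [← hoo] at h2
    have h3 := h (f o)
    cases o with
    | none =>
      cases o' with
      | none => rfl
      | some t =>
        exfalso
        simp only [Option.elim_none, mul_one, mul_zero, add_zero] at h1
        simp only [Option.elim_some, id, mul_one] at h2
        rw [h1, zero_mul, zero_add] at h2
        rcases h3 with h3 | h3
        · exact h3 h1
        · exact h3 h2
    | some s =>
      cases o' with
      | none =>
        exfalso
        simp only [Option.elim_none, mul_one, mul_zero, add_zero] at h2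
        simp only [Option.elim_some, id, mul_one] at h1
        rw [h2, zero_mul, zero_add] at h1
        rcases h3 with h3 | h3
        · exact h3 h2
        · exact h3 h1
      | some t =>
        simp only [Option.elim_some, id, mul_one] at h1 h2
        have h5 : a (f (some s)) * (s - t) = 0 := by linear_combination h1 - h2
        rcases mul_eq_zero.1 h5 with h6 | h6
        · exfalso
          rw [h6, zero_mul, zero_add] at h1
          rcases h3 with h3 | h3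
          · exact h3 h6
          · exact h3 h1
        · rw [sub_eq_zero.1 h6]
  have := Fintype.card_le_of_injective f hinj
  rw [Fintype.card_option, h4, Fintype.card_fin] at this
  omega

theorem prim4 [Fintype E] [CharP E 2] (h4 : Fintype.card E = 4) {c1 : E} (h0 : c1 ≠ 0) (h1 : c1 ≠ 1) :
    c1 ^ 2 + c1 + 1 = 0 := by
  have h := FiniteField.pow_card_sub_one_eq_one c1 h0
  rw [h4] at h
  have : (c1 - 1) * (c1 ^ 2 + c1 + 1) = 0 := by
    have h' : c1 ^ 3 = 1 := h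
    linear_combination h'
  exact (mul_eq_zero.1 this).resolve_left (sub_ne_zero.2 h1)

theorem cases4 [Fintype E] [CharP E 2] (h4 : Fintype.card E = 4) {c1 : E} (h0 : c1 ≠ 0) (h1 : c1 ≠ 1) {s : E}
    (hs : s ≠ 0) : s = 1 ∨ s = c1 ∨ s * c1 = 1 := by
  have h := FiniteField.pow_card_sub_one_eq_one s hs
  rw [h4] at h
  have h' : s ^ 3 = 1 := h
  have h2 := prim4 h4 h0 h1
  have h3 : (s - 1) * ((s - c1) * (s * c1 - 1)) = 0 := by
    linear_combination c1 * h' - (s ^ 2 - s) * h2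
  rcases mul_eq_zero.1 h3 with h | h
  · exact Or.inl (sub_eq_zero.1 h)
  · rcases mul_eq_zero.1 h with h | h
    · exact Or.inr (Or.inl (sub_eq_zero.1 h))
    · exact Or.inr (Or.inr (sub_eq_zero.1 h))

theorem cf4 [CharP E 2] (hσ : ∀ x, σ x = x) (b2 b3 b5 b6 x y : E) :
    cf σ b2 b3 b5 b6 x y = y ^ 3 * b2 + x * y ^ 2 * b3 + x ^ 2 * y * b5 + x ^ 3 * b6 := by
  have h2 := two_eq_zero E
  unfold cf nrm trc shp
  simp only [hσ]
  linear_combination (x * y ^ 2 * b3 + x ^ 2 * y * b5) * h2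

/-- an element of `Qa` with trivial cubic form -/
theorem mem_X4_of_cf [CharP E 2] (hσ : ∀ x, σ x = x) {c1 : E} (h0 : c1 ≠ 0) (h1 : c1 ≠ 1) {q : L} {b2 b3 b5 b6 : E}
    (hb : c.NF (c.n1⁻¹ * q * c.n1) b2 b3 b5 b6) (h : ∀ x y : E, (x ≠ 0 ∨ y ≠ 0) → cf σ b2 b3 b5 b6 x y = 0) :
    q ∈ c.X 4 := by
  have e2 := h 0 1 (Or.inr one_ne_zero)
  have e6 := h 1 0 (Or.inl one_ne_zero)
  have e1 := h 1 1 (Or.inl one_ne_zero)
  have ew := h c1 1 (Or.inl h0)
  rw [cf4 hσ] at e2 e6 e1 ew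
  have k2 : b2 = 0 := by linear_combination e2
  have k6 : b6 = 0 := by linear_combination e6
  have k35 : b3 + b5 = 0 := by linear_combination e1 - k2 - k6
  have k5 : b5 = 0 := by
    have : c1 * (c1 - 1) * b5 = 0 := by
      linear_combination ew - k2 - c1 ^ 3 * k6 - c1 * k35
    exact (mul_eq_zero.1 this).resolve_left (mul_ne_zero h0 (sub_ne_zero.2 h1))
  have k3 : b3 = 0 := by linear_combination k35 - k5
  have h4 := NF.mem4' hb k2 k3 k5 k6
  have : q = c.n1 * (c.n1⁻¹ * q * c.n1) * c.n1⁻¹ := by group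
  rw [this]
  exact maps_mem c.maps_n1 h4 (by decide)

variable [Fintype E] [Finite L] [CharP E 2] [CharP ↥(fx σ) 2] {τ : ↥(fx σ)} {s0 : L} {c1 : E}

/-- **Stage 1** -/
theorem stage1 (D : Dat c τ s0 c1) (hσ : ∀ x, σ x = x) (h4 : Fintype.card E = 4) {g : L}
    (hg : ¬ Pr (c.pa (comp ↥(fx σ) τ) * s0) g) {q' q : L} {M : SL2 E} {r : ↥(fx σ)} {hr : r ≠ 0}
    (hF : FA c g q' M r hr q) {a2 a3 a5 a6 b2 b3 b5 b6 : E}
    (ha : c.NF (c.n1⁻¹ * (c.n4⁻¹ * q' * c.n4) * c.n1) a2 a3 a5 a6) (hb : c.NF (c.n1⁻¹ * q * c.n1) b2 b3 b5 b6) :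
    (r : E) = 1 ∧ (((∀ x y : E, (x ≠ 0 ∨ y ≠ 0) → cf σ a2 a3 a5 a6 x y = 0) ∧
        (∀ x y : E, (x ≠ 0 ∨ y ≠ 0) → cf σ b2 b3 b5 b6 x y ≠ 0)) ∨
      ((∀ x y : E, (x ≠ 0 ∨ y ≠ 0) → cf σ a2 a3 a5 a6 x y ≠ 0) ∧
        (∀ x y : E, (x ≠ 0 ∨ y ≠ 0) → cf σ b2 b3 b5 b6 x y = 0))) := by
  have hr' := coe_ne' hr
  have hd := det_eq M
  have h20 := two_eq_zero E
  have hc0 := D.act.ne1
  have hc1 := D.ne1
  have hF1 : FA c (1 * g * 1⁻¹) q' M r hr q := by
    rw [inv_one, mul_one, one_mul]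
    exact hF
  -- the main condition
  have hS : ∀ p q0 p' q0' : E, p * q0' - q0 * p' ≠ 0 →
      (p * ent M 0 0 + q0 * ent M 1 0) * q0' - (p * ent M 0 1 + q0 * ent M 1 1) * (r * p') ≠ 0 →
      (r : E) + (r : E)⁻¹ + r * cf σ a2 a3 a5 a6 p q0 * cf σ b2 b3 b5 b6 p' q0' = 0 ∧
      ¬ ((r : E) = 1 ∧ cf σ a2 a3 a5 a6 p q0 = 0 ∧ cf σ b2 b3 b5 b6 p' q0' = 0) := by
    intro p q0 p' q0' hΔ hnum
    refine bad_hom D hg hF1 ha hb p q0 p' q0' hΔ ?_
    obtain ⟨Δ, hΔe⟩ : ∃ Δ, Δ = p * q0' - q0 * p' := ⟨_, rfl⟩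
    obtain ⟨N, hN⟩ : ∃ N, N = (p * ent M 0 0 + q0 * ent M 1 0) * q0' - (p * ent M 0 1 + q0 * ent M 1 1) * (r * p') :=
      ⟨_, rfl⟩
    rw [← hΔe] at hΔ ⊢
    rw [← hN] at hnum ⊢
    rcases cases4 h4 hc0 hc1 (div_ne_zero hnum hΔ) with h | h | h
    · left
      rwa [div_eq_one_iff_eq hΔ] at h
    · right; left
      rwa [div_eq_iff hΔ] at h
    · right; right
      rw [div_mul_eq_mul_div, div_eq_one_iff_eq hΔ] at h
      exact h
  -- common partners
  have hrow : ∀ p q0 : E, (p ≠ 0 ∨ q0 ≠ 0) →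
      (-(p * ent M 0 1 + q0 * ent M 1 1) * r ≠ 0 ∨ p * ent M 0 0 + q0 * ent M 1 0 ≠ 0) := by
    intro p q0 h
    by_contra hcon
    push Not at hcon
    obtain ⟨e1, e2⟩ := hcon
    have e1' : p * ent M 0 1 + q0 * ent M 1 1 = 0 := by
      have := (mul_eq_zero.1 e1).resolve_right hr'
      linear_combination -this
    have hp : p = 0 := by linear_combination (-p) * hd + ent M 1 1 * e2 - ent M 1 0 * e1'
    have hq : q0 = 0 := by linear_combination (-q0) * hd - ent M 0 1 * e2 + ent M 0 0 * e1'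
    rcases h with h | h
    · exact h hp
    · exact h hq
  have hpart : ∀ p1 q1 p2 q2 : E, (p1 ≠ 0 ∨ q1 ≠ 0) → (p2 ≠ 0 ∨ q2 ≠ 0) → ∃ p' q0' : E, (p' ≠ 0 ∨ q0' ≠ 0) ∧
      (p1 * q0' - q1 * p' ≠ 0 ∧
        (p1 * ent M 0 0 + q1 * ent M 1 0) * q0' - (p1 * ent M 0 1 + q1 * ent M 1 1) * (r * p') ≠ 0) ∧
      (p2 * q0' - q2 * p' ≠ 0 ∧
        (p2 * ent M 0 0 + q2 * ent M 1 0) * q0' - (p2 * ent M 0 1 + q2 * ent M 1 1) * (r * p') ≠ 0) := by
    intro p1 q1 p2 q2 h1 h2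
    obtain ⟨x, y, hxy, h⟩ := exists_avoid h4
      ![-q1, -(p1 * ent M 0 1 + q1 * ent M 1 1) * r, -q2, -(p2 * ent M 0 1 + q2 * ent M 1 1) * r]
      ![p1, p1 * ent M 0 0 + q1 * ent M 1 0, p2, p2 * ent M 0 0 + q2 * ent M 1 0] (by
        intro i
        fin_cases i
        · rcases h1 with h | h
          · exact Or.inr h
          · exact Or.inl (neg_ne_zero.2 h)
        · exact hrow p1 q1 h1
        · rcases h2 with h | h
          · exact Or.inr h
          · exact Or.inl (neg_ne_zero.2 h)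
        · exact hrow p2 q2 h2)
    refine ⟨x, y, hxy, ⟨?_, ?_⟩, ⟨?_, ?_⟩⟩
    · intro h0
      exact h 0 (by change -q1 * x + p1 * y = 0; linear_combination h0)
    · intro h0
      refine h 1 ?_
      change -(p1 * ent M 0 1 + q1 * ent M 1 1) * r * x + (p1 * ent M 0 0 + q1 * ent M 1 0) * y = 0
      linear_combination h0
    · intro h0
      exact h 2 (by change -q2 * x + p2 * y = 0; linear_combination h0)
    · intro h0
      refine h 3 ?_
      change -(p2 * ent M 0 1 + q2 * ent M 1 1) * r * x + (p2 * ent M 0 0 + q2 * ent M 1 0) * y = 0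
      linear_combination h0
  have hpart' : ∀ p' q0' : E, (p' ≠ 0 ∨ q0' ≠ 0) → ∃ p q0 : E, (p ≠ 0 ∨ q0 ≠ 0) ∧
      (p * q0' - q0 * p' ≠ 0 ∧
        (p * ent M 0 0 + q0 * ent M 1 0) * q0' - (p * ent M 0 1 + q0 * ent M 1 1) * (r * p') ≠ 0) := by
    intro p' q0' h1
    have hcol : (ent M 0 0 * q0' - ent M 0 1 * (r * p') ≠ 0 ∨ ent M 1 0 * q0' - ent M 1 1 * (r * p') ≠ 0) := by
      by_contra hcon
      push Not at hcon
      obtain ⟨e1, e2⟩ := hcon
      have hq : q0' = 0 := by linear_combination (-q0') * hd + ent M 1 1 * e1 - ent M 0 1 * e2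
      have hp : (r : E) * p' = 0 := by linear_combination (-(r * p')) * hd + ent M 1 0 * e1 - ent M 0 0 * e2
      have hp' := (mul_eq_zero.1 hp).resolve_left hr'
      rcases h1 with h | h
      · exact h hp'
      · exact h hq
    have hv : (q0' ≠ 0 ∨ -p' ≠ 0) := by
      rcases h1 with h | h
      · exact Or.inr (neg_ne_zero.2 h)
      · exact Or.inl h
    obtain ⟨x, y, hxy, h⟩ := exists_avoid h4
      ![q0', q0', q0', ent M 0 0 * q0' - ent M 0 1 * (r * p')]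
      ![-p', -p', -p', ent M 1 0 * q0' - ent M 1 1 * (r * p')] (by
        intro i
        fin_cases i
        · exact hv
        · exact hv
        · exact hv
        · exact hcol)
    refine ⟨x, y, hxy, ?_, ?_⟩
    · intro h0
      exact h 0 (by change q0' * x + -p' * y = 0; linear_combination h0)
    · intro h0
      refine h 3 ?_
      change (ent M 0 0 * q0' - ent M 0 1 * (r * p')) * x + (ent M 1 0 * q0' - ent M 1 1 * (r * p')) * y = 0
      linear_combination h0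
  have hr1 : (r : E) = 1 := by
    by_contra hr1
    -- `A` is constant
    have hk : (r : E) + (r : E)⁻¹ ≠ 0 := by
      intro h
      apply hr1
      have h3 : (r : E) ^ 2 = 1 := by
        have : (r : E) * ((r : E) + (r : E)⁻¹) = 0 := by rw [h, mul_zero]
        have h5 : (r : E) * (r : E)⁻¹ = 1 := mul_inv_cancel₀ hr'
        linear_combination this - h5 - h20
      have : ((r : E) - 1) ^ 2 = 0 := by linear_combination h3 + (1 - (r : E)) * h20
      have := pow_eq_zero_iff (by norm_num) |>.1 this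
      exact sub_eq_zero.1 this
    have hconst : ∀ p1 q1 p2 q2 : E, (p1 ≠ 0 ∨ q1 ≠ 0) → (p2 ≠ 0 ∨ q2 ≠ 0) →
        cf σ a2 a3 a5 a6 p1 q1 = cf σ a2 a3 a5 a6 p2 q2 := by
      intro p1 q1 p2 q2 h1 h2
      obtain ⟨p', q0', -, ⟨u1, u2⟩, ⟨v1, v2⟩⟩ := hpart p1 q1 p2 q2 h1 h2
      have e1 := (hS _ _ _ _ u1 u2).1
      have e2 := (hS _ _ _ _ v1 v2).1
      have hB : cf σ b2 b3 b5 b6 p' q0' ≠ 0 := by
        intro h0
        rw [h0, mul_zero, add_zero] at e1
        exact hk e1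
      have : (r * cf σ b2 b3 b5 b6 p' q0') * (cf σ a2 a3 a5 a6 p1 q1 - cf σ a2 a3 a5 a6 p2 q2) = 0 := by
        linear_combination e1 - e2
      exact sub_eq_zero.1 ((mul_eq_zero.1 this).resolve_left (mul_ne_zero hr' hB))
    have n0 : (0 : E) ≠ 0 ∨ (1 : E) ≠ 0 := Or.inr one_ne_zero
    have w2 := prim4 h4 hc0 hc1
    have t1 := hconst 1 1 0 1 (Or.inl one_ne_zero) n0
    have t2 := hconst c1 1 0 1 (Or.inl hc0) n0
    have t3 := hconst (c1 ^ 2) 1 0 1 (Or.inr one_ne_zero) n0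
    have t4 := hconst 1 0 0 1 (Or.inl one_ne_zero) n0
    rw [cf4 hσ, cf4 hσ] at t1 t2 t3 t4
    have w3 : c1 ^ 3 = 1 := by linear_combination (c1 - 1) * w2
    have ha6 : a6 = 0 := by
      have e : 3 * a6 = 0 := by
        linear_combination t1 + t2 + t3 - (a3 + a5) * w2 - (a6 + c1 * a5 + (c1 ^ 3 + 1) * a6) * w3
      linear_combination e - a6 * h20
    have e0 : cf σ a2 a3 a5 a6 0 1 = 0 := by
      rw [cf4 hσ]
      linear_combination -t4 + ha6
    obtain ⟨p', q0', -, ⟨u1, u2⟩, -⟩ := hpart 0 1 0 1 n0 n0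
    have e1 := (hS _ _ _ _ u1 u2).1
    rw [e0, mul_zero, zero_mul, add_zero] at e1
    exact hk e1
  refine ⟨hr1, ?_⟩
  have hS' : ∀ p q0 p' q0' : E, p * q0' - q0 * p' ≠ 0 →
      (p * ent M 0 0 + q0 * ent M 1 0) * q0' - (p * ent M 0 1 + q0 * ent M 1 1) * (r * p') ≠ 0 →
      (cf σ a2 a3 a5 a6 p q0 = 0 ↔ cf σ b2 b3 b5 b6 p' q0' ≠ 0) := by
    intro p q0 p' q0' h1 h2
    obtain ⟨e1, e2⟩ := hS p q0 p' q0' h1 h2
    rw [hr1, inv_one, one_mul] at e1
    have e3 : cf σ a2 a3 a5 a6 p q0 * cf σ b2 b3 b5 b6 p' q0' = 0 := by linear_combination e1 - h20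
    constructor
    · intro h h'
      exact e2 ⟨hr1, h, h'⟩
    · intro h
      exact (mul_eq_zero.1 e3).resolve_right h
  by_cases hA : ∃ p q0 : E, (p ≠ 0 ∨ q0 ≠ 0) ∧ cf σ a2 a3 a5 a6 p q0 = 0
  · left
    obtain ⟨p, q0, hpq, h0⟩ := hA
    have hall : ∀ x y : E, (x ≠ 0 ∨ y ≠ 0) → cf σ a2 a3 a5 a6 x y = 0 := by
      intro x y hxy
      obtain ⟨p', q0', -, ⟨u1, u2⟩, ⟨v1, v2⟩⟩ := hpart p q0 x y hpq hxy
      exact (hS' _ _ _ _ v1 v2).2 ((hS' _ _ _ _ u1 u2).1 h0)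
    refine ⟨hall, fun x y hxy => ?_⟩
    obtain ⟨p, q0, hpq, u1, u2⟩ := hpart' x y hxy
    exact (hS' _ _ _ _ u1 u2).1 (hall p q0 hpq)
  · right
    push Not at hA
    refine ⟨hA, fun x y hxy => ?_⟩
    obtain ⟨p, q0, hpq, u1, u2⟩ := hpart' x y hxy
    by_contra h
    exact hA p q0 hpq ((hS' _ _ _ _ u1 u2).2 h)

end Cfsg.Agent.H148.Hex
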