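import Cfsg.Agent.Cit.HexG2

/-!
# The instance `G₂(F)` of `HexGrp`, `F` with at least three elements, any characteristic (helper148)
-/

set_option autoImplicit false

namespace Cfsg.Agent.H148.Hex

open Cfsg.Lie
open Cfsg.Agent.ChevalleyStructure.Elts Cfsg.Agent.ChevalleyStructure.NConj
open Cfsg.Agent.Hexagon.G2Pos Cfsg.Agent.Hexagon.G2Side Cfsg.Agent.Hexagon.G2Rel
open Cfsg.Agent.SplitTwo Cfsg.Agent.Cit.HexBase Cfsg.Agent.Cit.HexG2
open Cfsg.Agent.TitsThree.RankTwoIdx Cfsg.Agent.TitsThree.RankTwoZ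
open Cfsg.Agent.Lib.SL2Mat
open Cfsg.Agent.ClassificationK.GTwoChev (ph ph6 ph7)

universe u

variable {F : Type u} [Field F]

theorem g2_center_eq (ha : ∃ a : F, a ≠ 0 ∧ a ≠ 1) (g : ↥(chevG2.group F)) (hg : ∀ x, g * x = x * g) : g = 1 := by
  obtain ⟨hs, hc⟩ := S1055.result ha
  have hz : Subgroup.center ↥(chevG2.group F) = ⊥ := by
    rcases hs.eq_bot_or_eq_top_of_normal (Subgroup.center ↥(chevG2.group F)) inferInstance with h | h
    · exact h
    · exact absurd ⟨⟨fun a b => (Subgroup.mem_center_iff.1 (h ▸ Subgroup.mem_top b) a)⟩⟩ hc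
  have : g ∈ Subgroup.center ↥(chevG2.group F) := Subgroup.mem_center_iff.2 fun x => (hg x).symm
  rwa [hz, Subgroup.mem_bot] at this

/-- **`G₂(F)`**, `F` with at least three elements, is a `HexGrp`. -/
noncomputable def g2' (F : Type u) [Field F] (ha : ∃ a : F, a ≠ 0 ∧ a ≠ 1) :
    HexGrp (RingEquiv.refl F) ↥(chevG2.group F) where
  X := X F
  x1 := Cfsg.Agent.Hexagon.G2Par.y1
  x2 := Cfsg.Agent.Hexagon.G2Par.y2
  x3 := Cfsg.Agent.Hexagon.G2Par.y3
  x4 := Cfsg.Agent.Hexagon.G2Par.y4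
  x5 := Cfsg.Agent.Hexagon.G2Par.y5
  x6 := Cfsg.Agent.Hexagon.G2Par.y6
  par := Cfsg.Agent.Hexagon.G2End.hexPar
  pa := (ph6 F).comp (inc F)
  pb := ph7 F
  pa_up t := by
    rw [MonoidHom.comp_apply, inc_up]
    refine (ph_up' (by decide) _).trans (Subtype.ext ?_)
    exact (Cfsg.Agent.Hexagon.G2End.xG_eq 6 (t : F)).symm
  pb_up a := by
    refine (ph_up' (by decide) _).trans (Subtype.ext ?_)
    exact (Cfsg.Agent.Hexagon.G2End.xG_eq 7 a).symm
  pa_lo g := by
    rw [mem_X' (show tab 0 = 5 by decide +kernel)]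
    constructor
    · rintro ⟨t, rfl⟩
      refine ⟨⟨t, rfl⟩, ?_⟩
      rw [MonoidHom.comp_apply, inc_lo]
      exact ph_lo' (by decide) (by decide) t
    · rintro ⟨t, rfl⟩
      refine ⟨t, ?_⟩
      rw [MonoidHom.comp_apply, inc_lo]
      exact ph_lo' (by decide) (by decide) _
  pb_lo g := by
    rw [mem_X' (show tab 7 = 4 by decide +kernel)]
    constructor
    · rintro ⟨t, rfl⟩
      exact ⟨t, ph_lo' (by decide) (by decide) t⟩
    · rintro ⟨t, rfl⟩
      exact ⟨t, ph_lo' (by decide) (by decide) t⟩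
  mapsA t ht := by
    refine maps_n (i := 1) (t := (t : F)) (by norm_num) (fun k => ?_) (fun k => by ring) (coe_ne ht) ?_
    · exact tab_J k
    · rw [MonoidHom.comp_apply, inc_wm]
      exact ph_wm _ _ _
  mapsB s hs := by
    refine maps_n (i := 0) (t := s) (by norm_num) (fun k => ?_) (fun k => by ring) hs ?_
    · have h := tab_I k
      have e : (((6 : ℕ) : ZMod (2 * 6)) + 2 - k) = 8 - k := by
        congr 1
      rwa [e] at h
    · exact ph_wm _ _ _
  gen := Cfsg.Agent.Hexagon.G2Side.gen F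
  cen := g2_center_eq ha
  tri u hu v hv s hs t ht e := by
    refine tri_aux (h := ph7 F (dg s hs) * (ph6 F).comp (inc F) (dg t ht)) (Sg_pos u hu) (Sg_neg v hv) ?_ e
    rw [Subgroup.coe_mul, MonoidHom.comp_apply, inc_dg]
    exact mul_mem (ph_dg_mem _ _ _) (ph_dg_mem _ _ _)

end Cfsg.Agent.H148.Hex
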