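import Cfsg.Agent.H148.CoordW

/-!
# Groups of type `G₂` and `³D₄`: a Gauss decomposition with prescribed torus part (helper148)

`exists_weak_gauss`: if the fixed field has at least three elements, every `g ≠ 1` is conjugate to an element
`v * pa l * u`, `v ∈ Qb'`, `u ∈ Qb`, `l ∈ SL(2,F)`.
-/

set_option autoImplicit false

namespace Cfsg.Agent.H148.Hex

open Cfsg.Agent.SplitTwo Cfsg.Agent.TitsThree.RankTwoZ Cfsg.Agent.Lib.SL2Mat Cfsg.Agent.Cit.HexBase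
  Cfsg.Agent.Cit.HexBase.HexGrp Cfsg.Agent.H148.SLTwo
open scoped commutatorElement

universe u

variable {E : Type*} [Field E] {σ : E ≃+* E} {L : Type u} [Group L] (c : HexGrp σ L)

theorem coe_ne' {r : ↥(fx σ)} (hr : r ≠ 0) : (r : E) ≠ 0 := fun h => hr (Subtype.ext h)

/-- `pa (dg r)` past `pb` -/
theorem pa_dg_pb' (r : ↥(fx σ)) (hr : r ≠ 0) (x : SL2 E) :
    c.pa (dg r hr) * c.pb x =
      c.pb (conjGL (dgl (r : E)⁻¹ (inv_ne_zero (coe_ne' hr))) x) * c.pa (dg r hr) := by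
  rw [← (c.act_a r hr).pb x]
  group

theorem pa_dg_up (r : ↥(fx σ)) (hr : r ≠ 0) (a : E) :
    c.pa (dg r hr) * c.pb (up a) = c.pb (up ((r : E)⁻¹ * a)) * c.pa (dg r hr) := by
  rw [pa_dg_pb', conjGL_dgl_up]

/-- `q' * (pb M * pa (dg r)) * q` -/
def FA (g q' : L) (M : SL2 E) (r : ↥(fx σ)) (hr : r ≠ 0) (q : L) : Prop :=
  q' ∈ Sg c.X Qa' ∧ q ∈ Sg c.X Qa ∧ g = q' * (c.pb M * c.pa (dg r hr)) * q

/-- the `L_α`-parts of all conjugates are central -/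
def Cen (g : L) : Prop := ∀ y q' M r hr q, FA c (y * g * y⁻¹) q' M r hr q →
  ent M 0 1 = 0 ∧ ent M 1 0 = 0 ∧ ent M 0 0 * (r : E)⁻¹ = ent M 1 1

variable {c}

theorem Cen.conj {g : L} (h : Cen c g) (y : L) : Cen c (y * g * y⁻¹) := by
  intro z q' M r hr q hF
  refine h (z * y) q' M r hr q ?_
  have e : z * y * g * (z * y)⁻¹ = z * (y * g * y⁻¹) * z⁻¹ := by group
  rwa [e]

theorem FA.conj_pb {g q' : L} {M : SL2 E} {r : ↥(fx σ)} {hr : r ≠ 0} {q : L} (h : FA c g q' M r hr q) (m : SL2 E) :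
    FA c (c.pb m * g * (c.pb m)⁻¹) (c.pb m * q' * (c.pb m)⁻¹)
      (m * M * conjGL (dgl (r : E)⁻¹ (inv_ne_zero (coe_ne' hr))) m⁻¹) r hr (c.pb m * q * (c.pb m)⁻¹) := by
  obtain ⟨h1, h2, rfl⟩ := h
  refine ⟨pb_conj c (by decide +kernel) (by decide +kernel) m q' h1,
    pb_conj c (by decide +kernel) (by decide +kernel) m q h2, ?_⟩
  have e := pa_dg_pb' c r hr m⁻¹
  rw [map_mul, map_mul]
  calc c.pb m * (q' * (c.pb M * c.pa (dg r hr)) * q) * (c.pb m)⁻¹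
      = c.pb m * q' * (c.pb m)⁻¹ * (c.pb m * c.pb M * (c.pa (dg r hr) * c.pb m⁻¹)) * (c.pb m * q * (c.pb m)⁻¹) := by
        rw [map_inv]; group
    _ = _ := by rw [e]; group

/-- the form of an element of the big cell -/
theorem FA_of {q' q : L} (hq' : q' ∈ Sg c.X Qa') (hq : q ∈ Sg c.X Qa) (a s b : E) (hs : s ≠ 0) (r : ↥(fx σ)) (hr : r ≠ 0) :
    FA c (q' * c.pb (lo a) * (c.pb (dg s hs) * c.pa (dg r hr)) * c.pb (up b) * q) q'
      (lo a * dg s hs * up ((r : E)⁻¹ * b)) r hr q := by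
  refine ⟨hq', hq, ?_⟩
  have e := pa_dg_up c r hr b
  rw [map_mul, map_mul]
  calc q' * c.pb (lo a) * (c.pb (dg s hs) * c.pa (dg r hr)) * c.pb (up b) * q
      = q' * c.pb (lo a) * c.pb (dg s hs) * (c.pa (dg r hr) * c.pb (up b)) * q := by group
    _ = _ := by rw [e]; group

theorem Cen.cell {g : L} (h : Cen c g) {y q' q : L} (hq' : q' ∈ Sg c.X Qa') (hq : q ∈ Sg c.X Qa) {a s b : E} {hs : s ≠ 0}
    {r : ↥(fx σ)} {hr : r ≠ 0}
    (e : y * g * y⁻¹ = q' * c.pb (lo a) * (c.pb (dg s hs) * c.pa (dg r hr)) * c.pb (up b) * q) :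
    a = 0 ∧ b = 0 ∧ s ^ 2 * (r : E)⁻¹ = 1 := by
  have hF := FA_of (c := c) hq' hq a s b hs r hr
  rw [← e] at hF
  obtain ⟨h1, h2, h3⟩ := h _ _ _ _ _ _ hF
  have hr' := coe_ne' hr
  simp only [ent_mul, lo_00, lo_01, lo_10, lo_11, dg_00, dg_01, dg_10, dg_11, up_00, up_01, up_10, up_11] at h1 h2 h3
  have ha : a = 0 := by
    have : a * s = 0 := by linear_combination h2
    exact (mul_eq_zero.1 this).resolve_right hs
  have hb : b = 0 := by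
    have h4 : s * ((r : E)⁻¹ * b) = 0 := by linear_combination h1
    exact (mul_eq_zero.1 ((mul_eq_zero.1 h4).resolve_left hs)).resolve_left (inv_ne_zero hr')
  refine ⟨ha, hb, ?_⟩
  rw [ha, hb] at h3
  have h5 : s * (r : E)⁻¹ = s⁻¹ := by linear_combination h3
  calc s ^ 2 * (r : E)⁻¹ = s * (s * (r : E)⁻¹) := by ring
    _ = 1 := by rw [h5, mul_inv_cancel₀ hs]

theorem ldu_pa {M : SL2 ↥(fx σ)} (h : ent M 0 0 ≠ 0) : ∃ x w hw x', c.pa M = c.pa (lo x) * c.pa (dg w hw) * c.pa (up x') := by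
  refine ⟨ent M 1 0 / ent M 0 0, ent M 0 0, h, ent M 0 1 / ent M 0 0, ?_⟩
  rw [← map_mul, ← map_mul]
  exact congrArg c.pa (ldu M h)

/-- `q = x6 d * q2`: the component in `X 5` vanishes -/
theorem Cen.five {g : L} (h : Cen c g) {z0 : ↥(fx σ)} (hz0 : z0 ≠ 0) (hz1 : z0 ≠ 1) {q' t q : L} (hq' : q' ∈ Sg c.X Qa')
    (hq : q ∈ Sg c.X Qa) (ht : IsT c t) {c6 : E} (hA : c.Act t 1 c6) (hg : g = q' * t * q) {b2 b3 b5 b6 : E}
    (hN : c.NF q b2 b3 b5 b6) : b5 = 0 := by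
  obtain ⟨w6, h6, q2, hq2, rfl⟩ := c.exists_mul (k := 6) (s := {2, 3, 4, 5}) (by decide +kernel)
    (Sg_mono (by decide +kernel) hq : q ∈ Sg c.X (insert 6 {2, 3, 4, 5}))
  obtain ⟨d0, hd0, rfl⟩ := (c.par.mem6 _).1 h6
  obtain ⟨q2', hq2', w0, h0, rfl⟩ := c.exists_mul' (k := 0) (s := {8, 9, 10, 11}) (by decide +kernel)
    (Sg_mono (by decide +kernel) hq' : q' ∈ Sg c.X (insert 0 {8, 9, 10, 11}))
  obtain ⟨b, rfl⟩ := (c.pa_lo _).1 h0
  obtain ⟨d, hd⟩ : ∃ d : ↥(fx σ), d = ⟨d0, hd0⟩ := ⟨_, rfl⟩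
  have e6 : c.x6 d0 = c.pa (up d) := by rw [hd]; exact (c.pa_up ⟨d0, hd0⟩).symm
  obtain ⟨a5, a1, hW⟩ := exists_W c (Sg_mono (by decide +kernel) hq2 : q2 ∈ Sg c.X Qb)
  -- the component of `q2` in `X 1` is trivial
  have ha1 : a1 = 0 := by
    obtain ⟨x5', h5, v, hv, e5⟩ := c.exists_mul (k := 5) (s := {2, 3, 4}) (by decide +kernel)
      (Sg_mono (by decide +kernel) hq2 : q2 ∈ Sg c.X (insert 5 {2, 3, 4}))
    obtain ⟨b5', rfl⟩ := (c.par.mem5 _).1 h5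
    have hW' : W c q2 b5' 0 := ⟨v, hv, by rw [c.x1_zero, mul_one]; exact e5⟩
    exact (hW.unique hW').2
  subst ha1
  -- the coordinate of `q`
  have hb5 : b5 = a5 := by
    obtain ⟨k, hk, ek⟩ := hW
    obtain ⟨t2, bb, t4, f2, f4, ev⟩ := exists_V c hk
    have n1 : c.NF (c.x6 d0 * q2) t2 bb a5 d0 := by
      rw [ek, c.x1_zero, mul_one, ev]
      exact ((c.nf6 hd0).mul ((c.nf5 a5).mul (((c.nf2 f2).mul (c.nf3 bb)).mul (c.nf4 f4)))).congr rfl (by ring)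
        (by ring) (by ring) (by ring)
    exact (hN.unique n1).2.2.1
  rw [hb5]
  -- choice of `z`
  obtain ⟨z, hz, hz'⟩ : ∃ z : ↥(fx σ), z ≠ 0 ∧ 1 - d * z ≠ 0 := by
    by_cases hd' : d = 0
    · exact ⟨1, one_ne_zero, by rw [hd', zero_mul, sub_zero]; exact one_ne_zero⟩
    · refine ⟨z0 / d, div_ne_zero hz0 hd', ?_⟩
      rw [mul_div_cancel₀ _ hd', sub_ne_zero]
      exact hz1.symm
  have hpa := hA.pa (up d * lo (-z))
  obtain ⟨m1, hm1⟩ : ∃ m1, m1 = conjGL (dgl (⟨c6, hA.fix⟩ : ↥(fx σ)) (sub_ne _ hA.ne6)) (up d * lo (-z)) := ⟨_, rfl⟩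
  rw [← hm1] at hpa
  have e00 : ent (lo (z + b) * m1) 0 0 = 1 - d * z := by
    rw [hm1, conjGL_dgl_ent, ent_mul, lo_00, lo_01, mk_00, mk_10, ent_mul, up_00, up_01, lo_00, lo_10]
    ring
  obtain ⟨x, w, hw, x', eM⟩ := ldu_pa (c := c) (M := lo (z + b) * m1) (by rw [e00]; exact hz')
  obtain ⟨up', hup', eup⟩ := T0_comm_left (c := c) (s := {6}) ht.mem (g := c.pa (up x')) (pa_up_mem c (by decide) _)
  obtain ⟨s, hs, r, hr, ets⟩ := ht
  have hWm := hW.pa (lo z)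
  rw [lo_00, lo_01, lo_10, lo_11] at hWm
  obtain ⟨k, hk, ek⟩ := hWm
  -- the positive side
  obtain ⟨ε, hε⟩ : ∃ ε : E, ε = ((z : ↥(fx σ)) : E) * a5 := ⟨_, rfl⟩
  have ek2 : c.pa (lo z) * q2 * (c.pa (lo z))⁻¹ = c.x5 a5 * c.x1 ε * k := by
    rw [ek, hε]
    congr 2
    · congr 1
      push_cast
      ring
    · congr 1
      ring
  have hpos : (c.x1 ε)⁻¹ * (up' * c.x5 a5) * c.x1 ε * k ∈ Sg c.X Qa := by
    refine mul_mem ?_ (Sg_mono (by decide +kernel) hk)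
    have h1 := c.conj_mem_Sg (k := 1) (s := Qa) (by decide +kernel) (c.mem1 (-ε))
      (mul_mem (Sg_mono (by decide +kernel) hup') (c.sg (by decide) (c.mem5 a5)) : up' * c.x5 a5 ∈ Sg c.X Qa)
    rwa [c.x1_neg, inv_inv] at h1
  -- the negative side
  have hneg : c.pa (lo z) * q2' * (c.pa (lo z))⁻¹ * c.pa (lo x) ∈ Sg c.X (insert 7 Qa') := by
    refine mul_mem (Sg_mono (by decide +kernel) (pa_conj c (s := Qb') (by decide +kernel) (by decide +kernel) (lo z) q2'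
      (Sg_mono (by decide +kernel) hq2'))) (pa_lo_mem c (by decide) _)
  obtain ⟨q3, hq3, w7, h7, e7⟩ := c.exists_mul' (k := 7) (s := Qa') (by decide +kernel) hneg
  obtain ⟨a, rfl⟩ := (c.pb_lo _).1 h7
  have final : c.pa (lo z) * g * (c.pa (lo z))⁻¹ = q3 * c.pb (lo a) * (c.pb (dg s hs) * c.pa (dg (w * r)
      (mul_ne_zero hw hr))) * c.pb (up ε) * ((c.x1 ε)⁻¹ * (up' * c.x5 a5) * c.x1 ε * k) := by
    have e1 : c.pa (dg w hw) * t = c.pb (dg s hs) * c.pa (dg (w * r) (mul_ne_zero hw hr)) := by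
      rw [ets, ← dg_mul_dg w r hw hr, map_mul, ← mul_assoc, ← mul_assoc,
        c.T0_comm (pa_dg_T0 c w hw) (pb_dg_T0 c s hs)]
    rw [c.pb_up, ← e7, hg, e6, ← e1]
    calc c.pa (lo z) * (q2' * c.pa (lo b) * t * (c.pa (up d) * q2)) * (c.pa (lo z))⁻¹
        = (c.pa (lo z) * q2' * (c.pa (lo z))⁻¹) * (c.pa (lo z) * c.pa (lo b) * (t * (c.pa (up d) * (c.pa (lo z))⁻¹) * t⁻¹) * t) *
            (c.pa (lo z) * q2 * (c.pa (lo z))⁻¹) := by group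
      _ = (c.pa (lo z) * q2' * (c.pa (lo z))⁻¹) * (c.pa (lo (z + b) * m1) * t) * (c.x5 a5 * c.x1 ε * k) := by
          rw [ek2, ← map_inv, lo_inv, ← map_mul c.pa (up d), hpa, ← map_mul, lo_mul, ← map_mul]
      _ = (c.pa (lo z) * q2' * (c.pa (lo z))⁻¹) * (c.pa (lo x) * c.pa (dg w hw) * (c.pa (up x') * t)) *
            (c.x5 a5 * c.x1 ε * k) := by rw [eM]; group
      _ = _ := by rw [eup]; group
  obtain ⟨-, hb, -⟩ := h.cell hq3 hpos final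
  rw [hε] at hb
  exact (mul_eq_zero.1 hb).resolve_left (coe_ne' hz)

end Cfsg.Agent.H148.Hex
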