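import Cfsg.Agent.H148.Gauss

/-!
# Groups of type `G₂` and `³D₄`: a Gauss decomposition with prescribed torus part, II (helper148)
-/

set_option autoImplicit false

namespace Cfsg.Agent.H148.Hex

open Cfsg.Agent.SplitTwo Cfsg.Agent.TitsThree.RankTwoZ Cfsg.Agent.Lib.SL2Mat Cfsg.Agent.Cit.HexBase
  Cfsg.Agent.Cit.HexBase.HexGrp Cfsg.Agent.H148.SLTwo
open scoped commutatorElement

universe u

variable {E : Type*} [Field E] {σ : E ≃+* E} {L : Type u} [Group L] {c : HexGrp σ L}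

/-- the component of `q'` in `X 11` vanishes -/
theorem Cen.eleven {g : L} (h : Cen c g) {z0 : ↥(fx σ)} (hz0 : z0 ≠ 0) (hz1 : z0 ≠ 1) {q' t q : L}
    (hq' : q' ∈ Sg c.X Qa') (hq : q ∈ Sg c.X Qa) (ht : IsT c t) {c6 : E} (hA : c.Act t 1 c6) (hg : g = q' * t * q) :
    ∃ v ∈ Sg c.X {8, 9, 10}, ∃ b, q' = v * c.pa (lo b) := by
  obtain ⟨w6, h6, q2, hq2, rfl⟩ := c.exists_mul (k := 6) (s := {2, 3, 4, 5}) (by decide +kernel)
    (Sg_mono (by decide +kernel) hq : q ∈ Sg c.X (insert 6 {2, 3, 4, 5}))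
  obtain ⟨d0, hd0, rfl⟩ := (c.par.mem6 _).1 h6
  obtain ⟨q2', hq2', w0, h0, rfl⟩ := c.exists_mul' (k := 0) (s := {8, 9, 10, 11}) (by decide +kernel)
    (Sg_mono (by decide +kernel) hq' : q' ∈ Sg c.X (insert 0 {8, 9, 10, 11}))
  obtain ⟨b, rfl⟩ := (c.pa_lo _).1 h0
  obtain ⟨d, hd⟩ : ∃ d : ↥(fx σ), d = ⟨d0, hd0⟩ := ⟨_, rfl⟩
  have e6 : c.x6 d0 = c.pa (up d) := by rw [hd]; exact (c.pa_up ⟨d0, hd0⟩).symm
  -- transport to the positive side by `n3`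
  have hq4 : (n3 c)⁻¹ * q2' * n3 c ∈ Sg c.X {1, 2, 3, 4} := by
    have := conj_Sg (maps_n3_inv c) (s := {8, 9, 10, 11}) (t := {1, 2, 3, 4}) (by decide +kernel) hq2'
    rwa [inv_inv] at this
  obtain ⟨w1, h1, k, hk, ek⟩ := c.exists_mul (k := 1) (s := {2, 3, 4}) (by decide +kernel)
    (Sg_mono (by decide +kernel) hq4 : (n3 c)⁻¹ * q2' * n3 c ∈ Sg c.X (insert 1 {2, 3, 4}))
  obtain ⟨a1, rfl⟩ := (c.par.mem1 _).1 h1
  have hW : W c ((n3 c)⁻¹ * q2' * n3 c) 0 a1 := ⟨k, hk, by rw [c.x5_zero, one_mul]; exact ek⟩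
  -- choice of `z`
  obtain ⟨z, hz, hz'⟩ : ∃ z : ↥(fx σ), z ≠ 0 ∧ 1 + z * b ≠ 0 := by
    by_cases hb' : b = 0
    · exact ⟨1, one_ne_zero, by rw [hb', mul_zero, add_zero]; exact one_ne_zero⟩
    · refine ⟨-(z0 / b), neg_ne_zero.2 (div_ne_zero hz0 hb'), ?_⟩
      rw [neg_mul, div_mul_cancel₀ _ hb', ← sub_eq_add_neg, sub_ne_zero]
      exact hz1.symm
  have hpa := hA.pa (up (d - z))
  obtain ⟨m1, hm1⟩ : ∃ m1, m1 = conjGL (dgl (⟨c6, hA.fix⟩ : ↥(fx σ)) (sub_ne _ hA.ne6)) (up (d - z)) := ⟨_, rfl⟩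
  rw [← hm1] at hpa
  have e00 : ent (up z * lo b * m1) 0 0 = 1 + z * b := by
    rw [hm1, conjGL_dgl_up, ent_mul, ent_mul, ent_mul, up_00, up_00, up_01, up_10, lo_00, lo_01, lo_10, lo_11]
    ring
  obtain ⟨x, w, hw, x', eM⟩ := ldu_pa (c := c) (M := up z * lo b * m1) (by rw [e00]; exact hz')
  obtain ⟨up', hup', eup⟩ := T0_comm_left (c := c) (s := {6}) ht.mem (g := c.pa (up x')) (pa_up_mem c (by decide) _)
  obtain ⟨s, hs, r, hr, ets⟩ := ht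
  have hWm := hW.pa (up z)
  rw [up_00, up_01, up_10, up_11] at hWm
  obtain ⟨k', hk', ek'⟩ := hWm
  obtain ⟨ε, hε⟩ : ∃ ε : E, ε = ((z : ↥(fx σ)) : E) * a1 := ⟨_, rfl⟩
  have ek2 : c.pa (up z) * q2' * (c.pa (up z))⁻¹ =
      (n3 c * c.x5 ε * (n3 c)⁻¹) * (n3 c * (c.x1 a1 * k') * (n3 c)⁻¹) := by
    have e5 : ((1 : ↥(fx σ)) : E) * 0 + (z : E) * a1 = ε := by rw [hε]; ring
    have e1 : ((0 : ↥(fx σ)) : E) * 0 + ((1 : ↥(fx σ)) : E) * a1 = a1 := by push_cast; ring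
    rw [e5, e1] at ek'
    have hn := comm_pa_n3 c (up z)
    have hn' : n3 c * c.pa (up z) = c.pa (up z) * n3 c := mul_inv_eq_iff_eq_mul.1 hn
    calc c.pa (up z) * q2' * (c.pa (up z))⁻¹
        = (c.pa (up z) * n3 c) * ((n3 c)⁻¹ * q2' * n3 c) * (c.pa (up z) * n3 c)⁻¹ := by group
      _ = n3 c * (c.pa (up z) * ((n3 c)⁻¹ * q2' * n3 c) * (c.pa (up z))⁻¹) * (n3 c)⁻¹ := by rw [← hn']; group
      _ = _ := by rw [ek']; group
  obtain ⟨a, ha⟩ : ∃ a, c.pb (lo a) = n3 c * c.x5 ε * (n3 c)⁻¹ :=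
    (c.pb_lo _).1 (maps_mem (maps_n3 c) (c.mem5 ε) (by decide))
  -- the positive side
  have hpos1 : c.pa (up z) * q2 * (c.pa (up z))⁻¹ ∈ Sg c.X (insert 1 {2, 3, 4, 5}) :=
    pa_conj c (s := Qb) (by decide +kernel) (by decide +kernel) (up z) q2 (Sg_mono (by decide +kernel) hq2)
  obtain ⟨w1', h1', q3, hq3, e3⟩ := c.exists_mul (k := 1) (s := {2, 3, 4, 5}) (by decide +kernel) hpos1
  obtain ⟨e, rfl⟩ := (c.par.mem1 _).1 h1'
  have hpos : (c.x1 e)⁻¹ * up' * c.x1 e * q3 ∈ Sg c.X Qa := by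
    refine mul_mem ?_ (Sg_mono (by decide +kernel) hq3)
    have h1 := c.conj_mem_Sg (k := 1) (s := Qa) (by decide +kernel) (c.mem1 (-e)) (Sg_mono (by decide +kernel) hup')
    rwa [c.x1_neg, inv_inv] at h1
  -- the negative side
  have hv2 : n3 c * (c.x1 a1 * k') * (n3 c)⁻¹ * c.pa (lo x) ∈ Sg c.X Qa' := by
    refine mul_mem (Sg_mono (by decide +kernel) (conj_Sg (maps_n3 c) (s := {1, 2, 3, 4}) (t := {8, 9, 10, 11})
      (by decide +kernel) (mul_mem (c.sg (by decide) (c.mem1 a1)) (Sg_mono (by decide +kernel) hk')))) (pa_lo_mem c (by decide) _)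
  have hneg := pb_conj c (s := Qa') (by decide +kernel) (by decide +kernel) (lo a) _ hv2
  have final : c.pa (up z) * g * (c.pa (up z))⁻¹ =
      (c.pb (lo a) * (n3 c * (c.x1 a1 * k') * (n3 c)⁻¹ * c.pa (lo x)) * (c.pb (lo a))⁻¹) * c.pb (lo a) *
      (c.pb (dg s hs) * c.pa (dg (w * r) (mul_ne_zero hw hr))) * c.pb (up e) * ((c.x1 e)⁻¹ * up' * c.x1 e * q3) := by
    have e1 : c.pa (dg w hw) * t = c.pb (dg s hs) * c.pa (dg (w * r) (mul_ne_zero hw hr)) := by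
      rw [ets, ← dg_mul_dg w r hw hr, map_mul, ← mul_assoc, ← mul_assoc,
        c.T0_comm (pa_dg_T0 c w hw) (pb_dg_T0 c s hs)]
    rw [c.pb_up, ← e1, ha, hg, e6]
    calc c.pa (up z) * (q2' * c.pa (lo b) * t * (c.pa (up d) * q2)) * (c.pa (up z))⁻¹
        = (c.pa (up z) * q2' * (c.pa (up z))⁻¹) * (c.pa (up z) * c.pa (lo b) * (t * (c.pa (up d) * (c.pa (up z))⁻¹) * t⁻¹) * t) *
            (c.pa (up z) * q2 * (c.pa (up z))⁻¹) := by group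
      _ = (c.pa (up z) * q2' * (c.pa (up z))⁻¹) * (c.pa (up z * lo b * m1) * t) * (c.x1 e * q3) := by
          rw [e3, ← map_inv, up_inv, ← map_mul c.pa (up d), up_mul, ← sub_eq_add_neg, hpa, ← map_mul, ← map_mul]
      _ = ((n3 c * c.x5 ε * (n3 c)⁻¹) * (n3 c * (c.x1 a1 * k') * (n3 c)⁻¹)) *
            (c.pa (lo x) * c.pa (dg w hw) * (c.pa (up x') * t)) * (c.x1 e * q3) := by rw [eM, ek2]; group
      _ = _ := by rw [eup]; group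
  obtain ⟨ha0, -, -⟩ := h.cell hneg hpos final
  have hε0 : c.x5 ε = c.x5 0 := by
    rw [ha0, lo_zero, map_one] at ha
    rw [c.x5_zero]
    have : n3 c * c.x5 ε * (n3 c)⁻¹ = 1 := ha.symm
    rw [mul_inv_eq_one] at this
    exact mul_eq_left.1 this
  have h1 : ((z : ↥(fx σ)) : E) * a1 = 0 := by rw [← hε]; exact c.x5_inj hε0
  have ha1 : a1 = 0 := (mul_eq_zero.1 h1).resolve_left (coe_ne' hz)
  rw [ha1, c.x1_zero, one_mul] at ek
  refine ⟨q2', ?_, b, rfl⟩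
  have : q2' = n3 c * k * (n3 c)⁻¹ := by rw [← ek]; group
  rw [this]
  exact conj_Sg (maps_n3 c) (by decide +kernel) hk

/-! ### Normal forms under `n1` -/

theorem mem_single {k : ZMod (2 * 6)} {g : L} (h : g ∈ Sg c.X {k}) : g ∈ c.X k :=
  (Sg_le fun j hj => by rw [Finset.mem_singleton.1 hj] : Sg c.X {k} ≤ c.X k) h

/-- `n1` on the normal form -/
theorem NF_n1 {g : L} {b2 b3 b5 b6 : E} (h : c.NF g b2 b3 b5 b6) :
    ∃ d3 d5, c.NF (c.n1 * g * c.n1⁻¹) (-b6) d3 d5 b2 ∧ (d3 = 0 → b5 = 0) ∧ (d5 = 0 → b3 = 0) := by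
  obtain ⟨f2, f6, b4, f4, rfl⟩ := h
  have m3 : c.n1 * c.x3 b3 * c.n1⁻¹ ∈ c.X 5 := maps_mem c.maps_n1 (c.mem3 b3) (by decide)
  have m5 : c.n1 * c.x5 b5 * c.n1⁻¹ ∈ c.X 3 := maps_mem c.maps_n1 (c.mem5 b5) (by decide)
  have m4 : c.n1 * c.x4 b4 * c.n1⁻¹ ∈ c.X 4 := maps_mem c.maps_n1 (c.mem4 f4) (by decide)
  obtain ⟨d5, e5⟩ := (c.par.mem5 _).1 m3
  obtain ⟨d3, e3⟩ := (c.par.mem3 _).1 m5
  obtain ⟨d4, g4, e4⟩ := (c.par.mem4 _).1 m4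
  refine ⟨d3, d5, ?_, ?_, ?_⟩
  · have k2 := c.nf6 f2
    rw [← n1_x2 b2 f2] at k2
    have k6 := c.nf2 (neg_fix f6)
    rw [← n1_x6 b6 f6] at k6
    have k3 := c.nf5 d5
    rw [e5] at k3
    have k5 := c.nf3 d3
    rw [e3] at k5
    have k4 := c.nf4 g4
    rw [e4] at k4
    exact ((((k2.mul k3).mul k4).mul k5).mul k6).congr (by group) (by ring) (by ring) (by ring) (by ring)
  · intro h
    rw [h, c.x3_zero] at e3
    have : c.n1 * c.x5 b5 * c.n1⁻¹ = 1 := e3.symm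
    rw [mul_inv_eq_one] at this
    have h1 : c.x5 b5 = c.x5 0 := by rw [c.x5_zero]; exact mul_eq_left.1 this
    exact c.x5_inj h1
  · intro h
    rw [h, c.x5_zero] at e5
    have : c.n1 * c.x3 b3 * c.n1⁻¹ = 1 := e5.symm
    rw [mul_inv_eq_one] at this
    have h1 : c.x3 b3 = c.x3 0 := by rw [c.x3_zero]; exact mul_eq_left.1 this
    exact c.x3_inj h1

theorem NF.mem4' {g : L} {b2 b3 b5 b6 : E} (h : c.NF g b2 b3 b5 b6) (h2 : b2 = 0) (h3 : b3 = 0) (h5 : b5 = 0)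
    (h6 : b6 = 0) : g ∈ c.X 4 := by
  obtain ⟨f2, f6, b4, f4, rfl⟩ := h
  rw [h2, h3, h5, h6, c.x2_zero, c.x3_zero, c.x5_zero, c.x6_zero, one_mul, one_mul, mul_one, mul_one]
  exact c.mem4 f4

/-- an element of `Qa` all of whose conjugates by `pb` have trivial component in `X 5` -/
theorem mem_X4_of_five {q : L} (hq : q ∈ Sg c.X Qa)
    (h : ∀ (m : SL2 E) b2 b3 b5 b6, c.NF (c.pb m * q * (c.pb m)⁻¹) b2 b3 b5 b6 → b5 = 0) : q ∈ c.X 4 := by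
  have key : ∀ {q : L} {b2 b3 b5 b6 : E}, c.NF q b2 b3 b5 b6 →
      (∀ (m : SL2 E) b2 b3 b5 b6, c.NF (c.pb m * q * (c.pb m)⁻¹) b2 b3 b5 b6 → b5 = 0) → b5 = 0 ∧ b6 = 0 := by
    intro q b2 b3 b5 b6 hN h
    have h0 : b5 = 0 := h 1 b2 b3 b5 b6 (by rw [map_one]; exact hN.congr (by group) rfl rfl rfl rfl)
    have h1 := h (up (-1)) _ _ _ _ ((hN.conj1 1).congr (by rw [c.pb_up, c.x1_neg]; group) rfl rfl rfl rfl)
    refine ⟨h0, ?_⟩
    rw [h0] at h1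
    linear_combination h1
  obtain ⟨b2, b3, b5, b6, hN⟩ := c.exists_NF hq
  obtain ⟨k5, k6⟩ := key hN h
  obtain ⟨d3, d5, hN', -, h35⟩ := NF_n1 hN
  obtain ⟨j5, j6⟩ := key hN' (by
    intro m b2 b3 b5 b6 hm
    refine h (m * wm 1 one_ne_zero) b2 b3 b5 b6 (hm.congr ?_ rfl rfl rfl rfl)
    rw [map_mul, HexGrp.n1]
    group)
  exact NF.mem4' hN j6 (h35 j5) k5 k6

/-- an element of `Qa` all of whose conjugates by `pb` have trivial component in `X 3` -/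
theorem mem_X4_of_three {q : L} (hq : q ∈ Sg c.X Qa)
    (h : ∀ (m : SL2 E) b2 b3 b5 b6, c.NF (c.pb m * q * (c.pb m)⁻¹) b2 b3 b5 b6 → b3 = 0) : q ∈ c.X 4 := by
  refine mem_X4_of_five hq fun m b2 b3 b5 b6 hN => ?_
  obtain ⟨d3, d5, hN', h3, -⟩ := NF_n1 hN
  refine h3 (h (wm 1 one_ne_zero * m) _ _ _ _ (hN'.congr ?_ rfl rfl rfl rfl))
  rw [map_mul, HexGrp.n1]
  group

theorem NF_of_456 {v : L} (hv : v ∈ Sg c.X {4, 5, 6}) : ∃ b5 b6, c.NF v 0 0 b5 b6 := by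
  obtain ⟨w4, h4, v1, hv1, rfl⟩ := c.exists_mul (k := 4) (s := {5, 6}) (by decide +kernel) hv
  obtain ⟨w5, h5, v2, hv2, rfl⟩ := c.exists_mul (k := 5) (s := {6}) (by decide +kernel) hv1
  obtain ⟨b4, f4, rfl⟩ := (c.par.mem4 _).1 h4
  obtain ⟨b5, rfl⟩ := (c.par.mem5 _).1 h5
  obtain ⟨b6, f6, rfl⟩ := (c.par.mem6 _).1 (mem_single hv2)
  exact ⟨b5, b6, ((c.nf4 f4).mul ((c.nf5 b5).mul (c.nf6 f6))).congr rfl (by ring) (by ring) (by ring) (by ring)⟩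

/-- both unipotent parts lie in the long root groups `X 4`, `X 10` -/
theorem Cen.four {g : L} (h : Cen c g) {z0 : ↥(fx σ)} (hz0 : z0 ≠ 0) (hz1 : z0 ≠ 1) {q' t q : L}
    (hq' : q' ∈ Sg c.X Qa') (hq : q ∈ Sg c.X Qa) (ht : IsT c t) {c6 : E} (hA : c.Act t 1 c6) (hg : g = q' * t * q) :
    q ∈ c.X 4 ∧ q' ∈ c.X 10 := by
  have hcomm : ∀ m : SL2 E, c.pb m * t = t * c.pb m := by
    intro m
    have h1 := hA.pb m
    have h2 : conjGL (dgl (1 : E) hA.ne1) m = m := by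
      rw [conjGL_dgl_ent]
      refine ext_ent ?_ ?_ ?_ ?_ <;> simp
    rw [h2, mul_inv_eq_iff_eq_mul] at h1
    exact h1.symm
  have hm : ∀ m : SL2 E, c.pb m * g * (c.pb m)⁻¹ = (c.pb m * q' * (c.pb m)⁻¹) * t * (c.pb m * q * (c.pb m)⁻¹) := by
    intro m
    rw [hg]
    calc c.pb m * (q' * t * q) * (c.pb m)⁻¹ = c.pb m * q' * (c.pb m)⁻¹ * (c.pb m * t) * q * (c.pb m)⁻¹ := by group
      _ = _ := by rw [hcomm]; group
  have hQ' : ∀ m : SL2 E, c.pb m * q' * (c.pb m)⁻¹ ∈ Sg c.X Qa' := fun m =>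
    pb_conj c (by decide +kernel) (by decide +kernel) m q' hq'
  have hQ : ∀ m : SL2 E, c.pb m * q * (c.pb m)⁻¹ ∈ Sg c.X Qa := fun m =>
    pb_conj c (by decide +kernel) (by decide +kernel) m q hq
  constructor
  · exact mem_X4_of_five hq fun m b2 b3 b5 b6 hN => (h.conj (c.pb m)).five hz0 hz1 (hQ' m) (hQ m) ht hA (hm m) hN
  · -- transport by `n4`
    have hq5 : c.n4⁻¹ * q' * c.n4 ∈ Sg c.X Qa := by
      have hinv : Maps c.X c.n4⁻¹ (fun k => 2 - k) := c.maps_n4.inv fun k => by ring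
      have := conj_Sg hinv (s := Qa') (t := Qa) (by decide +kernel) hq'
      rwa [inv_inv] at this
    have h4 : c.n4⁻¹ * q' * c.n4 ∈ c.X 4 := by
      refine mem_X4_of_three hq5 fun m b2 b3 b5 b6 hN => ?_
      obtain ⟨v, hv, b, e⟩ := (h.conj (c.pb m)).eleven hz0 hz1 (hQ' m) (hQ m) ht hA (hm m)
      have hcm : c.pb m * c.n4⁻¹ = c.n4⁻¹ * c.pb m := by
        have := c.comm_pb_p4 m (wm 1 one_ne_zero)
        rw [show c.p4 (wm 1 one_ne_zero) = c.n4 from rfl] at this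
        calc c.pb m * c.n4⁻¹ = c.n4⁻¹ * (c.n4 * c.pb m) * c.n4⁻¹ := by group
          _ = _ := by rw [← this]; group
      have hinv : Maps c.X c.n4⁻¹ (fun k => 2 - k) := c.maps_n4.inv fun k => by ring
      have e1 : c.pb m * (c.n4⁻¹ * q' * c.n4) * (c.pb m)⁻¹ = (c.n4⁻¹ * v * c.n4) * (c.n4⁻¹ * c.pa (lo b) * c.n4) := by
        calc c.pb m * (c.n4⁻¹ * q' * c.n4) * (c.pb m)⁻¹ = (c.pb m * c.n4⁻¹) * q' * (c.pb m * c.n4⁻¹)⁻¹ := by group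
          _ = c.n4⁻¹ * (c.pb m * q' * (c.pb m)⁻¹) * c.n4 := by rw [hcm]; group
          _ = _ := by rw [e]; group
      have hv' : c.n4⁻¹ * v * c.n4 ∈ Sg c.X {4, 5, 6} := by
        have := conj_Sg hinv (s := {8, 9, 10}) (t := {4, 5, 6}) (by decide +kernel) hv
        rwa [inv_inv] at this
      have hb' : c.n4⁻¹ * c.pa (lo b) * c.n4 ∈ c.X 2 := maps_mem' c.maps_n4 ((c.pa_lo _).2 ⟨b, rfl⟩) (by decide)
      obtain ⟨d5, d6, hN1⟩ := NF_of_456 hv'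
      obtain ⟨d2, f2, ed2⟩ := (c.par.mem2 _).1 hb'
      have hN2 := c.nf2 f2
      rw [ed2] at hN2
      have hN3 := (hN1.mul hN2).congr e1.symm rfl rfl rfl rfl
      have := (hN.unique hN3).2.1
      rw [this]
      ring
    have e : q' = c.n4 * (c.n4⁻¹ * q' * c.n4) * c.n4⁻¹ := by group
    rw [e]
    exact maps_mem c.maps_n4 h4 (by decide)

/-! ### The Weyl group on `IsT` -/

theorem n6_pb_dg (s : E) (hs : s ≠ 0) : c.n6 * c.pb (dg s hs) * c.n6⁻¹ =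
    c.pb (dg s hs) * c.pa (dg ⟨nrm σ s, c.nf s⟩ (sub_ne _ (nrm_ne hs))) := by
  have h1 := (c.act_b s hs).n6
  have h2 := (c.act_b s hs).mul (c.act_a ⟨nrm σ s, c.nf s⟩ (sub_ne _ (nrm_ne hs)))
  have hn := nrm_ne (σ := σ) hs
  refine h1.unique (h2.congr rfl ?_ ?_)
  · change s ^ 2 * (nrm σ s)⁻¹ = (nrm σ s)⁻¹ * s ^ 2
    ring
  · change (nrm σ s)⁻¹ * (nrm σ s) ^ 2 = ((nrm σ s)⁻¹)⁻¹
    field_simp

theorem n6_pa_dg (r : ↥(fx σ)) (hr : r ≠ 0) : c.n6 * c.pa (dg r hr) * c.n6⁻¹ = c.pa (dg r⁻¹ (inv_ne_zero hr)) := by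
  rw [HexGrp.n6, ← map_inv, ← map_mul, ← map_mul]
  congr 1
  rw [ent_inv]
  refine ext_ent ?_ ?_ ?_ ?_ <;> simp [ent_mul]

theorem IsT.n6 {t : L} (ht : IsT c t) : IsT c (c.n6 * t * c.n6⁻¹) := by
  obtain ⟨s, hs, r, hr, rfl⟩ := ht
  have e : c.n6 * (c.pb (dg s hs) * c.pa (dg r hr)) * c.n6⁻¹ =
      (c.n6 * c.pb (dg s hs) * c.n6⁻¹) * (c.n6 * c.pa (dg r hr) * c.n6⁻¹) := by group
  rw [e, n6_pb_dg, n6_pa_dg]
  exact ((isT_pb c s hs).mul (isT_pa c _ _)).mul (isT_pa c _ _)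

theorem T0_pa_pb {q' q t : L} : q' * t * q = q' * c.pb (lo 0) * t * c.pb (up 0) * q := by
  rw [lo_zero, up_zero, map_one, mul_one, mul_one]

/-- an element all of whose `L_α`-parts are central is trivial -/
theorem Cen.eq_one {g : L} (h : Cen c g) {z0 : ↥(fx σ)} (hz0 : z0 ≠ 0) (hz1 : z0 ≠ 1) : g = 1 := by
  -- an element in the cell
  have key : ∀ {g q' t q : L}, Cen c g → q' ∈ Sg c.X Qa' → q ∈ Sg c.X Qa → IsT c t → g = q' * t * q →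
      ∃ c6, c.Act t 1 c6 ∧ q ∈ c.X 4 ∧ q' ∈ c.X 10 := by
    intro g q' t q h hq' hq ht hg
    have ht' := ht
    obtain ⟨s, hs, r, hr, ets⟩ := ht'
    obtain ⟨-, -, h1⟩ := h.cell (y := 1) (a := 0) (b := 0) (hs := hs) (hr := hr) hq' hq (by
      rw [lo_zero, up_zero, map_one, mul_one, mul_one, ← ets, hg]
      group)
    have hA := (c.act_b s hs).mul (c.act_a r hr)
    rw [← ets, h1] at hA
    obtain ⟨h4, h10⟩ := h.four hz0 hz1 hq' hq ht hA hg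
    exact ⟨_, hA, h4, h10⟩
  obtain ⟨y, v, hv, t, ht, u, hu, e⟩ := exists_conj_cell (c := c) g
  obtain ⟨q', hq', w7, h7, rfl⟩ := c.exists_mul' (k := 7) (s := Qa') (by decide +kernel)
    (Sg_mono (by decide +kernel) hv : v ∈ Sg c.X (insert 7 Qa'))
  obtain ⟨w1, h1, q, hq, rfl⟩ := c.exists_mul (k := 1) (s := Qa) (by decide +kernel)
    (Sg_mono (by decide +kernel) hu : u ∈ Sg c.X (insert 1 Qa))
  obtain ⟨a, rfl⟩ := (c.pb_lo _).1 h7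
  obtain ⟨b, rfl⟩ := (c.par.mem1 _).1 h1
  have hts := ht
  obtain ⟨s, hs, r, hr, ets⟩ := hts
  obtain ⟨ha, hb, -⟩ := h.cell (y := y) (a := a) (b := b) (hs := hs) (hr := hr) hq' hq (by
    rw [e, c.pb_up, ← ets]
    group)
  have hg1 : y * g * y⁻¹ = q' * t * q := by
    rw [e, ha, hb, lo_zero, map_one, c.x1_zero]
    group
  obtain ⟨c6, hA, h4, h10⟩ := key (h.conj y) hq' hq ht hg1
  -- conjugate by `n6`
  have h8 : c.n6 * q' * c.n6⁻¹ ∈ c.X 8 := maps_mem c.maps_n6 h10 (by decide)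
  have h2 : c.n6 * q * c.n6⁻¹ ∈ c.X 2 := maps_mem c.maps_n6 h4 (by decide)
  obtain ⟨d6, hA', k4, k10⟩ := key (g := c.n6 * (y * g * y⁻¹) * c.n6⁻¹) ((h.conj y).conj c.n6)
    (q' := c.n6 * q' * c.n6⁻¹) (t := c.n6 * t * c.n6⁻¹) (q := c.n6 * q * c.n6⁻¹)
    (c.sg (by decide) h8) (c.sg (by decide) h2) ht.n6 (by rw [hg1]; group)
  have z2 := c.eq_one_of_ne (by decide) h2 k4
  have z8 := c.eq_one_of_ne (by decide) h8 k10
  have hA6 := hA.n6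
  -- comparison of the weights
  obtain ⟨a1, e1⟩ : ∃ x : L, x = c.n6 * t * c.n6⁻¹ := ⟨_, rfl⟩
  have w1 : c6 * 1 = 1 := by
    have p1 := hA6.a1 1
    have p2 := hA'.a1 1
    rw [p1] at p2
    have := c.x1_inj p2
    linear_combination this
  have hc6 : c6 = 1 := by rw [mul_one] at w1; exact w1
  rw [hc6] at hA
  have ht1 := hA.eq_one
  have zq : q = 1 := by
    have : c.n6 * q * c.n6⁻¹ = 1 := z2
    rw [mul_inv_eq_one] at this
    exact mul_eq_left.1 this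
  have zq' : q' = 1 := by
    have : c.n6 * q' * c.n6⁻¹ = 1 := z8
    rw [mul_inv_eq_one] at this
    exact mul_eq_left.1 this
  rw [zq, zq', ht1, mul_one, mul_one] at hg1
  have : y * g = y := mul_inv_eq_one.1 hg1
  exact mul_eq_left.1 this

/-- **Weak Gauss decomposition.** -/
theorem exists_weak_gauss {z0 : ↥(fx σ)} (hz0 : z0 ≠ 0) (hz1 : z0 ≠ 1) {g : L} (hg : g ≠ 1) :
    ∃ y : L, ∃ v ∈ Sg c.X Qb', ∃ l : SL2 ↥(fx σ), ∃ u ∈ Sg c.X Qb, y * g * y⁻¹ = v * c.pa l * u := by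
  by_contra hcon
  apply hg
  refine Cen.eq_one (c := c) (g := g) ?_ hz0 hz1
  intro y q' M r hr q hF
  by_contra hM
  apply hcon
  obtain ⟨m, hm⟩ := exists_twisted M (r : E)⁻¹ (inv_ne_zero (coe_ne' hr)) hM 1
  obtain ⟨h1, h2, h3⟩ := hF.conj_pb m
  obtain ⟨N, hN⟩ : ∃ N, N = m * M * conjGL (dgl (r : E)⁻¹ (inv_ne_zero (coe_ne' hr))) m⁻¹ := ⟨_, rfl⟩
  rw [← hN] at hm h3
  have hN2 : N = lo (ent N 1 0) * up (ent N 0 1) := by
    have h5 : ent N 0 0 ≠ 0 := by rw [hm]; exact one_ne_zero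
    have h6 := ldu N h5
    have h7 : dg (ent N 0 0) h5 = 1 := by
      refine ext_ent ?_ ?_ ?_ ?_ <;> simp [hm]
    rw [h7, hm, div_one, div_one, mul_one] at h6
    exact h6
  obtain ⟨a, ha⟩ : ∃ a, a = ent N 1 0 := ⟨_, rfl⟩
  obtain ⟨b, hb⟩ : ∃ b, b = ent N 0 1 := ⟨_, rfl⟩
  rw [← ha, ← hb] at hN2
  -- the two unipotent parts
  have hv : c.pb m * q' * (c.pb m)⁻¹ * c.pb (lo a) ∈ Sg c.X (insert 0 Qb') :=
    mul_mem (Sg_mono (by decide +kernel) h1) (pb_lo_mem c (by decide) _)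
  obtain ⟨up', hup', eup⟩ := T0_comm_left (c := c) (s := {1}) (pa_dg_T0 c r hr) (g := c.pb (up b))
    (pb_up_mem c (by decide) _)
  have hu : up' * (c.pb m * q * (c.pb m)⁻¹) ∈ Sg c.X (insert 6 Qb) :=
    mul_mem (Sg_mono (by decide +kernel) hup') (Sg_mono (by decide +kernel) h2)
  obtain ⟨v, hv1, w0, h0, ev⟩ := c.exists_mul' (k := 0) (s := Qb') (by decide +kernel) hv
  obtain ⟨w6, h6, u, hu1, eu⟩ := c.exists_mul (k := 6) (s := Qb) (by decide +kernel) hu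
  obtain ⟨b0, rfl⟩ := (c.pa_lo _).1 h0
  obtain ⟨d0, hd0, rfl⟩ := (c.par.mem6 _).1 h6
  refine ⟨c.pb m * y, v, hv1, lo b0 * dg r hr * up ⟨d0, hd0⟩, u, hu1, ?_⟩
  have e6 : c.x6 d0 = c.pa (up ⟨d0, hd0⟩) := (c.pa_up ⟨d0, hd0⟩).symm
  rw [map_mul, map_mul]
  calc c.pb m * y * g * (c.pb m * y)⁻¹ = c.pb m * (y * g * y⁻¹) * (c.pb m)⁻¹ := by group
    _ = c.pb m * q' * (c.pb m)⁻¹ * c.pb (lo a) * (c.pb (up b) * c.pa (dg r hr)) * (c.pb m * q * (c.pb m)⁻¹) := by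
        rw [h3, hN2, map_mul]; group
    _ = (c.pb m * q' * (c.pb m)⁻¹ * c.pb (lo a)) * c.pa (dg r hr) * (up' * (c.pb m * q * (c.pb m)⁻¹)) := by
        rw [eup]; group
    _ = _ := by rw [ev, eu, e6]; group

end Cfsg.Agent.H148.Hex
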