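import Cfsg.Agent.H148.Odd
import Cfsg.Agent.H148.Even
import Cfsg.Agent.H148.G2Inst
import Cfsg.Agent.Cit.HexD4

/-!
# Thompson's conjecture for `G₂(q)`, `q ≠ 2, 4`, and `³D₄(q)`, `q ≠ 2` (helper148)
-/

set_option autoImplicit false

namespace Cfsg.Agent.H148.Hex

open Cfsg.Agent.Cit.HexBase Cfsg.Agent.SplitTwo Cfsg.Agent.Cit.HexBase.HexGrp

universe u

/-- a primitive root -/
theorem exists_prim (K : Type*) [Field K] [Fintype K] : ∃ ζ : K, ζ ≠ 0 ∧ ∀ n : ℕ, ζ ^ n = 1 → Fintype.card K - 1 ∣ n := by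
  obtain ⟨g, hg⟩ := IsCyclic.exists_generator (α := Kˣ)
  have ho := orderOf_eq_card_of_forall_mem_zpowers hg
  refine ⟨g, g.ne_zero, fun n hn => ?_⟩
  have h1 : g ^ n = 1 := Units.ext (by rw [Units.val_pow_eq_pow_val, hn, Units.val_one])
  have h2 := orderOf_dvd_of_pow_eq_one h1
  rwa [ho, Nat.card_units, Nat.card_eq_fintype_card] at h2

theorem two_dvd_card (K : Type*) [Field K] [Fintype K] [CharP K 2] : 2 ∣ Fintype.card K := by
  have := (inferInstance : Fact (Nat.Prime 2))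
  obtain ⟨n, -, hn⟩ := FiniteField.card K 2
  rw [hn]
  exact dvd_pow_self 2 n.ne_zero

theorem exists_ne {F : Type*} [Field F] [Fintype F] (h : 3 ≤ Fintype.card F) : ∃ a : F, a ≠ 0 ∧ a ≠ 1 := by
  classical
  by_contra hcon
  push Not at hcon
  have h1 : (Finset.univ : Finset F) ⊆ {0, 1} := by
    intro a _
    rw [Finset.mem_insert, Finset.mem_singleton]
    by_cases h0 : a = 0
    · exact Or.inl h0
    · exact Or.inr (hcon a h0)
  have h2 := Finset.card_le_card h1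
  rw [Finset.card_univ] at h2
  have h3 := Finset.card_le_two (a := (0 : F)) (b := 1)
  omega

theorem finite_g2 (F : Type u) [Field F] [Finite F] : Finite ↥(Cfsg.Lie.chevG2.group F) := by
  infer_instance

theorem g2_odd {F : Type u} [Field F] [Fintype F] (p : ℕ) [Fact p.Prime] [CharP F p] (h3 : 3 ≤ Fintype.card F)
    (h2 : (2 : F) ≠ 0) :
    ∃ x : ↥(Cfsg.Lie.chevG2.group F), ¬ p ∣ orderOf x ∧ ∀ g : ↥(Cfsg.Lie.chevG2.group F), g ≠ 1 → Pr x g :=
  odd_main (g2' F (exists_ne h3)) p h2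

theorem g2_even {F : Type u} [Field F] [Fintype F] [CharP F 2] (h8 : 5 ≤ Fintype.card F) :
    ∃ x : ↥(Cfsg.Lie.chevG2.group F), ¬ 2 ∣ orderOf x ∧ ∀ g : ↥(Cfsg.Lie.chevG2.group F), g ≠ 1 → Pr x g := by
  have hcard : 7 ≤ Fintype.card F - 1 ∧ (Fintype.card F - 1) % 2 = 1 := by
    have := (inferInstance : Fact (Nat.Prime 2))
    obtain ⟨n, -, hn⟩ := FiniteField.card F 2
    have h3 : 3 ≤ (n : ℕ) := by
      by_contra hlt
      have h4 : (n : ℕ) ≤ 2 := by omega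
      have : Fintype.card F ≤ 2 ^ 2 := by rw [hn]; exact Nat.pow_le_pow_right (by norm_num) h4
      omega
    have h4 : 2 ^ 3 ≤ Fintype.card F := by rw [hn]; exact Nat.pow_le_pow_right (by norm_num) h3
    have h5 := two_dvd_card F
    omega
  obtain ⟨ζ, hζ, hord⟩ := exists_prim F
  have key : ∀ n : ℕ, 0 < n → (n ≤ 6 ∨ n = 8 ∨ n = 10) → ζ ^ n ≠ 1 := by
    intro n h0 hn h1
    have hd := hord n h1
    rcases hn with hn | rfl | rfl
    · have := Nat.le_of_dvd h0 hd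
      omega
    · have := Nat.le_of_dvd h0 hd
      obtain ⟨k, hk⟩ := hd
      have : Fintype.card F - 1 = 7 := by omega
      rw [this] at hk
      omega
    · have := Nat.le_of_dvd h0 hd
      obtain ⟨k, hk⟩ := hd
      have : Fintype.card F - 1 = 7 ∨ Fintype.card F - 1 = 9 := by omega
      rcases this with h | h <;> rw [h] at hk <;> omega
  have hne1 : ζ ≠ 1 := fun h => key 1 (by norm_num) (by norm_num) (by rw [h, one_pow])
  let c := g2' F ⟨ζ, hζ, hne1⟩
  let e : ↥(fx (RingEquiv.refl F)) := ⟨ζ, rfl⟩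
  have he : e ≠ 0 := fun h => hζ (congrArg Subtype.val h)
  have he1 : e ≠ 1 := fun h => hne1 (congrArg Subtype.val h)
  have hs := act_p3_dg c (ζ ^ 3) (pow_ne_zero 3 hζ)
  have hnrm : nrm (RingEquiv.refl F) (ζ ^ 3) = ζ ^ 9 := by rw [nrm_of_fix rfl]; ring
  have e1 : nrm (RingEquiv.refl F) (ζ ^ 3) / (ζ ^ 3) ^ 2 = ζ ^ 3 := by
    rw [hnrm]
    field_simp
  rw [e1] at hs
  refine even_main c he he1 hs ?_ ?_ ?_ ?_ ?_
  · intro h
    refine key 2 (by norm_num) (by norm_num) ?_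
    have h2 : ζ ^ 3 = ζ := h
    have h3 : ζ * (ζ ^ 2 - 1) = 0 := by linear_combination h2
    have := (mul_eq_zero.1 h3).resolve_left hζ
    linear_combination this
  · intro h
    refine key 4 (by norm_num) (by norm_num) ?_
    have h2 : ζ ^ 3 * ζ = 1 := h
    linear_combination h2
  · intro h
    refine key 6 (by norm_num) (by norm_num) ?_
    have h2 : (ζ ^ 3) * (ζ ^ 3) = 1 := h
    linear_combination h2
  · rw [hnrm]
    intro h
    refine key 8 (by norm_num) (by norm_num) ?_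
    have h2 : ζ ^ 9 = ζ := h
    have h3 : ζ * (ζ ^ 8 - 1) = 0 := by linear_combination h2
    have := (mul_eq_zero.1 h3).resolve_left hζ
    linear_combination this
  · rw [hnrm]
    intro h
    refine key 10 (by norm_num) (by norm_num) ?_
    have h2 : ζ ^ 9 * ζ = 1 := h
    linear_combination h2

variable {K : Type u} [Field K] [Fintype K] {q : ℕ}

theorem finite_d4 : Finite ↥(Cfsg.Lie.twistedD4 K q) := by infer_instance

theorem d4_odd (p : ℕ) [Fact p.Prime] [CharP K p] (hK : Fintype.card K = q ^ 3) (h2 : (2 : K) ≠ 0) :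
    ∃ x : ↥(Cfsg.Lie.twistedD4 K q), ¬ p ∣ orderOf x ∧ ∀ g : ↥(Cfsg.Lie.twistedD4 K q), g ≠ 1 → Pr x g := by
  obtain ⟨σ, -, ⟨c⟩⟩ := Cfsg.Agent.Cit.HexD4.exists_d4 (K := K) (q := q) hK
  exact odd_main c p h2

theorem d4_even [CharP K 2] (hK : Fintype.card K = q ^ 3) (h2 : 3 ≤ q) :
    ∃ x : ↥(Cfsg.Lie.twistedD4 K q), ¬ 2 ∣ orderOf x ∧ ∀ g : ↥(Cfsg.Lie.twistedD4 K q), g ≠ 1 → Pr x g := by
  obtain ⟨σ, hσ, ⟨c⟩⟩ := Cfsg.Agent.Cit.HexD4.exists_d4 (K := K) (q := q) hK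
  have h20 : (2 : K) = 0 := by exact_mod_cast CharP.cast_eq_zero K 2
  obtain ⟨ζ, hζ, hord⟩ := exists_prim K
  rw [hK] at hord
  have hq3 : q ^ 3 - 1 = (q - 1) * (q ^ 2 + q + 1) := by
    obtain ⟨m, rfl⟩ : ∃ m, q = m + 1 := ⟨q - 1, by omega⟩
    have : (m + 1) ^ 3 = m * ((m + 1) ^ 2 + (m + 1) + 1) + 1 := by ring
    rw [this, Nat.add_sub_cancel, Nat.add_sub_cancel]
  have hfull : ζ ^ (q ^ 3 - 1) = 1 := by rw [← hK]; exact FiniteField.pow_card_sub_one_eq_one ζ hζ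
  -- `e = ζ ^ (q² + q + 1)`
  have he1 : ζ ^ (q ^ 2 + q + 1) ≠ 1 := by
    intro h
    have h3 := Nat.le_of_dvd (by positivity) (hord _ h)
    rw [hq3] at h3
    have h4 : 2 * (q ^ 2 + q + 1) ≤ (q - 1) * (q ^ 2 + q + 1) := Nat.mul_le_mul_right _ (by omega)
    have : 0 < q ^ 2 + q + 1 := by positivity
    omega
  have hfe : σ (ζ ^ (q ^ 2 + q + 1)) = ζ ^ (q ^ 2 + q + 1) := by
    rw [hσ, ← pow_mul, show (q ^ 2 + q + 1) * q = (q - 1) * (q ^ 2 + q + 1) + (q ^ 2 + q + 1) by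
      obtain ⟨m, rfl⟩ : ∃ m, q = m + 1 := ⟨q - 1, by omega⟩
      rw [Nat.add_sub_cancel]
      ring, pow_add, ← hq3, hfull, one_mul]
  -- `z = ζ ^ (q - 1)`
  obtain ⟨z, hz⟩ : ∃ z, z = ζ ^ (q - 1) := ⟨_, rfl⟩
  have hz0 : z ≠ 0 := by rw [hz]; exact pow_ne_zero _ hζ
  have hnz : nrm σ z = 1 := by
    have : nrm σ z = z ^ (q ^ 2 + q + 1) := by
      unfold nrm
      rw [hσ, hσ, ← pow_mul]
      ring
    rw [this, hz, ← pow_mul, ← hq3, hfull]
  have hzf : σ z ≠ z := by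
    intro h
    rw [hσ] at h
    have h3 : z ^ (q - 1) = 1 := by
      have h4 : z * (z ^ (q - 1) - 1) = 0 := by
        have : z * z ^ (q - 1) = z ^ q := by
          rw [← pow_succ']
          congr 1
          omega
        linear_combination this + h
      have := (mul_eq_zero.1 h4).resolve_left hz0
      linear_combination this
    rw [hz, ← pow_mul] at h3
    have h5 := Nat.le_of_dvd (Nat.mul_pos (by omega) (by omega)) (hord _ h3)
    rw [hq3] at h5
    have h6 := Nat.le_of_mul_le_mul_left h5 (by omega)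
    have : 0 < q ^ 2 := by positivity
    omega
  have hs := act_p3_dg c z hz0
  rw [hnz] at hs
  have hsq : ∀ {y : K}, σ (y ^ 2) = y ^ 2 → σ y = y := by
    intro y hy
    rw [map_pow] at hy
    have : (σ y - y) ^ 2 = 0 := by linear_combination hy + (y ^ 2 - σ y * y) * h20
    have := pow_eq_zero_iff (by norm_num) |>.1 this
    linear_combination this
  have hc1 : σ (1 / z ^ 2) ≠ 1 / z ^ 2 := by
    intro h
    apply hzf
    apply hsq
    rw [map_div₀, map_one] at h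
    have h1 : σ (z ^ 2) ≠ 0 := (map_ne_zero σ).2 (pow_ne_zero 2 hz0)
    field_simp at h
    exact h.symm
  have hnc : nrm σ (1 / z ^ 2) = 1 := by
    rw [one_div, nrm_inv, show z ^ 2 = z * z from pow_two z, nrm_mul, hnz, one_mul, inv_one]
  let e : ↥(fx σ) := ⟨ζ ^ (q ^ 2 + q + 1), hfe⟩
  have he0 : e ≠ 0 := fun h => pow_ne_zero _ hζ (congrArg Subtype.val h)
  have hee1 : e ≠ 1 := fun h => he1 (congrArg Subtype.val h)
  have heE : (e : K) ≠ 0 := pow_ne_zero _ hζ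
  refine even_main c he0 hee1 hs ?_ ?_ ?_ ?_ ?_
  · intro h
    apply hc1
    rw [h]
    exact e.2
  · intro h
    apply hc1
    have h3 : 1 / z ^ 2 = (e : K)⁻¹ := by
      field_simp at h ⊢
      exact h
    rw [h3]
    exact inv_fix e.2
  · intro h
    have h3 : nrm σ (1 / z ^ 2) = 1 / z ^ 2 * shp σ (1 / z ^ 2) := by unfold nrm shp; ring
    rw [h, hnc, mul_one] at h3
    apply hc1
    rw [← h3, map_one]
  · rw [hnc]
    intro h
    exact he1 h.symm
  · rw [hnc, one_mul]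
    exact he1

end Cfsg.Agent.H148.Hex
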