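import Cfsg.Agent.H148.SLTwo
import Cfsg.Agent.H426.SL2Orders

/-!
# Lemmas on `SL(2,K)`, `K` finite of odd characteristic (helper148)
-/

set_option autoImplicit false

namespace Cfsg.Agent.H148.SLTwo

open Cfsg.Agent.Lib.SL2Mat Polynomial

variable {K : Type*} [Field K]

/-- the invariant of the classes of `SL(2,K)` twisted by `diag(-1,1)` -/
def tau (m : S K) : K := ent m 1 1 - ent m 0 0

theorem neg_one_ne : (-1 : K) ≠ 0 := neg_ne_zero.2 one_ne_zero

theorem tau_conj (y M : S K) : tau (y * M * conjGL (dgl (-1) neg_one_ne) y⁻¹) = tau M := by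
  have hd := det_eq y
  unfold tau
  rw [conjGL_dgl_ent]
  simp only [ent_mul, mk_00, mk_01, mk_10, mk_11]
  rw [ent_inv]
  simp only [mk_00, mk_01, mk_10, mk_11]
  rw [neg_div_neg_eq, div_one]
  linear_combination (ent M 1 1 - ent M 0 0) * hd

theorem exists_std (M : S K) (h : tau M ^ 2 + 4 ≠ 0) : ∃ (y : S K) (δ : K), δ ≠ 0 ∧
    ent (y * M * conjGL (dgl (-1) neg_one_ne) y⁻¹) 0 0 = 0 ∧
    ent (y * M * conjGL (dgl (-1) neg_one_ne) y⁻¹) 0 1 = δ ∧
    ent (y * M * conjGL (dgl (-1) neg_one_ne) y⁻¹) 1 0 = -δ⁻¹ ∧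
    ent (y * M * conjGL (dgl (-1) neg_one_ne) y⁻¹) 1 1 = tau M := by
  obtain ⟨y, hy⟩ := exists_twisted M (-1) neg_one_ne (by
    rintro ⟨h1, h2, h3⟩
    apply h
    have hd := det_eq M
    rw [h1] at hd
    unfold tau
    rw [← h3] at hd ⊢
    linear_combination (-4) * hd) 0
  have ht := tau_conj y M
  obtain ⟨N, hN⟩ : ∃ N, N = y * M * conjGL (dgl (-1) neg_one_ne) y⁻¹ := ⟨_, rfl⟩
  rw [← hN] at hy ht
  have hd := det_eq N
  rw [hy] at hd
  have h01 : ent N 0 1 ≠ 0 := by
    intro h0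
    rw [h0] at hd
    simp at hd
  refine ⟨y, ent N 0 1, h01, ?_, ?_, ?_, ?_⟩
  · rw [← hN, hy]
  · rw [← hN]
  · rw [← hN]
    field_simp
    linear_combination -hd
  · rw [← hN, ← ht]
    unfold tau
    rw [hy, sub_zero]

theorem exists_quad [Fintype K] (h2 : (2 : K) ≠ 0) (A k : K) (hA : A ≠ 0) : ∃ X Y : K, X ^ 2 + A * Y ^ 2 = k := by
  have hodd : Fintype.card K % 2 = 1 := by
    apply FiniteField.odd_card_of_char_ne_two
    intro hc
    apply h2
    have : CharP K 2 := ringChar.of_eq hc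
    exact_mod_cast CharP.cast_eq_zero K 2
  have hf : (X ^ 2 - C k : K[X]).degree = 2 := degree_X_pow_sub_C (by norm_num) k
  have hg : (C A * X ^ 2 : K[X]).degree = 2 := by
    rw [degree_C_mul_X_pow _ hA]
    rfl
  obtain ⟨a, b, h⟩ := FiniteField.exists_root_sum_quadratic hf hg hodd
  refine ⟨a, b, ?_⟩
  simp only [eval_sub, eval_pow, eval_X, eval_C, eval_mul] at h
  linear_combination h

/-- the conic `d² + T d e + e² - t₁ d - t₂ e - 1 = 0` -/
theorem exists_conic [Fintype K] (h2 : (2 : K) ≠ 0) (T t : K) :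
    ∃ t1 t2 d e : K, (t1 = t ∨ t1 = -t) ∧ (t2 = t ∨ t2 = -t) ∧ d ^ 2 + T * d * e + e ^ 2 - t1 * d - t2 * e - 1 = 0 := by
  by_cases h1 : T = 2
  · refine ⟨t, -t, 1 / 2, 1 / 2, Or.inl rfl, Or.inr rfl, ?_⟩
    subst h1
    field_simp
    ring
  by_cases h3 : T = -2
  · refine ⟨t, t, 1 / 2, -1 / 2, Or.inl rfl, Or.inl rfl, ?_⟩
    subst h3
    field_simp
    ring
  · have h4 : 4 - T ^ 2 ≠ 0 := by
      intro h
      have : (2 - T) * (2 + T) = 0 := by linear_combination h
      rcases mul_eq_zero.1 this with h | h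
      · exact h1 (by linear_combination -h)
      · exact h3 (by linear_combination h)
    -- the centre
    obtain ⟨d0, hd0⟩ : ∃ d0, d0 = (2 - T) * t / (4 - T ^ 2) := ⟨_, rfl⟩
    have e1 : (4 - T ^ 2) * d0 = (2 - T) * t := by rw [hd0]; field_simp
    have e2 : 2 * d0 + T * d0 = t := by
      have h5 : 2 - T ≠ 0 := fun h => h1 (by linear_combination -h)
      have : (2 - T) * (2 * d0 + T * d0 - t) = 0 := by linear_combination e1
      have := (mul_eq_zero.1 this).resolve_left h5
      linear_combination this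
    obtain ⟨x, y, hxy⟩ := exists_quad h2 (1 - T ^ 2 / 4) (1 + t * d0) (by
      intro h
      apply h4
      have h44 : (4 : K) ≠ 0 := by
        have : (4 : K) = 2 * 2 := by norm_num
        rw [this]
        exact mul_ne_zero h2 h2
      field_simp at h
      linear_combination h)
    refine ⟨t, t, d0 + (x - T * y / 2), d0 + y, Or.inl rfl, Or.inl rfl, ?_⟩
    have h44 : (4 : K) ≠ 0 := by
      have : (4 : K) = 2 * 2 := by norm_num
      rw [this]
      exact mul_ne_zero h2 h2
    have e3 : (d0 + (x - T * y / 2)) ^ 2 + T * (d0 + (x - T * y / 2)) * (d0 + y) + (d0 + y) ^ 2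
        - t * (d0 + (x - T * y / 2)) - t * (d0 + y) - 1 =
        (x ^ 2 + (1 - T ^ 2 / 4) * y ^ 2) + (2 * d0 + T * d0 - t) * (x - T * y / 2 + y + d0) - t * d0 - 1 := by
      field_simp
      ring
    rw [e3, e2, hxy]
    ring

/-- every element is, up to conjugation, a product of two elements with given `tau` -/
theorem exists_pair [Fintype K] (h2 : (2 : K) ≠ 0) (t : K) (l : S K) :
    ∃ y n : S K, (tau n = t ∨ tau n = -t) ∧ (tau (y * l * y⁻¹ * n) = t ∨ tau (y * l * y⁻¹ * n) = -t) := by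
  by_cases hl : ent l 0 1 = 0 ∧ ent l 1 0 = 0 ∧ ent l 0 0 * 1 = ent l 1 1
  · obtain ⟨h01, h10, h11⟩ := hl
    have hd := det_eq l
    rw [h01, ← h11] at hd
    have h1 : ent l 0 0 = 1 ∨ ent l 0 0 = -1 := by
      have : (ent l 0 0 - 1) * (ent l 0 0 + 1) = 0 := by linear_combination hd
      rcases mul_eq_zero.1 this with h | h
      · left; linear_combination h
      · right; linear_combination h
    refine ⟨1, mk 0 1 (-1) t (by ring), ?_, ?_⟩
    · left
      unfold tau
      simp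
    · rw [inv_one, mul_one, one_mul]
      unfold tau
      rw [ent_mul, ent_mul, mk_00, mk_01, mk_10, mk_11, h01, h10, ← h11]
      rcases h1 with h | h
      · left; rw [h]; ring
      · right; rw [h]; ring
  · obtain ⟨y, hy⟩ := exists_twisted l 1 one_ne_zero hl 0
    have hone : conjGL (dgl (1 : K) one_ne_zero) y⁻¹ = y⁻¹ := by
      rw [conjGL_dgl_ent]
      refine ext_ent ?_ ?_ ?_ ?_ <;> simp
    rw [hone] at hy
    obtain ⟨N, hN⟩ : ∃ N, N = y * l * y⁻¹ := ⟨_, rfl⟩
    rw [← hN] at hy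
    have hd := det_eq N
    rw [hy] at hd
    have h01 : ent N 0 1 ≠ 0 := by
      intro h0
      rw [h0] at hd
      simp at hd
    obtain ⟨t1, t2, d, e, ht1, ht2, hc⟩ := exists_conic h2 (ent N 1 1) t
    -- `n = [[d - t1, b], [c, d]]`, `e = -δ c`, `b = δ (T d + e - t2)`
    refine ⟨y, mk (d - t1) (ent N 0 1 * (ent N 1 1 * d + e - t2)) (-(e / ent N 0 1)) d ?_, ?_, ?_⟩
    · field_simp
      linear_combination hc
    · unfold tau
      rw [mk_00, mk_11]
      rcases ht1 with h | h <;> [left; right] <;> rw [h] <;> ring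
    · rw [← hN]
      have e2 : tau (N * mk (d - t1) (ent N 0 1 * (ent N 1 1 * d + e - t2)) (-(e / ent N 0 1)) d (by
          field_simp
          linear_combination hc)) = t2 := by
        unfold tau
        rw [ent_mul, ent_mul, mk_00, mk_01, mk_10, mk_11, hy]
        field_simp
        linear_combination -(ent N 1 1 * d + e - t2) * hd
      rw [e2]
      exact ht2

/-- an element with trace different from `± 2` has order prime to `p` -/
theorem pow_of_trace (p : ℕ) [Fact p.Prime] [CharP K p] [Fintype K] (M : S K) (h : (ent M 0 0 + ent M 1 1) ^ 2 ≠ 4) :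
    M ^ (Fintype.card K - 1) = 1 ∨ M ^ (Fintype.card K + 1) = 1 := by
  rcases Cfsg.Agent.H426.sl2_pow_cases p M with h1 | h1 | h1
  · exact Or.inl h1
  · exact Or.inr h1
  · exfalso
    apply h
    have h2 : (M ^ 2) ^ p = 1 := by rw [← pow_mul]; exact h1
    -- `(M² - 1)^p = 0`
    have h3 : ((M ^ 2).1 - 1) ^ p = 0 := by
      rw [sub_pow_char_of_commute p (Commute.one_right _), one_pow, sub_eq_zero]
      have := congrArg Subtype.val h2
      rwa [Matrix.SpecialLinearGroup.coe_pow] at this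
    have h4 : (((M ^ 2).1 - 1).det) = 0 := by
      have := congrArg Matrix.det h3
      rw [Matrix.det_pow, Matrix.det_zero] at this
      exact pow_eq_zero_iff (Fact.out : p.Prime).ne_zero |>.1 this
    rw [Matrix.det_fin_two] at h4
    have hd := det_eq M
    have e00 : ((M ^ 2).1 - 1) 0 0 = ent M 0 0 * ent M 0 0 + ent M 0 1 * ent M 1 0 - 1 := by
      rw [Matrix.sub_apply, Matrix.one_apply_eq, pow_two]
      congr 1
      exact ent_mul M M 0 0
    have e01 : ((M ^ 2).1 - 1) 0 1 = ent M 0 0 * ent M 0 1 + ent M 0 1 * ent M 1 1 := by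
      rw [Matrix.sub_apply, Matrix.one_apply_ne (by decide), sub_zero, pow_two]
      exact ent_mul M M 0 1
    have e10 : ((M ^ 2).1 - 1) 1 0 = ent M 1 0 * ent M 0 0 + ent M 1 1 * ent M 1 0 := by
      rw [Matrix.sub_apply, Matrix.one_apply_ne (by decide), sub_zero, pow_two]
      exact ent_mul M M 1 0
    have e11 : ((M ^ 2).1 - 1) 1 1 = ent M 1 0 * ent M 0 1 + ent M 1 1 * ent M 1 1 - 1 := by
      rw [Matrix.sub_apply, Matrix.one_apply_eq, pow_two]
      congr 1
      exact ent_mul M M 1 1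
    rw [e00, e01, e10, e11] at h4
    have e : (ent M 0 0 * ent M 1 1 - ent M 0 1 * ent M 1 0) ^ 2 - ((ent M 0 0 + ent M 1 1) ^ 2 -
        2 * (ent M 0 0 * ent M 1 1 - ent M 0 1 * ent M 1 0)) + 1 = 0 := by linear_combination h4
    rw [hd] at e
    linear_combination -e

/-- parameters -/
theorem exists_t0 (h2 : (2 : K) ≠ 0) : ∃ t : K, t ≠ 0 ∧ t ^ 2 + 4 ≠ 0 := by
  by_cases h5 : (5 : K) = 0
  · refine ⟨2, h2, fun h => one_ne_zero (α := K) ?_⟩
    have h8 : (8 : K) = 0 := by linear_combination h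
    linear_combination 2 * h8 - 3 * h5
  · exact ⟨1, one_ne_zero, fun h => h5 (by linear_combination h)⟩

end Cfsg.Agent.H148.SLTwo
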