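import Cfsg.Agent.H148.Prod
import Cfsg.Agent.H148.OddSL

/-!
# Thompson's conjecture for groups of type `G₂` and `³D₄` in odd characteristic (helper148)
-/

set_option autoImplicit false

namespace Cfsg.Agent.H148.Hex

open Cfsg.Agent.SplitTwo Cfsg.Agent.TitsThree.RankTwoZ Cfsg.Agent.Lib.SL2Mat Cfsg.Agent.Cit.HexBase
  Cfsg.Agent.Cit.HexBase.HexGrp Cfsg.Agent.H148.SLTwo

universe u

variable {E : Type*} [Field E] {σ : E ≃+* E} {L : Type u} [Group L] (c : HexGrp σ L)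

theorem act_p4_dg (a : ↥(fx σ)) (ha : a ≠ 0) : c.Act (c.p4 (dg a ha)) 1 a := by
  have hE := coe_ne' ha
  have hf : σ (a : E) = a := a.2
  have h1 := (c.act_a a ha).n1.n6
  refine h1.congr ?_ ?_ ?_
  · rw [p4_apply]
    group
  · rw [nrm_inv, nrm_of_fix hf]
    field_simp
  · rw [nrm_inv, nrm_of_fix hf]
    field_simp

theorem c_z_pa (m : SL2 ↥(fx σ)) : c.z * c.pa m * c.z⁻¹ = c.pa (conjGL (dgl (-1) neg_one_ne) m) := by
  rw [c.act_z.pa m]
  rfl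

theorem pa_z_conj (y M : SL2 ↥(fx σ)) :
    c.pa y * (c.pa M * c.z) * (c.pa y)⁻¹ = c.pa (y * M * conjGL (dgl (-1) neg_one_ne) y⁻¹) * c.z := by
  rw [map_mul, map_mul, ← c_z_pa, map_inv]
  group

/-- elements `pa m * z` with the same invariant are conjugate -/
theorem cj_pa_z {m : SL2 ↥(fx σ)} {t : ↥(fx σ)} (h : tau m = t) (ht : t ^ 2 + 4 ≠ 0) :
    Cj (c.pa (mk 0 1 (-1) t (by ring)) * c.z) (c.pa m * c.z) := by
  obtain ⟨y, δ, hδ, e00, e01, e10, e11⟩ := exists_std m (by rw [h]; exact ht)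
  refine Cj.symm ?_
  have h1 : Cj (c.pa m * c.z) (c.pa (y * m * conjGL (dgl (-1) neg_one_ne) y⁻¹) * c.z) :=
    ⟨c.pa y, (pa_z_conj c y m).symm⟩
  refine h1.trans ?_
  obtain ⟨N, hN⟩ : ∃ N, N = y * m * conjGL (dgl (-1) neg_one_ne) y⁻¹ := ⟨_, rfl⟩
  rw [← hN] at e00 e01 e10 e11 ⊢
  have hA := act_p4_dg c δ⁻¹ (inv_ne_zero hδ)
  refine ⟨c.p4 (dg δ⁻¹ (inv_ne_zero hδ)), ?_⟩
  have hz := c.T0_comm ⟨_, _, hA⟩ c.z_mem_T0
  have e : c.p4 (dg δ⁻¹ (inv_ne_zero hδ)) * (c.pa N * c.z) * (c.p4 (dg δ⁻¹ (inv_ne_zero hδ)))⁻¹ =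
      (c.p4 (dg δ⁻¹ (inv_ne_zero hδ)) * c.pa N * (c.p4 (dg δ⁻¹ (inv_ne_zero hδ)))⁻¹) * c.z := by
    calc _ = c.p4 (dg δ⁻¹ (inv_ne_zero hδ)) * c.pa N * (c.p4 (dg δ⁻¹ (inv_ne_zero hδ)))⁻¹ *
          ((c.p4 (dg δ⁻¹ (inv_ne_zero hδ)) * c.z) * (c.p4 (dg δ⁻¹ (inv_ne_zero hδ)))⁻¹) := by group
      _ = _ := by rw [hz]; group
  rw [e, hA.pa N]
  congr 2
  rw [conjGL_dgl_ent]
  refine ext_ent ?_ ?_ ?_ ?_
  · rw [mk_00, mk_00, e00]
  · rw [mk_01, mk_01, e01]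
    exact (inv_mul_cancel₀ hδ).symm
  · rw [mk_10, mk_10, e10]
    change -1 = -δ⁻¹ / δ⁻¹
    rw [neg_div, div_self (inv_ne_zero hδ)]
  · rw [mk_11, mk_11, e11, h]

/-- the sign change -/
theorem cj_neg (m : SL2 ↥(fx σ)) : Cj (c.pa m * c.z) (c.pa (dg (-1) neg_one_ne * m) * c.z) := by
  refine ⟨n3 c, ?_⟩
  have h1 : n3 c * c.z * (n3 c)⁻¹ = c.pa (dg (-1) neg_one_ne) * c.z := by
    have h2 := Act.n3 c.act_z
    have h3 := (c.act_a (-1) neg_one_ne).mul c.act_z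
    refine h2.unique (h3.congr rfl ?_ ?_)
    · change (-1 : E)⁻¹ * 1 = (-1 * 1)⁻¹
      norm_num
    · change (-1 : E) ^ 2 * -1 = -1
      norm_num
  have h2 := comm_pa_n3 c m
  have hc : dg (-1) neg_one_ne * m = m * dg (-1) neg_one_ne := by
    refine ext_ent ?_ ?_ ?_ ?_ <;> simp [ent_mul]
  rw [hc, map_mul]
  calc c.pa m * c.pa (dg (-1) neg_one_ne) * c.z = c.pa m * (c.pa (dg (-1) neg_one_ne) * c.z) := by group
    _ = (n3 c * c.pa m * (n3 c)⁻¹) * (n3 c * c.z * (n3 c)⁻¹) := by rw [h1, h2]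
    _ = _ := by group

theorem tau_neg (m : SL2 ↥(fx σ)) : tau (dg (-1) neg_one_ne * m) = -tau m := by
  unfold tau
  rw [ent_mul, ent_mul]
  simp
  ring

theorem cj_pa_z' {m : SL2 ↥(fx σ)} {t : ↥(fx σ)} (h : tau m = t ∨ tau m = -t) (ht : t ^ 2 + 4 ≠ 0) :
    Cj (c.pa (mk 0 1 (-1) t (by ring)) * c.z) (c.pa m * c.z) := by
  rcases h with h | h
  · exact cj_pa_z c h ht
  · have h1 := cj_pa_z c (m := dg (-1) neg_one_ne * m) (t := t) (by rw [tau_neg, h, neg_neg]) ht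
    exact h1.trans (cj_neg c m).symm

/-- fixed point freeness -/
theorem fpf_z (h2 : (2 : E) ≠ 0) {m : SL2 ↥(fx σ)} (h : tau m ≠ 0) : Fpf (c.pa m * c.z) (Sg c.X Qb) := by
  have h' : ((tau m : ↥(fx σ)) : E) ≠ 0 := coe_ne' h
  have e : ((tau m : ↥(fx σ)) : E) = ((ent m 1 1 : ↥(fx σ)) : E) - ((ent m 0 0 : ↥(fx σ)) : E) := rfl
  rw [e] at h'
  refine fpf_Qb c m c.act_z ?_ ?_ ?_
  · intro h3
    apply h'
    linear_combination -h3
  · intro h3
    apply h2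
    have : shp σ (1 : E) = 1 := by unfold shp; simp
    rw [this] at h3
    linear_combination -h3
  · rw [nrm_one]
    intro h3
    apply h'
    linear_combination h3

theorem fpf_z' (h2 : (2 : E) ≠ 0) {m : SL2 ↥(fx σ)} (h : tau m ≠ 0) : Fpf (c.pa m * c.z) (Sg c.X Qb') := by
  have h' : ((tau m : ↥(fx σ)) : E) ≠ 0 := coe_ne' h
  have e : ((tau m : ↥(fx σ)) : E) = ((ent m 1 1 : ↥(fx σ)) : E) - ((ent m 0 0 : ↥(fx σ)) : E) := rfl
  rw [e] at h'
  have e1 : ((-1 : E) * 1)⁻¹ = -1 := by norm_num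
  refine fpf_Qb' c m c.act_z ?_ ?_ ?_
  · rw [e1]
    intro h3
    apply h'
    linear_combination h3
  · rw [e1]
    intro h3
    apply h2
    have : shp σ (-1 : E) = 1 := by unfold shp; simp
    rw [this] at h3
    linear_combination -h3
  · rw [e1, nrm_neg, nrm_one]
    intro h3
    apply h'
    linear_combination -h3

include c in
/-- **Thompson's conjecture in odd characteristic.** -/
theorem odd_main [Finite L] [Finite E] (p : ℕ) [Fact p.Prime] [CharP E p] (h2 : (2 : E) ≠ 0) :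
    ∃ x : L, ¬ p ∣ orderOf x ∧ ∀ g : L, g ≠ 1 → Pr x g := by
  have := Fintype.ofFinite ↥(fx σ)
  have h2' : (2 : ↥(fx σ)) ≠ 0 := fun h => h2 (congrArg Subtype.val h)
  obtain ⟨t, ht, ht4⟩ := exists_t0 h2'
  obtain ⟨x, hx⟩ : ∃ x, x = c.pa (mk 0 1 (-1) t (by ring)) * c.z := ⟨_, rfl⟩
  refine ⟨x, ?_, ?_⟩
  · -- the order
    have hp2 : p ≠ 2 := by
      rintro rfl
      exact h2 (by exact_mod_cast CharP.cast_eq_zero E 2)
    have : CharP ↥(fx σ) p := (Subfield.subtype (fx σ)).charP (Subfield.subtype (fx σ)).injective p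
    obtain ⟨M, hM⟩ : ∃ M : SL2 ↥(fx σ), M = mk 1 t t (1 + t ^ 2) (by ring) := ⟨_, rfl⟩
    have hxx : x ^ 2 = c.pa M := by
      rw [pow_two, hx]
      have e1 : c.pa (mk 0 1 (-1) t (by ring)) * c.z * (c.pa (mk 0 1 (-1) t (by ring)) * c.z) =
          c.pa (mk 0 1 (-1) t (by ring)) * (c.z * c.pa (mk 0 1 (-1) t (by ring)) * c.z⁻¹) * (c.z * c.z) := by group
      rw [e1, c.z_sq, mul_one, c_z_pa, ← map_mul, hM]
      congr 1
      rw [conjGL_dgl_ent]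
      refine ext_ent ?_ ?_ ?_ ?_ <;> simp only [ent_mul, mk_00, mk_01, mk_10, mk_11] <;> ring
    have hcard : p ∣ Fintype.card ↥(fx σ) := by
      have h3 := FiniteField.card ↥(fx σ) p
      obtain ⟨n, -, hn⟩ := h3
      rw [hn]
      exact dvd_pow_self p n.ne_zero
    have hpp := (Fact.out : p.Prime)
    have key : ∀ n : ℕ, ¬ p ∣ n → M ^ n = 1 → ¬ p ∣ orderOf x := by
      intro n hn h1 hd
      have h3 : orderOf x ∣ 2 * n := by
        apply orderOf_dvd_of_pow_eq_one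
        rw [pow_mul, hxx, ← map_pow, h1, map_one]
      have h4 := hd.trans h3
      rcases hpp.dvd_mul.1 h4 with h5 | h5
      · exact hp2 ((Nat.prime_dvd_prime_iff_eq hpp Nat.prime_two).1 h5)
      · exact hn h5
    have hpos : 1 ≤ Fintype.card ↥(fx σ) := Fintype.card_pos
    rcases pow_of_trace p M (by
      rw [hM, mk_00, mk_11]
      intro h
      have : t ^ 2 * (t ^ 2 + 4) = 0 := by linear_combination h
      rcases mul_eq_zero.1 this with h3 | h3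
      · exact ht (pow_eq_zero_iff (by norm_num) |>.1 h3)
      · exact ht4 h3) with h | h
    · refine key _ ?_ h
      intro hd
      have h1 : p ∣ 1 := by
        have := (Nat.dvd_sub hcard hd)
        rwa [Nat.sub_sub_self hpos] at this
      exact hpp.one_lt.ne' (Nat.dvd_one.1 h1)
    · refine key _ ?_ h
      intro hd
      have h1 : p ∣ 1 := (Nat.dvd_add_right hcard).1 hd
      exact hpp.one_lt.ne' (Nat.dvd_one.1 h1)
  · intro g hg
    obtain ⟨y, v, hv, l, u, hu, e⟩ := exists_weak_gauss (c := c) (z0 := -1) neg_one_ne (fun h => h2' (by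
      linear_combination -h)) hg
    obtain ⟨m, n, hn1, hn2⟩ := exists_pair h2' t l
    obtain ⟨v', hv', u', hu', e'⟩ := gauss_conj_pa c hv hu e m
    have ht' : t ≠ 0 ∧ -t ≠ 0 := ⟨ht, neg_ne_zero.2 ht⟩
    have hn3 : tau (conjGL (dgl (-1) neg_one_ne) n⁻¹) = t ∨ tau (conjGL (dgl (-1) neg_one_ne) n⁻¹) = -t := by
      have e3 : tau (conjGL (dgl (-1) neg_one_ne) n⁻¹) = -tau n := by
        unfold tau
        rw [conjGL_dgl_ent, mk_00, mk_11, ent_inv, mk_00, mk_11]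
        ring
      rw [e3]
      rcases hn1 with h | h <;> rw [h]
      · exact Or.inr rfl
      · exact Or.inl (neg_neg t)
    have hne : ∀ {m : SL2 ↥(fx σ)}, tau m = t ∨ tau m = -t → tau m ≠ 0 := by
      rintro m (h | h) <;> rw [h]
      · exact ht
      · exact neg_ne_zero.2 ht
    refine Pr.cell (x1 := c.pa (m * l * m⁻¹ * n) * c.z) (x2 := c.pa (conjGL (dgl (-1) neg_one_ne) n⁻¹) * c.z)
      (Q := Sg c.X Qb) (Q' := Sg c.X Qb') (y := c.pa m * y) (v := v') (u := u')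
      (by rw [hx]; exact cj_pa_z' c hn2 ht4) (by rw [hx]; exact cj_pa_z' c hn3 ht4)
      (fpf_z' c h2 (hne hn2)) (fpf_z c h2 (hne hn3)) hv' hu' ?_
    rw [e']
    congr 2
    calc c.pa (m * l * m⁻¹) = c.pa (m * l * m⁻¹ * n) * c.pa n⁻¹ := by rw [← map_mul, mul_inv_cancel_right]
      _ = c.pa (m * l * m⁻¹ * n) * (c.z * c.z) * c.pa n⁻¹ := by rw [c.z_sq, mul_one]
      _ = c.pa (m * l * m⁻¹ * n) * c.z * ((c.z * c.pa n⁻¹ * c.z⁻¹) * c.z) := by group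
      _ = _ := by rw [c_z_pa]

end Cfsg.Agent.H148.Hex
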