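import Cfsg.Agent.H148.GaussB

/-!
# Products of two conjugates in groups of type `G₂` and `³D₄` (helper148)
-/

set_option autoImplicit false

namespace Cfsg.Agent.H148.Hex

open Cfsg.Agent.SplitTwo Cfsg.Agent.TitsThree.RankTwoZ Cfsg.Agent.Lib.SL2Mat Cfsg.Agent.Cit.HexBase
  Cfsg.Agent.Cit.HexBase.HexGrp Cfsg.Agent.H148.SLTwo

universe u

section general

variable {L : Type*} [Group L]

/-- `y` is a conjugate of `x` -/
def Cj (x y : L) : Prop := ∃ a, y = a * x * a⁻¹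

theorem Cj.refl (x : L) : Cj x x := ⟨1, by group⟩

theorem Cj.trans {x y z : L} (h : Cj x y) (h' : Cj y z) : Cj x z := by
  obtain ⟨a, rfl⟩ := h
  obtain ⟨b, rfl⟩ := h'
  exact ⟨b * a, by group⟩

theorem Cj.symm {x y : L} (h : Cj x y) : Cj y x := by
  obtain ⟨a, rfl⟩ := h
  exact ⟨a⁻¹, by group⟩

/-- `g` is a product of two conjugates of `x` -/
def Pr (x g : L) : Prop := ∃ u v, g = (u * x * u⁻¹) * (v * x * v⁻¹)

theorem Pr.of {x x1 x2 g : L} (h1 : Cj x x1) (h2 : Cj x x2) (e : g = x1 * x2) : Pr x g := by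
  obtain ⟨a, rfl⟩ := h1
  obtain ⟨b, rfl⟩ := h2
  exact ⟨a, b, e⟩

theorem Pr.conj {x g : L} (h : Pr x g) (y : L) : Pr x (y * g * y⁻¹) := by
  obtain ⟨u, v, rfl⟩ := h
  exact ⟨y * u, y * v, by group⟩

theorem Pr.of_conj {x g : L} (y : L) (h : Pr x (y * g * y⁻¹)) : Pr x g := by
  have := h.conj y⁻¹
  have e : y⁻¹ * (y * g * y⁻¹) * y⁻¹⁻¹ = g := by group
  rwa [e] at this

theorem Fpf.left [Finite L] {Q : Subgroup L} {x v : L} (h : Fpf x Q) (hv : v ∈ Q) : Cj x (v * x) := by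
  let f : Q → Q := fun y => ⟨y.1 * (x * y.1⁻¹ * x⁻¹), mul_mem y.2 (h.1 _ (inv_mem y.2))⟩
  have hinj : Function.Injective f := by
    intro a b hab
    have e : a.1 * (x * a.1⁻¹ * x⁻¹) = b.1 * (x * b.1⁻¹ * x⁻¹) := congrArg Subtype.val hab
    have e2 : x * (b.1⁻¹ * a.1) * x⁻¹ = b.1⁻¹ * a.1 := by
      calc x * (b.1⁻¹ * a.1) * x⁻¹ = b.1⁻¹ * (b.1 * (x * b.1⁻¹ * x⁻¹)) * (x * a.1 * x⁻¹) := by group
        _ = b.1⁻¹ * (a.1 * (x * a.1⁻¹ * x⁻¹)) * (x * a.1 * x⁻¹) := by rw [e]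
        _ = _ := by group
    have e3 := h.2 _ (mul_mem (inv_mem b.2) a.2) e2
    exact Subtype.ext (inv_mul_eq_one.1 e3).symm
  have hsurj : Function.Surjective f := Finite.surjective_of_injective hinj
  obtain ⟨y, hy⟩ := hsurj ⟨v, hv⟩
  refine ⟨y.1, ?_⟩
  have e : y.1 * (x * y.1⁻¹ * x⁻¹) = v := congrArg Subtype.val hy
  rw [← e]
  group

theorem Fpf.right [Finite L] {Q : Subgroup L} {x u : L} (h : Fpf x Q) (hu : u ∈ Q) : Cj x (x * u) := by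
  have h1 := h.left (h.1 u hu)
  have e : x * u * x⁻¹ * x = x * u := by group
  rwa [e] at h1

/-- the product of two fixed point free elements -/
theorem Pr.cell [Finite L] {Q Q' : Subgroup L} {x x1 x2 g y v u : L} (h1 : Cj x x1) (h2 : Cj x x2)
    (f1 : Fpf x1 Q') (f2 : Fpf x2 Q) (hv : v ∈ Q') (hu : u ∈ Q) (e : y * g * y⁻¹ = v * (x1 * x2) * u) : Pr x g := by
  refine Pr.of_conj y (Pr.of (h1.trans (f1.left hv)) (h2.trans (f2.right hu)) ?_)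
  rw [e]
  group

/-- transport of fixed point freeness -/
theorem Fpf.of_conj {Q Q' : Subgroup L} {x n : L} (h1 : ∀ g ∈ Q', n * g * n⁻¹ ∈ Q) (h2 : ∀ g ∈ Q, n⁻¹ * g * n ∈ Q')
    (h : Fpf (n * x * n⁻¹) Q) : Fpf x Q' := by
  constructor
  · intro g hg
    have := h2 _ (h.1 _ (h1 g hg))
    have e : n⁻¹ * (n * x * n⁻¹ * (n * g * n⁻¹) * (n * x * n⁻¹)⁻¹) * n = x * g * x⁻¹ := by group
    rwa [e] at this
  · intro g hg e
    have := h.2 _ (h1 g hg) (by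
      rw [← e]
      calc n * x * n⁻¹ * (n * (x * g * x⁻¹) * n⁻¹) * (n * x * n⁻¹)⁻¹
          = n * (x * (x * g * x⁻¹) * x⁻¹) * n⁻¹ := by group
        _ = _ := by rw [e, e])
    rw [mul_inv_eq_one] at this
    exact mul_eq_left.1 this

end general

variable {E : Type*} [Field E] {σ : E ≃+* E} {L : Type u} [Group L] (c : HexGrp σ L)

/-- criterion for a fixed point free action on `Qb'` -/
theorem fpf_Qb' (m : SL2 ↥(fx σ)) {s : L} {c1 c6 : E} (hs : c.Act s c1 c6)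
    (hA : 1 - (c6 * c1)⁻¹ * (c6 * ent m 0 0 + ent m 1 1) + (c6 * c1)⁻¹ ^ 2 * c6 ≠ 0)
    (hB : c6 * shp σ (c6 * c1)⁻¹ ≠ 1)
    (hC : 1 - nrm σ (c6 * c1)⁻¹ * c6 * (c6 * ent m 0 0 + ent m 1 1) + nrm σ (c6 * c1)⁻¹ ^ 2 * c6 ^ 3 ≠ 0) :
    Fpf (c.pa m * s) (Sg c.X Qb') := by
  have h := fpf_Qb c m (Act.n3 hs) hA hB hC
  have e : n3 c * (c.pa m * s) * (n3 c)⁻¹ = c.pa m * (n3 c * s * (n3 c)⁻¹) := by
    calc n3 c * (c.pa m * s) * (n3 c)⁻¹ = (n3 c * c.pa m * (n3 c)⁻¹) * (n3 c * s * (n3 c)⁻¹) := by group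
      _ = _ := by rw [comm_pa_n3]
  rw [← e] at h
  refine Fpf.of_conj (n := n3 c) (fun g hg => conj_Sg (maps_n3 c) (by decide +kernel) hg) (fun g hg => ?_) h
  have := conj_Sg (maps_n3_inv c) (s := Qb) (t := Qb') (by decide +kernel) hg
  rwa [inv_inv] at this

/-- conjugation of the middle factor by `pa` -/
theorem gauss_conj_pa {g y v u : L} {l : SL2 ↥(fx σ)} (hv : v ∈ Sg c.X Qb') (hu : u ∈ Sg c.X Qb)
    (e : y * g * y⁻¹ = v * c.pa l * u) (m : SL2 ↥(fx σ)) :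
    ∃ v' ∈ Sg c.X Qb', ∃ u' ∈ Sg c.X Qb, (c.pa m * y) * g * (c.pa m * y)⁻¹ = v' * c.pa (m * l * m⁻¹) * u' := by
  refine ⟨c.pa m * v * (c.pa m)⁻¹, pa_conj c (by decide +kernel) (by decide +kernel) m v hv,
    c.pa m * u * (c.pa m)⁻¹, pa_conj c (by decide +kernel) (by decide +kernel) m u hu, ?_⟩
  rw [map_mul, map_mul, map_inv]
  calc c.pa m * y * g * (c.pa m * y)⁻¹ = c.pa m * (y * g * y⁻¹) * (c.pa m)⁻¹ := by group
    _ = _ := by rw [e]; group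

end Cfsg.Agent.H148.Hex
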