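import Cfsg.Agent.H148.SmallFrame

/-!
# Groups of type `G₂` and `³D₄` over small fields of characteristic two: bad elements (helper148)
-/

set_option autoImplicit false

namespace Cfsg.Agent.H148.Hex

open Cfsg.Agent.SplitTwo Cfsg.Agent.TitsThree.RankTwoZ Cfsg.Agent.Lib.SL2Mat Cfsg.Agent.Cit.HexBase
  Cfsg.Agent.Cit.HexBase.HexGrp Cfsg.Agent.H148.SLTwo

universe u

variable {E : Type*} [Field E] {σ : E ≃+* E} {L : Type u} [Group L] {c : HexGrp σ L}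

/-- the condition on a bad element, homogeneous form -/
theorem bad_hom [Finite L] [Finite E] [CharP E 2] [CharP ↥(fx σ) 2] {τ : ↥(fx σ)} {s0 : L} {c1 : E} (D : Dat c τ s0 c1)
    {g : L} (hg : ¬ Pr (c.pa (comp ↥(fx σ) τ) * s0) g) {y q' q : L} {M : SL2 E} {r : ↥(fx σ)} {hr : r ≠ 0}
    (hF : FA c (y * g * y⁻¹) q' M r hr q) {a2 a3 a5 a6 b2 b3 b5 b6 : E}
    (ha : c.NF (c.n1⁻¹ * (c.n4⁻¹ * q' * c.n4) * c.n1) a2 a3 a5 a6) (hb : c.NF (c.n1⁻¹ * q * c.n1) b2 b3 b5 b6)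
    (p q0 p' q0' : E) (hΔ : p * q0' - q0 * p' ≠ 0)
    (hs : (p * ent M 0 0 + q0 * ent M 1 0) * q0' - (p * ent M 0 1 + q0 * ent M 1 1) * (r * p') = p * q0' - q0 * p' ∨
      (p * ent M 0 0 + q0 * ent M 1 0) * q0' - (p * ent M 0 1 + q0 * ent M 1 1) * (r * p') = c1 * (p * q0' - q0 * p') ∨
      ((p * ent M 0 0 + q0 * ent M 1 0) * q0' - (p * ent M 0 1 + q0 * ent M 1 1) * (r * p')) * c1 = p * q0' - q0 * p') :
    (r : E) + (r : E)⁻¹ + r * cf σ a2 a3 a5 a6 p q0 * cf σ b2 b3 b5 b6 p' q0' = 0 ∧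
      ¬ ((r : E) = 1 ∧ cf σ a2 a3 a5 a6 p q0 = 0 ∧ cf σ b2 b3 b5 b6 p' q0' = 0) := by
  obtain ⟨Δ, hΔe⟩ : ∃ Δ, Δ = p * q0' - q0 * p' := ⟨_, rfl⟩
  rw [← hΔe] at hΔ hs
  have hdet : p * (q0' / Δ) - q0 * (p' / Δ) = 1 := by
    field_simp
    exact hΔe.symm
  obtain ⟨num, hnum⟩ : ∃ num, num = (p * ent M 0 0 + q0 * ent M 1 0) * q0' - (p * ent M 0 1 + q0 * ent M 1 1) * (r * p') :=
    ⟨_, rfl⟩
  rw [← hnum] at hs
  have he : ent (mk p q0 (p' / Δ) (q0' / Δ) hdet * M *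
      conjGL (dgl (r : E)⁻¹ (inv_ne_zero (coe_ne' hr))) (mk p q0 (p' / Δ) (q0' / Δ) hdet)⁻¹) 0 0 = num / Δ := by
    have hr' := coe_ne' hr
    rw [conjGL_dgl_ent, ent_inv (mk p q0 (p' / Δ) (q0' / Δ) hdet), hnum]
    simp only [ent_mul, mk_00, mk_01, mk_10, mk_11]
    field_simp
    ring
  have h := D.bad hg hF ha hb (mk p q0 (p' / Δ) (q0' / Δ) hdet) (by
    rw [he]
    rcases hs with h | h | h
    · left; rw [h, div_self hΔ]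
    · right; left; rw [h, mul_div_cancel_right₀ _ hΔ]
    · right; right; rw [div_mul_eq_mul_div, h, div_self hΔ])
  simp only [mk_00, mk_01, mk_10, mk_11] at h
  have h4 := cf_smul (σ := σ) b2 b3 b5 b6 (p' / Δ) (q0' / Δ) Δ c.cube
  rw [mul_div_cancel₀ _ hΔ, mul_div_cancel₀ _ hΔ, D.nrm1 _ hΔ, one_mul] at h4
  rw [h4]
  exact h

theorem n4_sq [CharP E 2] : c.n4 * c.n4 = 1 := by
  have : CharP ↥(fx σ) 2 := charP_fx
  rw [HexGrp.n4, ← map_mul]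
  have : (wm (1 : ↥(fx σ)) one_ne_zero * wm 1 one_ne_zero : SL2 ↥(fx σ)) = 1 := by
    have h2 := two_eq_zero ↥(fx σ)
    refine ext_ent ?_ ?_ ?_ ?_ <;> simp [ent_mul]
    · linear_combination -h2
    · linear_combination -h2
  rw [this, map_one]

theorem n1_sq' [CharP E 2] : c.n1 * c.n1 = 1 := by
  rw [HexGrp.n1, ← map_mul]
  have : (wm (1 : E) one_ne_zero * wm 1 one_ne_zero : SL2 E) = 1 := by
    have h2 := two_eq_zero E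
    refine ext_ent ?_ ?_ ?_ ?_ <;> simp [ent_mul]
    · linear_combination -h2
    · linear_combination -h2
  rw [this, map_one]

theorem n6_sq' [CharP E 2] : c.n6 * c.n6 = 1 := by
  have : CharP ↥(fx σ) 2 := charP_fx
  rw [HexGrp.n6, ← map_mul]
  have : (wm (1 : ↥(fx σ)) one_ne_zero * wm 1 one_ne_zero : SL2 ↥(fx σ)) = 1 := by
    have h2 := two_eq_zero ↥(fx σ)
    refine ext_ent ?_ ?_ ?_ ?_ <;> simp [ent_mul]
    · linear_combination -h2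
    · linear_combination -h2
  rw [this, map_one]

/-- the mirror image of a frame -/
theorem FA.mirror [CharP E 2] {g q' q : L} {M : SL2 E} (h : FA c g q' M 1 one_ne_zero q) :
    FA c (c.n4⁻¹ * g⁻¹ * c.n4) (c.n4⁻¹ * q⁻¹ * c.n4) M⁻¹ 1 one_ne_zero (c.n4⁻¹ * q'⁻¹ * c.n4) := by
  obtain ⟨h1, h2, h3⟩ := h
  have hinv : Maps c.X c.n4⁻¹ (fun k => 2 - k) := c.maps_n4.inv fun k => by ring
  refine ⟨?_, ?_, ?_⟩
  · have := conj_Sg hinv (s := Qa) (t := Qa') (by decide +kernel) (inv_mem h2)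
    rwa [inv_inv] at this
  · have := conj_Sg hinv (s := Qa') (t := Qa) (by decide +kernel) (inv_mem h1)
    rwa [inv_inv] at this
  · have hcomm : c.n4⁻¹ * c.pb M⁻¹ = c.pb M⁻¹ * c.n4⁻¹ := by
      have := c.comm_pb_p4 M⁻¹ (wm 1 one_ne_zero)
      rw [show c.p4 (wm 1 one_ne_zero) = c.n4 from rfl] at this
      calc c.n4⁻¹ * c.pb M⁻¹ = c.n4⁻¹ * (c.pb M⁻¹ * c.n4) * c.n4⁻¹ := by group
        _ = _ := by rw [this]; group
    rw [dg_one', map_one, mul_one] at h3 ⊢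
    rw [h3]
    calc c.n4⁻¹ * (q' * c.pb M * q)⁻¹ * c.n4 = c.n4⁻¹ * q⁻¹ * c.n4 * (c.n4⁻¹ * c.pb M⁻¹) * q'⁻¹ * c.n4 := by
          rw [map_inv]; group
      _ = _ := by rw [hcomm]; group

/-- another representation of a frame under `n6`. -/
theorem frame_n6 [CharP E 2] (hN : ∀ s : E, s ≠ 0 → nrm σ s = 1) {v : L} (hv : v ∈ c.X 10) (a s b : E) (hs : s ≠ 0)
    {d : ↥(fx σ)} {u : L} (hu : u ∈ Sg c.X {2, 3, 4, 5}) :
    ∃ u5 k, k ∈ Sg c.X {2, 3, 4} ∧ ∃ v8 ∈ c.X 8, ∃ v11 ∈ c.X 11,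
      (∃ k0 ∈ Sg c.X {2, 3, 4}, u = c.x5 u5 * k0) ∧ v8 = c.n6 * v * c.n6⁻¹ ∧
      c.n6 * (v * c.pb (lo a * dg s hs * up b) * (c.pa (up d) * u)) * c.n6⁻¹ =
        (v8 * v11 * c.pa (lo d)) * c.pb (dg s hs * up (d * b + u5)) * (c.x5 b * k) := by
  have : CharP ↥(fx σ) 2 := charP_fx
  -- the `X 5` component
  obtain ⟨x5', h5, k0, hk0, eu⟩ := c.exists_mul (k := 5) (s := {2, 3, 4}) (by decide +kernel)
    (Sg_mono (by decide +kernel) hu : u ∈ Sg c.X (insert 5 {2, 3, 4}))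
  obtain ⟨u5, rfl⟩ := (c.par.mem5 _).1 h5
  have h8 : c.n6 * v * c.n6⁻¹ ∈ c.X 8 := maps_mem c.maps_n6 hv (by decide)
  have h11 : c.n6 * c.pb (lo a) * c.n6⁻¹ ∈ c.X 11 := maps_mem c.maps_n6 ((c.pb_lo _).2 ⟨a, rfl⟩) (by decide)
  have hact := c.act_b s hs
  rw [hN _ hs, inv_one] at hact
  have et : c.n6 * c.pb (dg s hs) * c.n6⁻¹ = c.pb (dg s hs) := by
    refine hact.n6.unique (hact.congr rfl ?_ ?_)
    · rw [one_mul]
    · rw [inv_one]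
  have hkw : c.n6 * k0 * c.n6⁻¹ ∈ Sg c.X {2, 3, 4} := conj_Sg c.maps_n6 (by decide +kernel) hk0
  -- `W` coordinates
  have hW1 := lo_x5 c d b
  have e6 : c.n6 * c.pa (up d) * c.n6⁻¹ = c.pa (lo d) := by
    have := n6_pa_up (c := c) d
    rwa [neg_eq] at this
  have hlo : (c.pa (lo d))⁻¹ = c.pa (lo d) := by
    rw [← map_inv, lo_inv, neg_eq]
  have hW : W c ((c.pa (lo d) * c.x5 b * (c.pa (lo d))⁻¹) * (c.x1 u5 * (c.n6 * k0 * c.n6⁻¹))) b (d * b + u5) :=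
    (hW1.mul ((w1 c u5).mul (w0 c hkw))).congr rfl (by ring) (by ring)
  obtain ⟨k1, hk1, ek⟩ := hW
  -- reorder
  obtain ⟨j, hj, ej⟩ := x1_x5 (c := c) (d * b + u5) b
  refine ⟨u5, j⁻¹ * k1, mul_mem (inv_mem hj) hk1, c.n6 * v * c.n6⁻¹, h8,
    c.n6 * c.pb (lo a) * c.n6⁻¹, h11, ⟨k0, hk0, eu⟩, rfl, ?_⟩
  have e1 : c.n6 * c.x1 b * c.n6⁻¹ = c.x5 b := n6_x1 b
  have e5 : c.n6 * c.x5 u5 * c.n6⁻¹ = c.x1 u5 := by
    have := n6_x5 (c := c) u5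
    rwa [neg_eq] at this
  have e7 := comm_pa_of_one c hact (lo d)
  calc c.n6 * (v * c.pb (lo a * dg s hs * up b) * (c.pa (up d) * u)) * c.n6⁻¹
      = (c.n6 * v * c.n6⁻¹) * (c.n6 * c.pb (lo a) * c.n6⁻¹) * (c.n6 * c.pb (dg s hs) * c.n6⁻¹) *
          (c.n6 * c.x1 b * c.n6⁻¹) * (c.n6 * c.pa (up d) * c.n6⁻¹) * ((c.n6 * c.x5 u5 * c.n6⁻¹) *
            (c.n6 * k0 * c.n6⁻¹)) := by
        rw [map_mul, map_mul, ← c.pb_up, eu]
        group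
    _ = (c.n6 * v * c.n6⁻¹) * (c.n6 * c.pb (lo a) * c.n6⁻¹) * c.pb (dg s hs) *
          c.x5 b * c.pa (lo d) * (c.x1 u5 * (c.n6 * k0 * c.n6⁻¹)) := by rw [et, e1, e6, e5]
    _ = (c.n6 * v * c.n6⁻¹) * (c.n6 * c.pb (lo a) * c.n6⁻¹) * (c.pb (dg s hs) * c.pa (lo d)) *
          ((c.pa (lo d))⁻¹ * c.x5 b * c.pa (lo d) * (c.x1 u5 * (c.n6 * k0 * c.n6⁻¹))) := by group
    _ = (c.n6 * v * c.n6⁻¹) * (c.n6 * c.pb (lo a) * c.n6⁻¹) * (c.pa (lo d) * c.pb (dg s hs)) *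
          (c.pa (lo d) * c.x5 b * (c.pa (lo d))⁻¹ * (c.x1 u5 * (c.n6 * k0 * c.n6⁻¹))) := by
        simp only [e7, hlo]
    _ = _ := by
        rw [ek, map_mul, c.pb_up]
        have e8 : c.x5 b * c.x1 (d * b + u5) = c.x1 (d * b + u5) * c.x5 b * j⁻¹ := by rw [ej]; group
        rw [e8]
        group

end Cfsg.Agent.H148.Hex
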