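import Cfsg.Agent.H148.EvenSL
import Cfsg.Agent.H148.OddSL

/-!
# Lemmas on `SL(2,K)`, `K` finite of characteristic two: nonsplit elements (helper148)
-/

set_option autoImplicit false

namespace Cfsg.Agent.H148.SLTwo

open Cfsg.Agent.Lib.SL2Mat

variable {K : Type*} [Field K]

theorem two_eq_zero (K : Type*) [Field K] [CharP K 2] : (2 : K) = 0 := by exact_mod_cast CharP.cast_eq_zero K 2

theorem exists_sqrt [Finite K] [CharP K 2] (a : K) : ∃ r : K, r ^ 2 = a := by
  obtain ⟨r, hr⟩ := FiniteField.isSquare_of_char_two (F := K) (ringChar.eq_iff.2 inferInstance) a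
  exact ⟨r, by rw [hr]; ring⟩

/-- the companion matrix -/
def comp (K : Type*) [Field K] [CharP K 2] (t : K) : S K := mk 0 1 1 t (by linear_combination -two_eq_zero K)

/-- a nonscalar matrix is conjugate to the companion matrix of its characteristic polynomial -/
theorem exists_comp [Finite K] [CharP K 2] (M : S K) (hM : ¬ (ent M 0 1 = 0 ∧ ent M 1 0 = 0 ∧ ent M 0 0 = ent M 1 1)) :
    ∃ y : S K, y * M * y⁻¹ = comp K (tr M) := by
  obtain ⟨y, hy⟩ := exists_entry M hM 0
  have ht := tr_conj y M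
  obtain ⟨N, hN⟩ : ∃ N, N = y * M * y⁻¹ := ⟨_, rfl⟩
  rw [← hN] at hy ht
  have hd := det_eq N
  rw [hy] at hd
  have h01 : ent N 0 1 ≠ 0 := by
    intro h0
    rw [h0] at hd
    simp at hd
  have h11 : ent N 1 1 = tr M := by
    rw [← ht]
    unfold tr
    rw [hy, zero_add]
  obtain ⟨r, hr⟩ := exists_sqrt (ent N 0 1)
  have hr0 : r ≠ 0 := by
    intro h
    rw [h] at hr
    exact h01 (by rw [← hr]; ring)
  refine ⟨dg r⁻¹ (inv_ne_zero hr0) * y, ?_⟩
  have e1 : dg r⁻¹ (inv_ne_zero hr0) * y * M * (dg r⁻¹ (inv_ne_zero hr0) * y)⁻¹ =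
      dg r⁻¹ (inv_ne_zero hr0) * N * (dg r⁻¹ (inv_ne_zero hr0))⁻¹ := by rw [hN]; group
  rw [e1]
  have h10 : ent N 1 0 = -(r ^ 2)⁻¹ := by
    rw [hr]
    field_simp
    linear_combination -hd
  have h2 := two_eq_zero K
  rw [ent_inv (dg r⁻¹ (inv_ne_zero hr0))]
  unfold comp
  refine ext_ent ?_ ?_ ?_ ?_ <;>
    simp only [ent_mul, mk_00, mk_01, mk_10, mk_11, dg_00, dg_01, dg_10, dg_11, hy, h11, h10, ← hr, inv_inv]
  · ring
  · field_simp
    ring
  · field_simp
    linear_combination -h2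
  · field_simp
    ring

theorem tau_ne {K : Type*} [Field K] [CharP K 2] {τ : K} (h : ∀ x : K, x ^ 2 + τ * x + 1 ≠ 0) : τ ≠ 0 := by
  intro h0
  apply h 1
  rw [h0]
  linear_combination two_eq_zero K

theorem exists_comp' [Finite K] [CharP K 2] {τ : K} (h : ∀ x : K, x ^ 2 + τ * x + 1 ≠ 0) {M : S K} (hM : tr M = τ) :
    ∃ y : S K, y * M * y⁻¹ = comp K τ := by
  rw [← hM]
  refine exists_comp M ?_
  rintro ⟨h01, h10, h00⟩
  apply tau_ne h
  rw [← hM]
  unfold tr
  rw [h00]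
  linear_combination ent M 1 1 * two_eq_zero K

/-- products of two elements of trace `τ` -/
theorem exists_pair_irr [Finite K] [CharP K 2] {τ : K} {l : S K} (hl : l = 1 ∨ tr l ≠ 0) :
    ∃ y n : S K, tr n = τ ∧ tr (y * l * y⁻¹ * n) = τ := by
  have h20 := two_eq_zero K
  rcases hl with rfl | hl
  · refine ⟨1, comp K τ, ?_, ?_⟩
    · unfold tr comp
      simp
    · rw [inv_one, mul_one, one_mul, one_mul]
      unfold tr comp
      simp
  · obtain ⟨y, hy⟩ := exists_entry l (by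
      rintro ⟨-, -, h⟩
      apply hl
      unfold tr
      rw [h]
      linear_combination ent l 1 1 * h20) 0
    have ht := tr_conj y l
    obtain ⟨N, hN⟩ : ∃ N, N = y * l * y⁻¹ := ⟨_, rfl⟩
    rw [← hN] at hy ht
    have hd := det_eq N
    rw [hy] at hd
    have h01 : ent N 0 1 ≠ 0 := by
      intro h0
      rw [h0] at hd
      simp at hd
    obtain ⟨T, hT⟩ : ∃ T, T = ent N 1 1 := ⟨_, rfl⟩
    have h0 : T ≠ 0 := by
      rw [hT]
      intro h
      apply hl
      rw [← ht]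
      unfold tr
      rw [hy, h, zero_add]
    obtain ⟨r, hr'⟩ := exists_sqrt (1 + τ ^ 2 / T)
    obtain ⟨u, d, hud⟩ : ∃ u d : K, d ^ 2 + T * u * d + u ^ 2 - τ * (u + d) + 1 = 0 := by
      refine ⟨τ / T + r, τ / T, ?_⟩
      field_simp
      have e1 : T * r ^ 2 = T + τ ^ 2 := by rw [hr']; field_simp
      linear_combination T * e1 + (τ ^ 2 + T ^ 2 + τ * T * r) * h20
    refine ⟨y, mk (τ - d) (ent N 0 1 * (u + T * d - τ)) (u / ent N 0 1) d ?_, ?_, ?_⟩
    · field_simp
      linear_combination -hud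
    · unfold tr
      rw [mk_00, mk_11]
      ring
    · rw [← hN]
      unfold tr
      rw [ent_mul, ent_mul, mk_00, mk_01, mk_10, mk_11, hy, ← hT]
      field_simp
      linear_combination -(u + T * d - τ) * hd

end Cfsg.Agent.H148.SLTwo
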