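import Cfsg.Agent.H148.Even
import Cfsg.Agent.H148.SmallSL

/-!
# Groups of type `G₂` and `³D₄` over small fields of characteristic two: the class (helper148)

Hypotheses: characteristic two, all norms are `1`.
-/

set_option autoImplicit false

namespace Cfsg.Agent.H148.Hex

open Cfsg.Agent.SplitTwo Cfsg.Agent.TitsThree.RankTwoZ Cfsg.Agent.Lib.SL2Mat Cfsg.Agent.Cit.HexBase
  Cfsg.Agent.Cit.HexBase.HexGrp Cfsg.Agent.H148.SLTwo

universe u

variable {E : Type*} [Field E] {σ : E ≃+* E} {L : Type u} [Group L] (c : HexGrp σ L)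

theorem charP_fx [CharP E 2] : CharP ↥(fx σ) 2 :=
  (Subfield.subtype (fx σ)).charP (Subfield.subtype (fx σ)).injective 2

/-- criterion for a nonsplit element times an element of the centre of the Levi subgroup -/
theorem fpf_irr [CharP E 2] {τ : ↥(fx σ)} (hτ : ∀ x : E, x ^ 2 + τ * x + 1 ≠ 0) (hN : ∀ s : E, s ≠ 0 → nrm σ s = 1)
    {s : L} {c1 : E} (hs : c.Act s c1 1) (h1 : c1 ≠ 1) {m : SL2 ↥(fx σ)} (hm : tr m = τ) :
    Fpf (c.pa m * s) (Sg c.X Qb) := by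
  have h20 := two_eq_zero E
  have hne := hs.ne1
  have e1 : ((ent m 0 0 : ↥(fx σ)) : E) + ((ent m 1 1 : ↥(fx σ)) : E) = (τ : E) :=
    congrArg (fun x : ↥(fx σ) => (x : E)) hm
  have hn := hN c1 hne
  refine fpf_Qb c m hs ?_ ?_ ?_
  · rw [one_mul, e1, mul_one]
    intro h
    apply hτ c1
    linear_combination h + c1 * τ * h20
  · rw [one_mul]
    intro h
    apply h1
    have : nrm σ c1 = c1 * shp σ c1 := by unfold nrm shp; ring
    rw [h, hn] at this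
    rw [this, mul_one]
  · rw [mul_one, one_mul, e1, one_pow, mul_one, hn]
    intro h
    apply hτ 1
    linear_combination h + τ * h20

theorem fpf_irr' [CharP E 2] {τ : ↥(fx σ)} (hτ : ∀ x : E, x ^ 2 + τ * x + 1 ≠ 0) (hN : ∀ s : E, s ≠ 0 → nrm σ s = 1)
    {s : L} {c1 : E} (hs : c.Act s c1 1) (h1 : c1 ≠ 1) {m : SL2 ↥(fx σ)} (hm : tr m = τ) :
    Fpf (c.pa m * s) (Sg c.X Qb') := by
  have h := fpf_irr c hτ hN (act_n3_one hs) (fun h => h1 (inv_eq_one.1 h)) hm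
  have e : n3 c * (c.pa m * s) * (n3 c)⁻¹ = c.pa m * (n3 c * s * (n3 c)⁻¹) := by
    calc n3 c * (c.pa m * s) * (n3 c)⁻¹ = (n3 c * c.pa m * (n3 c)⁻¹) * (n3 c * s * (n3 c)⁻¹) := by group
      _ = _ := by rw [comm_pa_n3]
  rw [← e] at h
  refine Fpf.of_conj (n := n3 c) (fun g hg => conj_Sg (maps_n3 c) (by decide +kernel) hg) (fun g hg => ?_) h
  have := conj_Sg (maps_n3_inv c) (s := Qb) (t := Qb') (by decide +kernel) hg
  rwa [inv_inv] at this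

/-- the data of the class -/
structure Dat [CharP E 2] (τ : ↥(fx σ)) (s0 : L) (c1 : E) : Prop where
  irr : ∀ x : E, x ^ 2 + τ * x + 1 ≠ 0
  nrm1 : ∀ s : E, s ≠ 0 → nrm σ s = 1
  act : c.Act s0 c1 1
  ne1 : c1 ≠ 1

variable {c} {τ : ↥(fx σ)} {s0 : L} {c1 : E}

theorem Dat.irr' [CharP E 2] (D : Dat c τ s0 c1) (x : ↥(fx σ)) : x ^ 2 + τ * x + 1 ≠ 0 := fun h =>
  D.irr x (congrArg Subtype.val h)

/-- the element -/
theorem Dat.cj [Finite E] [CharP E 2] [CharP ↥(fx σ) 2] (D : Dat c τ s0 c1) {m : SL2 ↥(fx σ)} (hm : tr m = τ) :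
    Cj (c.pa (comp ↥(fx σ) τ) * s0) (c.pa m * s0) := by
  obtain ⟨y, hy⟩ := exists_comp' (K := ↥(fx σ)) D.irr' hm
  refine Cj.symm ⟨c.pa y, ?_⟩
  have h2 := comm_pa_of_one c D.act y⁻¹
  rw [← hy, map_mul, map_mul]
  calc c.pa y * c.pa m * c.pa y⁻¹ * s0 = c.pa y * c.pa m * (c.pa y⁻¹ * s0) := by group
    _ = _ := by rw [← h2, map_inv]; group

theorem Dat.cj' [Finite E] [CharP E 2] [CharP ↥(fx σ) 2] (D : Dat c τ s0 c1) {m : SL2 ↥(fx σ)} (hm : tr m = τ) :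
    Cj (c.pa (comp ↥(fx σ) τ) * s0) (c.pa m * s0⁻¹) :=
  (D.cj hm).trans (cj_inv_n3 c D.act m)

theorem Dat.inv [CharP E 2] (D : Dat c τ s0 c1) : Dat c τ s0⁻¹ c1⁻¹ where
  irr := D.irr
  nrm1 := D.nrm1
  act := D.act.inv.congr rfl rfl inv_one
  ne1 h := D.ne1 (inv_eq_one.1 h)

/-- `x` is conjugate to its inverse -/
theorem Dat.cj_inv [Finite E] [CharP E 2] [CharP ↥(fx σ) 2] (D : Dat c τ s0 c1) :
    Cj (c.pa (comp ↥(fx σ) τ) * s0) (c.pa (comp ↥(fx σ) τ) * s0)⁻¹ := by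
  have h1 : tr (comp ↥(fx σ) τ)⁻¹ = τ := by rw [tr_inv]; unfold tr comp; simp
  have h2 := D.cj' h1
  have e : (c.pa (comp ↥(fx σ) τ) * s0)⁻¹ = c.pa (comp ↥(fx σ) τ)⁻¹ * s0⁻¹ := by
    rw [← comm_pa_of_one c D.act, mul_inv_rev, map_inv]
  rwa [e]

theorem Pr.inv {x g : L} (h1 : Cj x x⁻¹) (h : Pr x g) : Pr x g⁻¹ := by
  obtain ⟨a, ha⟩ := h1
  obtain ⟨u, v, rfl⟩ := h
  refine ⟨v * a, u * a, ?_⟩
  have e1 : (v * x * v⁻¹)⁻¹ = v * a * x * (v * a)⁻¹ := by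
    calc (v * x * v⁻¹)⁻¹ = v * x⁻¹ * v⁻¹ := by group
      _ = _ := by rw [ha]; group
  have e2 : (u * x * u⁻¹)⁻¹ = u * a * x * (u * a)⁻¹ := by
    calc (u * x * u⁻¹)⁻¹ = u * x⁻¹ * u⁻¹ := by group
      _ = _ := by rw [ha]; group
  rw [mul_inv_rev, e1, e2]

theorem tr_comp {K : Type*} [Field K] [CharP K 2] (t : K) : tr (comp K t) = t := by
  unfold tr comp
  simp

/-- the order of the element is odd -/
theorem Dat.odd [Finite E] [CharP E 2] [CharP ↥(fx σ) 2] (D : Dat c τ s0 c1) :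
    ¬ 2 ∣ orderOf (c.pa (comp ↥(fx σ) τ) * s0) := by
  have := Fintype.ofFinite E
  have := Fintype.ofFinite ↥(fx σ)
  have hodd : ∀ (K : Type _) [Field K] [Fintype K] [CharP K 2], 2 ∣ Fintype.card K := by
    intro K _ _ _
    have := (inferInstance : Fact (Nat.Prime 2))
    obtain ⟨n, -, hn⟩ := FiniteField.card K 2
    rw [hn]
    exact dvd_pow_self 2 n.ne_zero
  have hE := hodd E
  have hF := hodd ↥(fx σ)
  have hpE : 1 ≤ Fintype.card E := Fintype.card_pos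
  have hpF : 1 ≤ Fintype.card ↥(fx σ) := Fintype.card_pos
  have key : ∀ n : ℕ, n % 2 = 1 → (comp ↥(fx σ) τ) ^ n = 1 → ¬ 2 ∣ orderOf (c.pa (comp ↥(fx σ) τ) * s0) := by
    intro n hn h1 hd
    have hc : Commute (c.pa (comp ↥(fx σ) τ)) s0 := (comm_pa_of_one c D.act _).symm
    have h2 : (c.pa (comp ↥(fx σ) τ) * s0) ^ (n * (Fintype.card E - 1)) = 1 := by
      rw [hc.mul_pow, pow_mul, ← map_pow, h1, map_one, one_pow, one_mul, mul_comm, pow_mul, T0_pow ⟨_, _, D.act⟩, one_pow]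
    have h3 := hd.trans (orderOf_dvd_of_pow_eq_one h2)
    rcases Nat.prime_two.dvd_mul.1 h3 with h4 | h4 <;> omega
  rcases pow_of_trace 2 (comp ↥(fx σ) τ) (by
    intro h
    have h1 : tr (comp ↥(fx σ) τ) ^ 2 = 4 := h
    rw [tr_comp] at h1
    apply tau_ne (K := ↥(fx σ)) D.irr'
    have : τ ^ 2 = 0 := by linear_combination h1 + 2 * two_eq_zero ↥(fx σ)
    exact pow_eq_zero_iff (by norm_num) |>.1 this) with h | h
  · exact key _ (by omega) h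
  · exact key _ (by omega) h

/-- the products obtained from a decomposition -/
theorem Dat.cell [Finite L] [Finite E] [CharP E 2] [CharP ↥(fx σ) 2] (D : Dat c τ s0 c1) {g y v u κ : L} {k : E}
    {l : SL2 ↥(fx σ)} (hv : v ∈ Sg c.X Qb') (hu : u ∈ Sg c.X Qb) (hκ : c.Act κ k 1)
    (hk : k = 1 ∨ k = c1 ^ 2 ∨ k * c1 ^ 2 = 1) (hl : l = 1 ∨ tr l ≠ 0) (e : y * g * y⁻¹ = v * (c.pa l * κ) * u) :
    Pr (c.pa (comp ↥(fx σ) τ) * s0) g := by
  obtain ⟨m, n, hn1, hn2⟩ := exists_pair_irr (τ := τ) hl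
  have hn3 : tr n⁻¹ = τ := by rw [tr_inv, hn1]
  have hcc := comm_pa_of_one c hκ m⁻¹
  -- conjugation by `pa m`
  have e' : (c.pa m * y) * g * (c.pa m * y)⁻¹ =
      (c.pa m * v * (c.pa m)⁻¹) * (c.pa (m * l * m⁻¹) * κ) * (c.pa m * u * (c.pa m)⁻¹) := by
    rw [map_mul, map_mul]
    calc c.pa m * y * g * (c.pa m * y)⁻¹ = c.pa m * (y * g * y⁻¹) * (c.pa m)⁻¹ := by group
      _ = (c.pa m * v * (c.pa m)⁻¹) * (c.pa m * c.pa l * (κ * c.pa m⁻¹)) * (c.pa m * u * (c.pa m)⁻¹) := by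
        rw [e, map_inv]; group
      _ = _ := by rw [hcc]; group
  have hv' := pa_conj c (s := Qb') (by decide +kernel) (by decide +kernel) m v hv
  have hu' := pa_conj c (s := Qb) (by decide +kernel) (by decide +kernel) m u hu
  have D' := D.inv
  have hne := D.act.ne1
  -- the three cases
  have key : ∀ (a b : L) (ca cb : E), c.Act a ca 1 → c.Act b cb 1 → ca ≠ 1 → cb ≠ 1 → a * b = κ →
      Cj (c.pa (comp ↥(fx σ) τ) * s0) (c.pa (m * l * m⁻¹ * n) * a) → Cj (c.pa (comp ↥(fx σ) τ) * s0) (c.pa n⁻¹ * b) →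
      Pr (c.pa (comp ↥(fx σ) τ) * s0) g := by
    intro a b ca cb ha hb hca hcb hab h1 h2
    refine Pr.cell (x1 := c.pa (m * l * m⁻¹ * n) * a) (x2 := c.pa n⁻¹ * b)
      (Q := Sg c.X Qb) (Q' := Sg c.X Qb') (y := c.pa m * y) h1 h2
      (fpf_irr' c D.irr D.nrm1 ha hca hn2) (fpf_irr c D.irr D.nrm1 hb hcb hn3) hv' hu' ?_
    rw [e']
    congr 2
    have h5 := comm_pa_of_one c ha n⁻¹
    calc c.pa (m * l * m⁻¹) * κ = c.pa (m * l * m⁻¹ * n) * c.pa n⁻¹ * (a * b) := by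
          rw [hab, ← map_mul, mul_inv_cancel_right]
      _ = c.pa (m * l * m⁻¹ * n) * (c.pa n⁻¹ * a) * b := by group
      _ = _ := by rw [← h5]; group
  rcases hk with hk | hk | hk
  · refine key s0 s0⁻¹ c1 c1⁻¹ D.act D'.act D.ne1 D'.ne1 ?_ (D.cj hn2) (D.cj' hn3)
    rw [mul_inv_cancel]
    exact (c.act_one).unique (hκ.congr rfl hk rfl)
  · refine key s0 s0 c1 c1 D.act D.act D.ne1 D.ne1 ?_ (D.cj hn2) (D.cj hn3)
    exact (D.act.mul D.act).unique (hκ.congr rfl (by rw [hk]; ring) (by ring))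
  · refine key s0⁻¹ s0⁻¹ c1⁻¹ c1⁻¹ D'.act D'.act D'.ne1 D'.ne1 ?_ (D.cj' hn2) (D.cj' hn3)
    refine (D'.act.mul D'.act).unique (hκ.congr rfl ?_ (by ring))
    field_simp
    linear_combination hk

end Cfsg.Agent.H148.Hex
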