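import Cfsg.Agent.H148.SmallCore

/-!
# Groups of type `G₂` and `³D₄` over small fields of characteristic two: frames (helper148)
-/

set_option autoImplicit false

namespace Cfsg.Agent.H148.Hex

open Cfsg.Agent.SplitTwo Cfsg.Agent.TitsThree.RankTwoZ Cfsg.Agent.Lib.SL2Mat Cfsg.Agent.Cit.HexBase
  Cfsg.Agent.Cit.HexBase.HexGrp Cfsg.Agent.H148.SLTwo

universe u

variable {E : Type*} [Field E] {σ : E ≃+* E} {L : Type u} [Group L] {c : HexGrp σ L}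

/-- the cubic form of an element of `Qa` -/
def cf (σ : E ≃+* E) (b2 b3 b5 b6 x y : E) : E :=
  nrm σ y * b2 + trc σ (x * shp σ y) b3 + trc σ (shp σ x * y) b5 + nrm σ x * b6

theorem neg_eq [CharP E 2] (a : E) : -a = a := by
  have := two_eq_zero E
  linear_combination -a * this

theorem cf_smul (b2 b3 b5 b6 x y t : E) (hc : ∀ a : E, σ (σ (σ a)) = a) :
    cf σ b2 b3 b5 b6 (t * x) (t * y) = nrm σ t * cf σ b2 b3 b5 b6 x y := by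
  unfold cf nrm shp trc
  simp only [map_mul, hc]
  ring

theorem NF_act {t g : L} {c1 c6 b2 b3 b5 b6 : E} (ht : c.Act t c1 c6) (h : c.NF g b2 b3 b5 b6) :
    c.NF (t * g * t⁻¹) (c6 * nrm σ c1 * b2) (c6 * shp σ c1 * b3) (c6 * c1 * b5) (c6 * b6) := by
  obtain ⟨f2, f6, b4, f4, rfl⟩ := h
  refine ⟨mul_fix (mul_fix ht.fix (c.nf c1)) f2, mul_fix ht.fix f6, c6 ^ 2 * nrm σ c1 * b4,
    mul_fix (mul_fix (by rw [map_pow, ht.fix]) (c.nf c1)) f4, ?_⟩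
  rw [← ht.a2 _ f2, ← ht.a3, ← ht.a4 _ f4, ← ht.a5, ← ht.a6 _ f6]
  group

theorem n1_pb_up (x : E) : c.n1 * c.pb (up (-x)) * c.n1⁻¹ = c.pb (lo x) := by
  rw [HexGrp.n1, ← map_inv, ← map_mul, ← map_mul, wm_up']
  congr 2
  ring

/-- the component in `X 6` of the conjugates by `pb` -/
theorem NF_pb [CharP E 2] (hN : ∀ s : E, s ≠ 0 → nrm σ s = 1) {q : L} {b2 b3 b5 b6 : E}
    (hq : c.NF (c.n1⁻¹ * q * c.n1) b2 b3 b5 b6) (m : SL2 E) {d2 d3 d5 d6 : E}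
    (h : c.NF (c.pb m * q * (c.pb m)⁻¹) d2 d3 d5 d6) : d6 = cf σ b2 b3 b5 b6 (ent m 1 0) (ent m 1 1) := by
  have hd := det_eq m
  by_cases h11 : ent m 1 1 = 0
  · have h10 : ent m 1 0 ≠ 0 := by
      intro h0
      rw [h11, h0] at hd
      simp at hd
    have e : m = up (ent m 0 0 / ent m 1 0) * dg (ent m 1 0)⁻¹ (inv_ne_zero h10) * wm (-1) (neg_ne_zero.2 one_ne_zero) := by
      refine ext_ent ?_ ?_ ?_ ?_ <;>
        simp only [ent_mul, up_00, up_01, up_10, up_11, dg_00, dg_01, dg_10, dg_11, wm_00, wm_01, wm_10, wm_11]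
      · field_simp
        ring
      · rw [h11] at hd
        field_simp
        linear_combination -hd
      · simp
      · simp [h11]
    have eb : c.pb m = c.x1 (ent m 0 0 / ent m 1 0) * c.pb (dg (ent m 1 0)⁻¹ (inv_ne_zero h10)) * c.n1⁻¹ := by
      rw [c.n1_inv, ← c.pb_up, ← map_mul, ← map_mul]
      exact congrArg c.pb e
    have hA := c.act_b (ent m 1 0)⁻¹ (inv_ne_zero h10)
    have h1 := NF_act hA hq
    have h2 := h1.conj1 (-(ent m 0 0 / ent m 1 0))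
    have h3 := h2.congr (g' := c.pb m * q * (c.pb m)⁻¹) (by
      rw [c.x1_neg, eb]
      group) rfl rfl rfl rfl
    obtain ⟨-, -, -, e6⟩ := h.unique h3
    rw [e6, h11]
    unfold cf
    rw [hN _ (inv_ne_zero h10), hN _ h10]
    unfold nrm trc shp
    simp
  · have e : m = up (ent m 0 1 / ent m 1 1) * dg (ent m 1 1)⁻¹ (inv_ne_zero h11) * lo (ent m 1 0 / ent m 1 1) := by
      refine ext_ent ?_ ?_ ?_ ?_ <;>
        simp only [ent_mul, up_00, up_01, up_10, up_11, dg_00, dg_01, dg_10, dg_11, lo_00, lo_01, lo_10, lo_11]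
      · field_simp
        linear_combination hd
      · field_simp
        ring
      · field_simp
        ring
      · field_simp
        ring
    have h0 := hq.conj1 (ent m 1 0 / ent m 1 1)
    obtain ⟨k3, k5, h0', -, -⟩ := NF_n1 h0
    have hA := c.act_b (ent m 1 1)⁻¹ (inv_ne_zero h11)
    have h1 := NF_act hA h0'
    have h2 := h1.conj1 (-(ent m 0 1 / ent m 1 1))
    have eb : c.pb m = c.x1 (ent m 0 1 / ent m 1 1) * c.pb (dg (ent m 1 1)⁻¹ (inv_ne_zero h11)) *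
        (c.n1 * (c.x1 (ent m 1 0 / ent m 1 1))⁻¹ * c.n1⁻¹) := by
      rw [← c.x1_neg, ← c.pb_up, ← c.pb_up, n1_pb_up, ← map_mul, ← map_mul]
      exact congrArg c.pb e
    have h3 := h2.congr (g' := c.pb m * q * (c.pb m)⁻¹) (by
      rw [c.x1_neg, eb]
      group) rfl rfl rfl rfl
    obtain ⟨-, -, -, e6⟩ := h.unique h3
    rw [e6, hN _ (inv_ne_zero h11), inv_one, one_mul]
    have h4 := cf_smul (σ := σ) b2 b3 b5 b6 (ent m 1 0 / ent m 1 1) 1 (ent m 1 1) c.cube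
    rw [mul_div_cancel₀ _ h11, mul_one, hN _ h11, one_mul] at h4
    rw [h4]
    have h5 : nrm σ (1 : E) = 1 := nrm_one
    have h6 : shp σ (1 : E) = 1 := by unfold shp; simp
    unfold cf
    rw [h5, h6, mul_one, mul_one]
    have := neg_eq (trc σ (ent m 1 0 / ent m 1 1) b3)
    linear_combination this

/-- the component in `X 2` of the conjugates by `pb` -/
theorem NF_pb' [CharP E 2] (hN : ∀ s : E, s ≠ 0 → nrm σ s = 1) {q : L} {b2 b3 b5 b6 : E}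
    (hq : c.NF (c.n1⁻¹ * q * c.n1) b2 b3 b5 b6) (m : SL2 E) {d2 d3 d5 d6 : E}
    (h : c.NF (c.pb m * q * (c.pb m)⁻¹) d2 d3 d5 d6) : d2 = cf σ b2 b3 b5 b6 (ent m 0 0) (ent m 0 1) := by
  obtain ⟨k3, k5, h1, -, -⟩ := NF_n1 h
  have h2 := NF_pb hN hq (wm 1 one_ne_zero * m) (h1.congr (by rw [map_mul, HexGrp.n1]; group) rfl rfl rfl rfl)
  rw [h2]
  simp only [ent_mul, wm_10, wm_11]
  congr 1
  · rw [inv_one, zero_mul, add_zero, neg_one_mul, neg_eq]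
  · rw [inv_one, zero_mul, add_zero, neg_one_mul, neg_eq]

/-! ### The opposite side -/

theorem n6_pa_up (t : ↥(fx σ)) : c.n6 * c.pa (up t) * c.n6⁻¹ = c.pa (lo (-t)) := by
  rw [HexGrp.n6, ← map_inv, ← map_mul, ← map_mul, wm_up']
  congr 2
  field_simp

theorem n1_x4 {t : E} (ht : σ t = t) : c.n1 * c.x4 t * c.n1⁻¹ = c.x4 t := by
  have := c.pb_comm4 (wm 1 one_ne_zero) (c.mem4 ht)
  rw [show c.n1 = c.pb (wm 1 one_ne_zero) from rfl, this]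
  group

theorem n4_x2 [CharP E 2] (t : ↥(fx σ)) : c.n4 * c.x2 t * c.n4⁻¹ = c.pa (lo t) := by
  have ht : σ (t : E) = t := t.2
  have e1 : c.n6⁻¹ * c.x2 (t : E) * c.n6 = c.x4 t := by
    have := n6_x4 c ht
    rw [← this]
    group
  have e2 := n1_x4 (c := c) ht
  have e3 := n6_x4 c ht
  have e4 := c.n1_x2 (t : E) ht
  have e5 := n6_pa_up (c := c) t
  have : CharP ↥(fx σ) 2 := charP_fx
  rw [neg_eq] at e5
  calc c.n4 * c.x2 t * c.n4⁻¹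
      = c.n6 * (c.n1 * (c.n6 * (c.n1⁻¹ * (c.n6⁻¹ * c.x2 (t : E) * c.n6) * c.n1) * c.n6⁻¹) * c.n1⁻¹) * c.n6⁻¹ := by
        rw [n4_eq]; group
    _ = c.n6 * (c.n1 * (c.n6 * c.x4 (t : E) * c.n6⁻¹) * c.n1⁻¹) * c.n6⁻¹ := by
        have e6 : c.n1⁻¹ * c.x4 (t : E) * c.n1 = c.x4 t := by
          nth_rewrite 1 [← e2]
          group
        rw [e1, e6]
    _ = c.n6 * c.x6 (t : E) * c.n6⁻¹ := by rw [e3, e4]
    _ = _ := by rw [← e5, c.pa_up]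

theorem n4_inv_mem {q' : L} (h : q' ∈ Sg c.X Qa') : c.n4⁻¹ * q' * c.n4 ∈ Sg c.X Qa := by
  have hinv : Maps c.X c.n4⁻¹ (fun k => 2 - k) := c.maps_n4.inv fun k => by ring
  have := conj_Sg hinv (s := Qa') (t := Qa) (by decide +kernel) h
  rwa [inv_inv] at this

/-- the component in `X 0` of an element of `Qa'` -/
theorem split_Qa' [CharP E 2] {q' : L} {d2 d3 d5 d6 : E} (h : c.NF (c.n4⁻¹ * q' * c.n4) d2 d3 d5 d6) :
    ∃ v ∈ Sg c.X {8, 9, 10, 11}, q' = v * c.pa (lo ⟨d2, h.1⟩) := by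
  obtain ⟨f2, f6, b4, f4, e⟩ := id h
  obtain ⟨w, hw⟩ : ∃ w, w = c.x3 d3 * c.x4 b4 * c.x5 d5 * c.x6 d6 := ⟨_, rfl⟩
  have hwm : w ∈ Sg c.X {3, 4, 5, 6} := by
    rw [hw]
    exact mul_mem (mul_mem (mul_mem (c.sg (by decide) (c.mem3 _)) (c.sg (by decide) (c.mem4 f4)))
      (c.sg (by decide) (c.mem5 _))) (c.sg (by decide) (c.mem6 f6))
  have e1 : q' = (c.n4 * c.x2 d2 * c.n4⁻¹) * (c.n4 * w * c.n4⁻¹) := by
    have : c.n4⁻¹ * q' * c.n4 = c.x2 d2 * w := by rw [e, hw]; group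
    calc q' = c.n4 * (c.n4⁻¹ * q' * c.n4) * c.n4⁻¹ := by group
      _ = _ := by rw [this]; group
  have e2 := n4_x2 (c := c) ⟨d2, h.1⟩
  have h2 : c.n4 * w * c.n4⁻¹ ∈ Sg c.X {8, 9, 10, 11} := conj_Sg c.maps_n4 (by decide +kernel) hwm
  refine ⟨c.pa (lo ⟨d2, h.1⟩) * (c.n4 * w * c.n4⁻¹) * (c.pa (lo ⟨d2, h.1⟩))⁻¹, ?_, ?_⟩
  · exact c.conj_mem_Sg (k := 0) (by decide +kernel) ((c.pa_lo _).2 ⟨_, rfl⟩) h2
  · rw [inv_mul_cancel_right, ← e2]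
    exact e1

theorem split_Qa {q : L} {d2 d3 d5 d6 : E} (h : c.NF q d2 d3 d5 d6) :
    ∃ u ∈ Sg c.X {2, 3, 4, 5}, q = c.pa (up ⟨d6, h.2.1⟩) * u := by
  obtain ⟨f2, f6, b4, f4, e⟩ := id h
  have e6 : c.pa (up ⟨d6, h.2.1⟩) = c.x6 d6 := c.pa_up _
  rw [e6]
  refine ⟨(c.x6 d6)⁻¹ * (c.x2 d2 * c.x3 d3 * c.x4 b4 * c.x5 d5) * c.x6 d6, ?_, by rw [e]; group⟩
  have h1 := c.conj_mem_Sg (k := 6) (s := {2, 3, 4, 5}) (by decide +kernel) (c.mem6 (neg_fix f6))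
    (mul_mem (mul_mem (mul_mem (c.sg (by decide) (c.mem2 f2)) (c.sg (by decide) (c.mem3 d3)))
      (c.sg (by decide) (c.mem4 f4))) (c.sg (by decide) (c.mem5 d5)) : c.x2 d2 * c.x3 d3 * c.x4 b4 * c.x5 d5 ∈ _)
  rwa [c.x6_neg f6, inv_inv] at h1

/-- the decomposition given by a frame -/
theorem FA.cell [CharP E 2] (hN : ∀ s : E, s ≠ 0 → nrm σ s = 1) {g q' q : L} {M : SL2 E} {r : ↥(fx σ)} {hr : r ≠ 0}
    (h : FA c g q' M r hr q) (hs : ent M 0 0 ≠ 0) {a2 a3 a5 a6 b2 b3 b5 b6 : E}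
    (ha : c.NF (c.n4⁻¹ * q' * c.n4) a2 a3 a5 a6) (hb : c.NF q b2 b3 b5 b6) :
    ∃ v ∈ Sg c.X Qb', ∃ u ∈ Sg c.X Qb, g = v * (c.pa (lo ⟨a2, ha.1⟩ * dg r hr * up ⟨b6, hb.2.1⟩) *
      c.pb (dg (ent M 0 0) hs)) * u := by
  obtain ⟨v1, hv1, ev⟩ := split_Qa' ha
  obtain ⟨u1, hu1, eu⟩ := split_Qa hb
  obtain ⟨-, -, e⟩ := h
  have eM := ldu M hs
  obtain ⟨a, ha'⟩ : ∃ a, a = ent M 1 0 / ent M 0 0 := ⟨_, rfl⟩
  obtain ⟨b, hb'⟩ : ∃ b, b = ent M 0 1 / ent M 0 0 := ⟨_, rfl⟩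
  rw [← ha', ← hb'] at eM
  obtain ⟨b1, hb1, e1⟩ := T0_comm_left (c := c) (s := {1}) (pa_dg_T0 c r hr) (g := c.pb (up b)) (pb_up_mem c (by decide) _)
  obtain ⟨A, hA⟩ : ∃ A, A = lo (⟨a2, ha.1⟩ : ↥(fx σ)) := ⟨_, rfl⟩
  obtain ⟨B, hB⟩ : ∃ B, B = up (⟨b6, hb.2.1⟩ : ↥(fx σ)) := ⟨_, rfl⟩
  rw [← hA] at ev
  rw [← hB] at eu
  rw [← hA, ← hB]
  have hact := c.act_b (ent M 0 0) hs
  rw [hN _ hs, inv_one] at hact
  have hcc := comm_pa_of_one c hact (dg r hr * B)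
  have k1 := pa_conj c (s := Qb') (by decide +kernel) (by decide +kernel) A _ (pb_lo_mem c (by decide) a)
  have k2 := pa_conj c (s := Qb) (by decide +kernel) (by decide +kernel) B⁻¹ _ (Sg_mono (by decide +kernel) hb1 : b1 ∈ Sg c.X Qb)
  refine ⟨v1 * (c.pa A * c.pb (lo a) * (c.pa A)⁻¹), mul_mem (Sg_mono (by decide +kernel) hv1) k1,
    (c.pa B⁻¹ * b1 * (c.pa B⁻¹)⁻¹) * u1, mul_mem k2 (Sg_mono (by decide +kernel) hu1), ?_⟩
  have eM' : c.pb M = c.pb (lo a) * c.pb (dg (ent M 0 0) hs) * c.pb (up b) := by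
    rw [← map_mul, ← map_mul]
    exact congrArg c.pb eM
  rw [e, ev, eu, eM']
  calc v1 * c.pa A * (c.pb (lo a) * c.pb (dg (ent M 0 0) hs) * c.pb (up b) * c.pa (dg r hr)) * (c.pa B * u1)
      = v1 * c.pa A * c.pb (lo a) * c.pb (dg (ent M 0 0) hs) * (c.pb (up b) * c.pa (dg r hr)) * c.pa B * u1 := by group
    _ = v1 * (c.pa A * c.pb (lo a) * (c.pa A)⁻¹) * c.pa A * (c.pb (dg (ent M 0 0) hs) * c.pa (dg r hr * B)) *
          (c.pa B⁻¹ * b1 * (c.pa B⁻¹)⁻¹) * u1 := by rw [e1, map_inv, map_mul c.pa (dg r hr)]; group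
    _ = _ := by rw [hcc, mul_assoc A, map_mul c.pa A]; group

/-- **The condition on a bad element.** -/
theorem Dat.bad [Finite L] [Finite E] [CharP E 2] [CharP ↥(fx σ) 2] {τ : ↥(fx σ)} {s0 : L} {c1 : E} (D : Dat c τ s0 c1)
    {g : L} (hg : ¬ Pr (c.pa (comp ↥(fx σ) τ) * s0) g) {y q' q : L} {M : SL2 E} {r : ↥(fx σ)} {hr : r ≠ 0}
    (hF : FA c (y * g * y⁻¹) q' M r hr q) {a2 a3 a5 a6 b2 b3 b5 b6 : E}
    (ha : c.NF (c.n1⁻¹ * (c.n4⁻¹ * q' * c.n4) * c.n1) a2 a3 a5 a6) (hb : c.NF (c.n1⁻¹ * q * c.n1) b2 b3 b5 b6)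
    (m : SL2 E) (hs : ent (m * M * conjGL (dgl (r : E)⁻¹ (inv_ne_zero (coe_ne' hr))) m⁻¹) 0 0 = 1 ∨
      ent (m * M * conjGL (dgl (r : E)⁻¹ (inv_ne_zero (coe_ne' hr))) m⁻¹) 0 0 = c1 ∨
      ent (m * M * conjGL (dgl (r : E)⁻¹ (inv_ne_zero (coe_ne' hr))) m⁻¹) 0 0 * c1 = 1) :
    (r : E) + (r : E)⁻¹ + r * cf σ a2 a3 a5 a6 (ent m 0 0) (ent m 0 1) * cf σ b2 b3 b5 b6 (ent m 1 0) (ent m 1 1) = 0 ∧
      ¬ ((r : E) = 1 ∧ cf σ a2 a3 a5 a6 (ent m 0 0) (ent m 0 1) = 0 ∧ cf σ b2 b3 b5 b6 (ent m 1 0) (ent m 1 1) = 0) := by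
  have hF' := hF.conj_pb m
  obtain ⟨N, hNe⟩ : ∃ N, N = m * M * conjGL (dgl (r : E)⁻¹ (inv_ne_zero (coe_ne' hr))) m⁻¹ := ⟨_, rfl⟩
  rw [← hNe] at hF' hs
  have hc1 := D.act.ne1
  have hs0 : ent N 0 0 ≠ 0 := by
    rcases hs with h | h | h
    · rw [h]; exact one_ne_zero
    · rw [h]; exact hc1
    · exact left_ne_zero_of_mul_eq_one h
  have hcomm : c.n4⁻¹ * c.pb m = c.pb m * c.n4⁻¹ := by
    have := c.comm_pb_p4 m (wm 1 one_ne_zero)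
    rw [show c.p4 (wm 1 one_ne_zero) = c.n4 from rfl] at this
    calc c.n4⁻¹ * c.pb m = c.n4⁻¹ * (c.pb m * c.n4) * c.n4⁻¹ := by group
      _ = _ := by rw [this]; group
  have hp : c.n4⁻¹ * (c.pb m * q' * (c.pb m)⁻¹) * c.n4 = c.pb m * (c.n4⁻¹ * q' * c.n4) * (c.pb m)⁻¹ := by
    calc c.n4⁻¹ * (c.pb m * q' * (c.pb m)⁻¹) * c.n4 = (c.n4⁻¹ * c.pb m) * q' * (c.n4⁻¹ * c.pb m)⁻¹ := by group
      _ = _ := by rw [hcomm]; group
  obtain ⟨d2, d3, d5, d6, hd⟩ := c.exists_NF (n4_inv_mem hF'.1)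
  obtain ⟨e2, e3, e5, e6, he⟩ := c.exists_NF hF'.2.1
  obtain ⟨v, hv, u, hu, e⟩ := hF'.cell D.nrm1 hs0 hd he
  have k1 := NF_pb' D.nrm1 ha m (hd.congr hp rfl rfl rfl rfl)
  have k2 := NF_pb D.nrm1 hb m he
  rw [← k1, ← k2]
  obtain ⟨l, hl⟩ : ∃ l, l = lo (⟨d2, hd.1⟩ : ↥(fx σ)) * dg r hr * up ⟨e6, he.2.1⟩ := ⟨_, rfl⟩
  rw [← hl] at e
  have hA := c.act_b (ent N 0 0) hs0
  rw [D.nrm1 _ hs0, inv_one] at hA
  have hbad : ¬ (l = 1 ∨ tr l ≠ 0) := by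
    intro hcon
    apply hg
    refine Pr.of_conj y (Pr.of_conj (c.pb m) (D.cell (y := 1) hv hu hA ?_ hcon (by rw [← e]; group)))
    rcases hs with h | h | h
    · left; rw [h]; ring
    · right; left; rw [h]
    · right; right
      linear_combination (ent N 0 0 * c1 + 1) * h
  push Not at hbad
  obtain ⟨hl1, hl2⟩ := hbad
  have htr : ((tr l : ↥(fx σ)) : E) = (r : E) + (r : E)⁻¹ + r * d2 * e6 := by
    rw [hl]
    unfold tr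
    simp only [ent_mul, lo_00, lo_01, lo_10, lo_11, dg_00, dg_01, dg_10, dg_11, up_00, up_01, up_10, up_11]
    push_cast
    ring
  refine ⟨by rw [← htr, hl2]; rfl, ?_⟩
  rintro ⟨h1, h2, h3⟩
  apply hl1
  rw [hl]
  have h1' : r = 1 := Subtype.ext h1
  have h2' : (⟨d2, hd.1⟩ : ↥(fx σ)) = 0 := Subtype.ext h2
  have h3' : (⟨e6, he.2.1⟩ : ↥(fx σ)) = 0 := Subtype.ext h3
  subst h1'
  rw [h2', h3', lo_zero, up_zero, dg_one', one_mul, one_mul]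

end Cfsg.Agent.H148.Hex
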